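import Cfsg.Agent.Lib.Solv.AltSec.Two.DataFam

/-!
Certificate data.
-/

set_option autoImplicit false

namespace Cfsg.Agent.Solv.AltSec.Two

/-- The data of the space. -/
def aSpec : Spec where
  n := 9
  N := 945
  T := 0x318645027475013628320576148321765840310576842308465712206154738476023851218467530471503286476103285321765084320746581320576481310576284617504382475103268321765408410765238318654207410763528308645217310576428308465127386514270216504387206154387207365841207546813286435710586403721475203618675103428476023518487352610376042518320765148210576348218465037487532016310765842208465731287354601187435620207635148185043627386524071476213850376412850176423850108467532307625418307465218186425307107356428213765408084625317486503127486502317386504217580643217470523186675103284476023185408653217387540216320765481310765284218635470210576483218465370208465173108546372187435062672403158607524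38158604327158632417047502316848753216037640215806351428731076542830865412730865241728753410620846531728735401627614308520763548127540316820746538128635407118643527017530426817254306817450326810652438710635428718504327608452317608743216521763584021746583020746581328635471010726584318625473018643570208624573170615483257410362848652370138652471058614372058642371047512360838645271067502341847621350838754261037641250837624150821076534821865403710846523708743512637642180516530472820865473128754360117642350818735462007632451818652403717504382607532481608541362708524361748651307237541086227541386067521384047630285147613285036510274827643185026530174807641385207624385154328710608752643108735642180476532121763540820761543828651430721746530820746513828635410710726543818643502708641532708624531710376542808561432708364521787351420670615432868513420757410328668450321768253410757240318648652301748652130738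65241075846132075826431074725130863856421076750231845874302164762130853875421063764120850653128742107654832186543702086541731086354721084653721873540620874352617651032487853241606740231586714230585864132705862431704752130683865421703764210581764352081653042870651342870625341878524031762086543172875430162875413061764230851873542061760432852865430711865243701754230681863542701750432680753241680715432680745231681854302760854132760852431760835421768734120658763210547650218431076358421074658321863547020861547320864357218751346207641035286850437216853247105740236184865137203754106282865437102754136085863427104750326184753126083640125872753416082640315876752134085874326104763025184761325083651024872764315082653014872651304871086542370875241360873541268760431258763240157650238147852430166742138052653107840653247188540236171875436201764305280764135280762435188652134070754138260752438168642137050854326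17874302516874132506763102485543287061375402861175432860164302758675302841675132840564102738476321850365021748165320748076432851865302741865132740754102638543187026087546321876415320876245310875614320783654210670543218107635428186504327107465328186354027086154327086435217875304216875134206764103285082654317085634217874503216872534106762403185685043217685324107574023186681543207684523107571423086486530217486513207375410286286543107275413086584632107473502186471532086361402875274531086263401875786430215675213084587432106476302185476132085365102874276431085265301874108654372187543062087524361087354261876043251876324150765023148807654312786354201675043281674213058783542160670432158673412058560312847786532140675402138586432170475302168475132068364102857275431068264301857265310847065324187854023176851423076187543206176430285076413285076243185186543270075413268075243168864213057073542168860432157863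41205775031284686540213708543217687430216587413206576310285487243106576230185476521084354328761087650413276854302165741382018654370208652473108635472187504362187532461076402351868541372068524371057421360848653271037540261817543260816430258747523160836420158716423058778643251067530241867513240856410238747632150836502148716532048715402837686504312708754312687641302587624301576521380478543201667430281567413280556310278415420867314328756085421360707643251886530241786513240775410238607543281686430271586413270575310268487432150676302148554318726037542186006432175867532184056402173836521074805421863704328751604318725686532174075402163854308721687650432187615432087643521076530421876513420887265431076450321878564321067451320867254310810765432818654302708652431708635421787504321687532410676402318508465321787154320687452310676142308587653021487651320468541320768524310757421308668354210757043218657341208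64603128754865321073754021861754320861643028754735210863604218751634208757864321056753021846751320845641028734763210853650218741653208748650432718615432700875432618764132508762431507652130487865432016754132806752431807854321606743021586741320585631028476724310585623018476754210384753210683640218571643208571542087361432876058542130768504321768534120767403128650764321858653021748651320747541028630754321688643021578641320577531028468624310577523018468654210378743210657630218547613208546541087325431876028765240316574328105463027180865437218754136208752436107642135086854327105743026185741326084631025873754216080643215873641205870531284766753214085640213873652104870542183760432871658654130278652430178764320157653028147651328046541027836743218055630217840431875628543026178541326077431025868653214077540213868643217057530216847632104855430871622643107585642107382541086372431875062430871567542106385421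87306542087136432876105876524310876354210765043218765324108654023187761543208764523108674532108563402187561432087086543217875413206875243106764213085873542106760432185763412085650312874876532104765402183685432107574302186574132086463102875572431086462301875375421086064321875362410875052318764675321084564021873365210874054218763043287651865413270865243170863542170750432168876432150765302148765132048654102837675432180564302178564132078674321058563021847561320847564310827364210857053218746043187625854302176854132076743102865852431076742301865865321074754021863864321057753021846751320846754310826763210854650218743543087621765413820546321708875432610764302518764132508653102487574321608463021587264310587253018476564210387254108376243187065865432017754302816754132806765321804654021783563210784243087561854321607743021586754210386753210684652108374542187063542087361432876051153208647453108627143087526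34218705614208735613287604564310852753218704654108732643187602576541320876524310865421308776354210865043218765341208756342108745032187687543210676430218576413208565310287476243108565230187476542108357432108646302187546132087526431087525130876456421087325410876324318765086543217075430216875413206875243106876532104865402183756432107845302186756321084745021873645320871625310874624308761585432107674302186574132086575421086375321084664021873564320871565210874354218763054208761343287651076543281065430271843521068776432150865302148746321058715320847645310827614308726575432180664302178565421078345210867334218756013287645074321058664310827564210857353218746054108726343187625004218753634208751603287641534108725603187624553208741653108724643087621576543210865430218765413208754310287665243108754230187645231087676432108565302187465132087465431087246321087535021876415320876414028765345310876214308765275432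10686430218576413208576542108374532108674521087363421876051420876351328765047432108656302187546431087526421087355321876045410876324318765026543217083241085760231874656532104873521084760421873653420871650328761546432107855431086723410875620318764526321084755320871645310874624308761524321875062410875362318764054320871562308761455210874364218763054208761353287651046543210875430218765413208763412087650312876546532108745402187635432087613521087640421876533420876510328765416432108575302187465431087263421087560321876453410876250318765246321087545320876415310876244308765215432106872130874655421083764321870652410873652318760545321086744320875612308764515210873644218760534208763513287650411320875464310875261308764254210873563218760451287650344108763253187650245432108764302187652301876545421087634321876502410876532318765405321087464320876152310876452308765145210876434218765304208765133287654104321085761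32087465102876354431087265130876254421087563321876450120876453128765340410876253318765240321087546021876435320876415028765314310876245018765234308765214432108765132087654431087652130876542421087635321876504120876534128765403410876532318765402321087465021876354320876154028765143310876452018765342308765142210876435218765304208765134287654103321087654021876543320876541028765431310876524018765423308765421210876354218765043208765341287654031108765324187654023210876543218765430208765413287654310108765243187654230087654213108765432187654302087654132876543102087654321876543021876543210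
  K := [
  (36344967696, 1), (36344963841, 1), (36344959026, 1), (36092326416, 1), (35776770576, 1),
  (35199678036, 1), (36343984641, 1), (36312526881, 1), (36344955171, 1), (36092322561, 1),
  (35776766721, 1), (35199674181, 1), (36343980816, 1), (36312515346, 1), (36092317746, 1),
  (35776761906, 1), (35199669366, 1), (36343972146, 1), (36312523056, 1), (35524129296, 1),
  (34947036756, 1), (36093309441, 1), (35556569121, 1), (34631480916, 1), (35525112321, 1),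
  (36061851681, 1), (35198694981, 1), (35167237221, 1), (36343975971, 1), (35775787521, 1),
  (36311543826, 1), (36312519171, 1), (35807244321, 1), (36329238816, 1), (36327272706, 1),
  (36092313891, 1), (35776758051, 1), (35199665511, 1), (35524125441, 1), (34947032901, 1),
  (36093305616, 1), (35556557586, 1), (34631477061, 1), (35525108496, 1), (36061840146, 1),
  (35198691156, 1), (35167225686, 1), (35775783696, 1), (36311532321, 1), (35807232786, 1),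
  (36329231106, 1), (36327265056, 1), (35524120626, 1), (34947028086, 1), (36093296946, 1),
  (35556565296, 1), (34631472246, 1), (35525099826, 1), (36061847856, 1), (35198682486, 1),
  (35167233396, 1), (35775775026, 1), (36311536176, 1), (35807240496, 1), (36329234481, 1),
  (36327260721, 1), (34378839636, 1), (34948019781, 1), (34411279461, 1), (36093300771, 1),
  (35557552146, 1), (35556561411, 1), (35823956256, 1), (35825922306, 1), (34379822661, 1),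
  (34916562021, 1), (35525103651, 1), (35810193426, 1), (36061843971, 1), (36045140256, 1),
  (35541823746, 1), (34630497861, 1), (35198686311, 1), (35166254166, 1), (34661954661, 1),
  (35167229511, 1), (35183949156, 1), (35181983046, 1), (35775778851, 1), (36311539971, 1),
  (36058902546, 1), (35807236611, 1), (36329226771, 1), (36327268371, 1), (35539857696, 1),
  (36043174146, 1), (35524116771, 1), (34947024231, 1), (34631468391, 1), (34378835781, 1),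
  (34948015956, 1), (34411267926, 1), (35557540641, 1), (35823948546, 1), (35825914656, 1),
  (34379818836, 1), (34916550486, 1), (35810181921, 1), (36045132546, 1), (35541816096, 1),
  (34630494036, 1), (35166242661, 1), (34661943126, 1), (35183941446, 1), (35181975396, 1),
  (36058891041, 1), (35539849986, 1), (36043166496, 1), (34378830966, 1), (34948007286, 1),
  (34411275636, 1), (35557544496, 1), (35823951921, 1), (35825910321, 1), (34379810166, 1),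
  (34916558196, 1), (35810185776, 1), (36045135921, 1), (35541811761, 1), (34630485366, 1),
  (35166246516, 1), (34661950836, 1), (35183944821, 1), (35181971061, 1), (36058894896, 1),
  (35539853361, 1), (36043162161, 1), (34948011111, 1), (34412262486, 1), (34411271751, 1),
  (34678666596, 1), (34680632646, 1), (35557548291, 1), (35823944211, 1), (35825917971, 1),
  (34379813991, 1), (34664903766, 1), (34916554311, 1), (34899850596, 1), (34396534086, 1),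
  (35810189571, 1), (36045128211, 1), (35541819411, 1), (34630489191, 1), (34913612886, 1),
  (35166250311, 1), (34661946951, 1), (34394568036, 1), (34897884486, 1), (35183937111, 1),
  (35181978711, 1), (36058898691, 1), (35539845651, 1), (36043169811, 1), (34378827111, 1),
  (34412250981, 1), (34678658886, 1), (34680624996, 1), (34664892261, 1), (34899842886, 1),
  (34396526436, 1), (34913601381, 1), (34394560326, 1), (34897876836, 1), (34412254836, 1),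
  (34678662261, 1), (34680620661, 1), (34664896116, 1), (34899846261, 1), (34396522101, 1),
  (34913605236, 1), (34394563701, 1), (34897872501, 1), (34412258631, 1), (34678654551, 1),
  (34680628311, 1), (34664899911, 1), (34899838551, 1), (34396529751, 1), (34913609031, 1),
  (34394555991, 1), (34897880151, 1)]

/-- Generators of the subgroup. -/
def aGens : List (List (ℕ × ℕ) × ℤ) := [
  ([(0, 1), (2, 3)], 1), ([(0, 2), (1, 3)], 1), ([(4, 5), (6, 7)], 1), ([(4, 6), (5, 7)], 1),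
  ([(0, 4), (1, 5), (2, 6), (3, 7)], 1), ([(0, 1), (4, 5)], 1),
  ([(0, 1), (1, 2), (4, 5), (5, 6)], 1)]

/-- The enumeration of the subgroup. -/
def aSteps : List (ℕ × ℕ) := [
  (0, 0), (1, 0), (2, 0), (3, 0), (4, 0), (5, 0), (6, 0), (1, 1), (2, 1), (3, 1), (4, 1),
  (5, 1), (6, 1), (2, 2), (3, 2), (4, 2), (5, 2), (6, 2), (3, 3), (4, 3), (5, 3), (6, 3),
  (4, 4), (5, 4), (6, 4), (5, 5), (6, 5), (1, 6), (3, 6), (6, 6), (1, 7), (3, 7), (5, 7),
  (6, 7), (2, 8), (3, 8), (4, 8), (3, 9), (4, 9), (5, 9), (6, 9), (4, 10), (5, 10), (6, 10),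
  (5, 11), (6, 11), (3, 12), (6, 12), (3, 13), (5, 13), (6, 13), (3, 14), (4, 14), (5, 14),
  (6, 14), (4, 15), (5, 15), (6, 15), (5, 16), (6, 16), (3, 17), (6, 17), (3, 18), (5, 18),
  (6, 18), (4, 19), (5, 20), (6, 20), (1, 21), (6, 21), (1, 22), (5, 22), (6, 22), (5, 23),
  (6, 23), (1, 24), (6, 24), (1, 25), (5, 25), (6, 25), (1, 26), (3, 26), (6, 26), (1, 27),
  (3, 27), (5, 27), (6, 27), (3, 28), (6, 28), (6, 29), (3, 31), (5, 31), (6, 31), (5, 32),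
  (6, 32), (3, 35), (4, 35), (4, 36), (4, 38), (5, 39), (6, 39), (6, 40), (5, 41), (6, 41),
  (5, 42), (6, 42), (6, 43), (5, 44), (6, 44), (1, 45), (6, 45), (1, 46), (5, 46), (6, 46),
  (6, 47), (5, 49), (6, 49), (4, 52), (5, 53), (6, 53), (6, 54), (5, 55), (6, 55), (5, 56),
  (6, 56), (6, 57), (5, 58), (6, 58), (1, 59), (6, 59), (1, 60), (5, 60), (6, 60), (6, 61),
  (5, 63), (6, 63), (3, 67), (6, 67), (3, 68), (5, 68), (6, 68), (6, 69), (5, 71), (6, 71),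
  (3, 74), (6, 74), (3, 75), (5, 75), (6, 75), (6, 76), (5, 78), (6, 78), (3, 81), (6, 81),
  (6, 82), (3, 84), (5, 84), (6, 84), (5, 85), (6, 85), (6, 88), (5, 91), (6, 91), (4, 96),
  (6, 100), (5, 101), (6, 101), (6, 105), (5, 106), (6, 106), (6, 110), (5, 112), (6, 112),
  (6, 119), (5, 120), (6, 120), (6, 124), (5, 125), (6, 125), (6, 129), (5, 131), (6, 131),
  (6, 137), (5, 139), (6, 139), (6, 145), (5, 147), (6, 147), (6, 153), (5, 156), (6, 156)]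

/-- Words for the representatives. -/
def aWords : List (List (ℕ × ℕ)) := [
  [], [(0, 1), (1, 2)], [(0, 1), (1, 2), (2, 3), (3, 4), (4, 5), (5, 6), (6, 7), (7, 8)],
  [(0, 2), (1, 2)], [(0, 2), (1, 3), (2, 3), (3, 4), (4, 5), (5, 6), (6, 7), (7, 8)],
  [(0, 2), (1, 2), (2, 3), (3, 4), (4, 5), (5, 6), (6, 7), (7, 8)],
  [(0, 2), (1, 3), (2, 4), (3, 5), (4, 6), (5, 7), (6, 8), (7, 8)],
  [(0, 3), (3, 4), (4, 5), (5, 6), (6, 7), (7, 8)],
  [(1, 3), (3, 4), (4, 5), (5, 6), (6, 7), (7, 8)],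
  [(0, 3), (1, 4), (3, 5), (4, 6), (5, 7), (6, 8)],
  [(2, 3), (3, 4), (4, 5), (5, 6), (6, 7), (7, 8)],
  [(0, 3), (2, 4), (3, 5), (4, 6), (5, 7), (6, 8)],
  [(1, 3), (2, 4), (3, 5), (4, 6), (5, 7), (6, 8)],
  [(0, 3), (1, 4), (2, 5), (3, 6), (4, 7), (5, 8)],
  [(0, 3), (1, 2), (2, 3), (3, 4), (4, 5), (5, 6), (6, 7), (7, 8)],
  [(0, 4), (1, 2), (2, 3), (3, 5), (4, 6), (5, 7), (6, 8), (7, 8)],
  [(0, 1), (1, 3), (2, 3), (3, 4), (4, 5), (5, 6), (6, 7), (7, 8)],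
  [(0, 1), (1, 4), (2, 3), (3, 5), (4, 6), (5, 7), (6, 8), (7, 8)],
  [(0, 3), (1, 4), (2, 3), (3, 5), (4, 6), (5, 7), (6, 8), (7, 8)],
  [(0, 4), (1, 5), (2, 3), (3, 6), (4, 7), (5, 8), (6, 7), (7, 8)],
  [(0, 1), (1, 2), (2, 4), (3, 5), (4, 6), (5, 7), (6, 8), (7, 8)],
  [(0, 3), (1, 2), (2, 4), (3, 5), (4, 6), (5, 7), (6, 8), (7, 8)],
  [(0, 4), (1, 2), (2, 5), (3, 6), (4, 7), (5, 8), (6, 7), (7, 8)],
  [(0, 1), (1, 3), (2, 4), (3, 5), (4, 6), (5, 7), (6, 8), (7, 8)],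
  [(0, 1), (1, 4), (2, 5), (3, 6), (4, 7), (5, 8), (6, 7), (7, 8)],
  [(0, 3), (1, 4), (2, 5), (3, 6), (4, 7), (5, 8), (6, 7), (7, 8)],
  [(0, 4), (1, 5), (2, 6), (3, 7), (4, 8), (5, 8), (6, 8), (7, 8)],
  [(0, 3), (1, 3), (2, 3), (3, 4), (4, 5), (5, 6), (6, 7), (7, 8)],
  [(0, 4), (1, 3), (2, 3), (3, 5), (4, 6), (5, 7), (6, 8), (7, 8)],
  [(0, 4), (1, 4), (2, 3), (3, 5), (4, 6), (5, 7), (6, 8), (7, 8)],
  [(0, 5), (1, 3), (2, 4), (3, 6), (4, 7), (5, 8), (6, 8), (7, 8)],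
  [(0, 2), (1, 4), (2, 4), (3, 5), (4, 6), (5, 7), (6, 8), (7, 8)],
  [(0, 2), (1, 4), (2, 3), (3, 5), (4, 6), (5, 7), (6, 8), (7, 8)],
  [(0, 2), (1, 5), (2, 4), (3, 6), (4, 7), (5, 8), (6, 7), (7, 8)],
  [(0, 3), (1, 4), (2, 4), (3, 5), (4, 6), (5, 7), (6, 8), (7, 8)],
  [(0, 4), (1, 5), (2, 5), (3, 6), (4, 7), (5, 8), (6, 7), (7, 8)],
  [(0, 4), (1, 5), (2, 3), (3, 6), (4, 7), (5, 8), (6, 8), (7, 8)],
  [(0, 5), (1, 6), (2, 4), (3, 7), (4, 8), (7, 8)],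
  [(0, 2), (1, 2), (2, 4), (3, 5), (4, 6), (5, 7), (6, 8), (7, 8)],
  [(0, 2), (1, 3), (2, 5), (3, 6), (4, 7), (5, 8), (6, 8), (7, 8)],
  [(0, 3), (1, 3), (2, 4), (3, 5), (4, 6), (5, 7), (6, 8), (7, 8)],
  [(0, 4), (1, 3), (2, 5), (3, 6), (4, 7), (5, 8), (6, 7), (7, 8)],
  [(0, 4), (1, 4), (2, 5), (3, 6), (4, 7), (5, 8), (6, 7), (7, 8)],
  [(0, 5), (1, 3), (2, 6), (3, 7), (4, 8), (6, 7)],
  [(0, 2), (1, 4), (2, 5), (3, 6), (4, 7), (5, 8), (6, 8), (7, 8)],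
  [(0, 2), (1, 5), (2, 6), (3, 7), (4, 8), (5, 6)],
  [(0, 4), (1, 5), (2, 6), (3, 7), (4, 8), (5, 8)],
  [(0, 5), (1, 6), (2, 7), (3, 8), (4, 5), (5, 6), (6, 7), (7, 8)],
  [(0, 4), (3, 5), (4, 6), (5, 7), (6, 8), (7, 8)],
  [(0, 4), (1, 3), (3, 5), (4, 6), (5, 7), (6, 8)],
  [(0, 5), (1, 4), (3, 6), (4, 7), (5, 8), (6, 8)],
  [(0, 4), (2, 3), (3, 5), (4, 6), (5, 7), (6, 8)],
  [(0, 5), (2, 4), (3, 6), (4, 7), (5, 8), (6, 8)],
  [(0, 5), (1, 3), (2, 4), (3, 6), (4, 7), (5, 8)],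
  [(0, 6), (1, 4), (2, 5), (3, 7), (4, 8), (5, 6), (6, 8), (7, 8)],
  [(1, 4), (3, 5), (4, 6), (5, 7), (6, 8), (7, 8)],
  [(0, 3), (1, 5), (3, 6), (4, 7), (5, 8), (7, 8)],
  [(1, 4), (2, 3), (3, 5), (4, 6), (5, 7), (6, 8)],
  [(0, 3), (1, 5), (2, 4), (3, 6), (4, 7), (5, 8)],
  [(1, 5), (2, 4), (3, 6), (4, 7), (5, 8), (6, 8)],
  [(0, 3), (1, 6), (2, 5), (3, 7), (4, 8), (5, 7)],
  [(0, 4), (1, 5), (3, 6), (4, 7), (5, 8), (6, 7)], [(0, 5), (1, 6), (3, 7), (4, 8)],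
  [(0, 4), (1, 5), (2, 3), (3, 6), (4, 7), (5, 8)],
  [(0, 5), (1, 6), (2, 4), (3, 7), (4, 8), (6, 8)],
  [(0, 6), (1, 7), (2, 5), (3, 8), (4, 6), (5, 7), (6, 7), (7, 8)],
  [(2, 4), (3, 5), (4, 6), (5, 7), (6, 8), (7, 8)],
  [(0, 3), (2, 5), (3, 6), (4, 7), (5, 8), (7, 8)],
  [(1, 3), (2, 5), (3, 6), (4, 7), (5, 8), (7, 8)],
  [(0, 3), (1, 4), (2, 6), (3, 7), (4, 8), (5, 7), (6, 8), (7, 8)],
  [(0, 4), (2, 5), (3, 6), (4, 7), (5, 8), (6, 7)],
  [(0, 5), (1, 4), (2, 6), (3, 7), (4, 8), (6, 8)], [(0, 5), (2, 6), (3, 7), (4, 8)],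
  [(0, 6), (1, 4), (2, 7), (3, 8), (4, 6), (5, 6), (6, 7), (7, 8)],
  [(1, 4), (2, 5), (3, 6), (4, 7), (5, 8), (6, 7)],
  [(0, 3), (1, 5), (2, 6), (3, 7), (4, 8), (5, 7), (6, 7), (7, 8)],
  [(1, 5), (2, 6), (3, 7), (4, 8)],
  [(0, 3), (1, 6), (2, 7), (3, 8), (4, 8), (5, 6), (6, 7), (7, 8)],
  [(0, 4), (1, 5), (2, 6), (3, 7), (4, 8), (6, 8)],
  [(0, 5), (1, 6), (2, 7), (3, 8), (4, 6), (5, 7), (6, 7), (7, 8)],
  [(0, 6), (1, 7), (2, 8), (3, 6), (4, 7), (5, 8)],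
  [(0, 4), (1, 2), (2, 4), (3, 5), (4, 6), (5, 7), (6, 8), (7, 8)],
  [(0, 5), (1, 2), (2, 3), (3, 6), (4, 7), (5, 8), (6, 8), (7, 8)],
  [(0, 4), (1, 3), (2, 4), (3, 5), (4, 6), (5, 7), (6, 8), (7, 8)],
  [(0, 5), (1, 4), (2, 5), (3, 6), (4, 7), (5, 8), (6, 7), (7, 8)],
  [(0, 6), (1, 5), (2, 3), (3, 7), (4, 8), (5, 6)],
  [(0, 5), (1, 2), (2, 4), (3, 6), (4, 7), (5, 8), (6, 8), (7, 8)],
  [(0, 6), (1, 2), (2, 5), (3, 7), (4, 8), (5, 6)],
  [(0, 6), (1, 4), (2, 5), (3, 7), (4, 8), (5, 6)],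
  [(0, 1), (1, 4), (2, 4), (3, 5), (4, 6), (5, 7), (6, 8), (7, 8)],
  [(0, 1), (1, 5), (2, 3), (3, 6), (4, 7), (5, 8), (6, 8), (7, 8)],
  [(0, 3), (1, 5), (2, 3), (3, 6), (4, 7), (5, 8), (6, 8), (7, 8)],
  [(0, 4), (1, 6), (2, 3), (3, 7), (4, 8), (5, 8)],
  [(0, 1), (1, 5), (2, 4), (3, 6), (4, 7), (5, 8), (6, 8), (7, 8)],
  [(0, 1), (1, 6), (2, 5), (3, 7), (4, 8), (5, 6)],
  [(0, 4), (1, 7), (2, 6), (3, 8), (5, 7), (7, 8)],
  [(0, 4), (1, 5), (2, 4), (3, 6), (4, 7), (5, 8), (6, 8), (7, 8)],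
  [(0, 5), (1, 6), (2, 3), (3, 7), (4, 8), (7, 8)],
  [(0, 5), (1, 6), (2, 5), (3, 7), (4, 8), (5, 6)],
  [(0, 6), (1, 7), (2, 3), (3, 8), (4, 6), (5, 7), (6, 8), (7, 8)],
  [(0, 5), (1, 6), (2, 4), (3, 7), (4, 8), (6, 7)],
  [(0, 7), (1, 8), (2, 6), (3, 7), (4, 8), (5, 6), (6, 7), (7, 8)],
  [(0, 1), (1, 2), (2, 5), (3, 6), (4, 7), (5, 8), (6, 8), (7, 8)],
  [(0, 4), (1, 2), (2, 6), (3, 7), (4, 8), (5, 8)],
  [(0, 1), (1, 4), (2, 6), (3, 7), (4, 8), (5, 8)],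
  [(0, 4), (1, 5), (2, 7), (3, 8), (6, 7), (7, 8)],
  [(0, 4), (1, 2), (2, 5), (3, 6), (4, 7), (5, 8), (6, 8), (7, 8)],
  [(0, 5), (1, 2), (2, 6), (3, 7), (4, 8), (7, 8)],
  [(0, 5), (1, 4), (2, 6), (3, 7), (4, 8), (5, 8)],
  [(0, 6), (1, 5), (2, 7), (3, 8), (4, 6), (6, 7)],
  [(0, 6), (1, 2), (2, 7), (3, 8), (4, 6), (5, 7), (6, 8), (7, 8)],
  [(0, 6), (1, 4), (2, 7), (3, 8), (5, 7), (7, 8)],
  [(0, 7), (1, 5), (2, 8), (3, 7), (4, 5), (5, 8), (6, 7), (7, 8)],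
  [(0, 1), (1, 4), (2, 5), (3, 6), (4, 7), (5, 8), (6, 8), (7, 8)],
  [(0, 1), (1, 5), (2, 6), (3, 7), (4, 8), (7, 8)],
  [(0, 3), (1, 5), (2, 6), (3, 7), (4, 8), (7, 8)],
  [(0, 4), (1, 6), (2, 7), (3, 8), (5, 6), (6, 7)],
  [(0, 1), (1, 6), (2, 7), (3, 8), (4, 6), (5, 7), (6, 8), (7, 8)],
  [(0, 3), (1, 6), (2, 7), (3, 8), (4, 6), (5, 7), (6, 8), (7, 8)],
  [(0, 4), (1, 7), (2, 8), (3, 4), (4, 7), (5, 8), (6, 7), (7, 8)],
  [(0, 4), (1, 5), (2, 6), (3, 7), (4, 8), (5, 6)],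
  [(0, 5), (1, 6), (2, 7), (3, 8), (4, 5), (5, 7)],
  [(0, 6), (1, 7), (2, 8), (3, 6), (4, 8), (5, 6), (6, 7), (7, 8)],
  [(0, 6), (1, 7), (2, 8), (3, 7), (4, 8), (5, 6), (6, 7), (7, 8)],
  [(0, 7), (1, 8), (2, 7), (3, 8), (4, 7), (5, 8), (6, 7), (7, 8)],
  [(0, 4), (1, 4), (2, 4), (3, 5), (4, 6), (5, 7), (6, 8), (7, 8)],
  [(0, 5), (1, 3), (2, 3), (3, 6), (4, 7), (5, 8), (6, 8), (7, 8)],
  [(0, 5), (1, 5), (2, 3), (3, 6), (4, 7), (5, 8), (6, 8), (7, 8)],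
  [(0, 6), (1, 3), (2, 4), (3, 7), (4, 8), (5, 6), (6, 7), (7, 8)],
  [(0, 5), (1, 4), (2, 4), (3, 6), (4, 7), (5, 8), (6, 8), (7, 8)],
  [(0, 6), (1, 5), (2, 5), (3, 7), (4, 8), (5, 6)],
  [(0, 5), (1, 5), (2, 4), (3, 6), (4, 7), (5, 8), (6, 8), (7, 8)],
  [(0, 6), (1, 3), (2, 5), (3, 7), (4, 8), (5, 6), (6, 7), (7, 8)],
  [(0, 6), (1, 6), (2, 5), (3, 7), (4, 8), (5, 6)],
  [(0, 2), (1, 5), (2, 5), (3, 6), (4, 7), (5, 8), (6, 8), (7, 8)],
  [(0, 2), (1, 6), (2, 4), (3, 7), (4, 8), (5, 8)],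
  [(0, 4), (1, 6), (2, 6), (3, 7), (4, 8), (5, 8)],
  [(0, 5), (1, 7), (2, 4), (3, 8), (4, 5), (5, 7), (6, 7), (7, 8)],
  [(0, 2), (1, 5), (2, 4), (3, 6), (4, 7), (5, 8), (6, 8), (7, 8)],
  [(0, 2), (1, 6), (2, 5), (3, 7), (4, 8), (7, 8)],
  [(0, 2), (1, 7), (2, 6), (3, 8), (4, 6), (5, 7), (6, 8), (7, 8)],
  [(0, 5), (1, 8), (2, 7), (3, 5), (4, 8), (5, 7), (6, 7), (7, 8)],
  [(0, 4), (1, 5), (2, 5), (3, 6), (4, 7), (5, 8), (6, 8), (7, 8)],
  [(0, 5), (1, 6), (2, 6), (3, 7), (4, 8), (7, 8)],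
  [(0, 5), (1, 6), (2, 3), (3, 7), (4, 8), (5, 6), (6, 7), (7, 8)],
  [(0, 6), (1, 7), (2, 4), (3, 8), (4, 6), (5, 7)],
  [(0, 7), (1, 8), (2, 4), (3, 7), (4, 8), (5, 8), (6, 7), (7, 8)],
  [(0, 5), (1, 6), (2, 4), (3, 7), (4, 8), (5, 6), (6, 7), (7, 8)],
  [(0, 6), (1, 7), (2, 5), (3, 8), (4, 6), (5, 7)],
  [(0, 8), (1, 8), (2, 7), (3, 8), (4, 7), (5, 8), (6, 7), (7, 8)],
  [(0, 2), (1, 2), (2, 5), (3, 6), (4, 7), (5, 8), (6, 8), (7, 8)],
  [(0, 2), (1, 3), (2, 6), (3, 7), (4, 8), (5, 6), (6, 7), (7, 8)],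
  [(0, 4), (1, 4), (2, 6), (3, 7), (4, 8), (5, 8)],
  [(0, 5), (1, 3), (2, 7), (3, 8), (4, 5), (5, 8), (6, 7), (7, 8)],
  [(0, 2), (1, 5), (2, 7), (3, 8), (4, 7), (6, 8)],
  [(0, 4), (1, 5), (2, 7), (3, 8), (4, 5), (5, 7), (6, 7), (7, 8)],
  [(0, 5), (1, 6), (2, 8), (3, 5), (4, 6), (5, 8), (6, 8), (7, 8)],
  [(0, 4), (1, 4), (2, 5), (3, 6), (4, 7), (5, 8), (6, 8), (7, 8)],
  [(0, 5), (1, 3), (2, 6), (3, 7), (4, 8), (7, 8)],
  [(0, 5), (1, 5), (2, 6), (3, 7), (4, 8), (7, 8)],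
  [(0, 6), (1, 3), (2, 7), (3, 8), (4, 6), (5, 8), (6, 7), (7, 8)],
  [(0, 7), (1, 6), (2, 8), (3, 7), (4, 6), (5, 8), (6, 7), (7, 8)],
  [(0, 7), (1, 3), (2, 8), (3, 7), (4, 7), (5, 8), (6, 7), (7, 8)],
  [(0, 7), (1, 5), (2, 8), (3, 7), (4, 8), (5, 7), (6, 7), (7, 8)],
  [(0, 7), (1, 5), (2, 8), (3, 5), (4, 8), (5, 7), (6, 7), (7, 8)],
  [(0, 8), (1, 6), (2, 8), (3, 6), (4, 8), (5, 6), (6, 8), (7, 8)],
  [(0, 2), (1, 5), (2, 6), (3, 7), (4, 8), (5, 6), (6, 7), (7, 8)],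
  [(0, 2), (1, 6), (2, 7), (3, 8), (4, 7), (5, 6), (6, 8), (7, 8)],
  [(0, 3), (1, 5), (2, 6), (3, 7), (4, 8), (5, 6), (6, 7), (7, 8)],
  [(0, 4), (1, 6), (2, 7), (3, 8), (5, 7), (6, 8)],
  [(0, 4), (1, 6), (2, 7), (3, 8), (4, 6), (5, 7)],
  [(0, 5), (1, 7), (2, 8), (3, 5), (4, 7), (5, 8), (6, 8), (7, 8)],
  [(0, 2), (1, 7), (2, 8), (3, 8), (4, 7), (5, 8), (6, 7), (7, 8)],
  [(0, 4), (1, 7), (2, 8), (3, 4), (4, 8), (5, 8), (6, 7), (7, 8)],
  [(0, 4), (1, 7), (2, 8), (3, 7), (4, 8), (5, 8), (6, 7), (7, 8)],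
  [(0, 5), (1, 8), (2, 5), (3, 8), (4, 5), (5, 8), (6, 8), (7, 8)],
  [(0, 6), (1, 7), (2, 8), (3, 6), (4, 7), (5, 6), (6, 8), (7, 8)],
  [(0, 6), (1, 7), (2, 8), (3, 7), (4, 6), (5, 7), (6, 8), (7, 8)],
  [(0, 7), (1, 8), (2, 7), (3, 8), (4, 8), (5, 8), (6, 7), (7, 8)],
  [(0, 6), (1, 7), (2, 8), (3, 8), (4, 6), (5, 7), (6, 8), (7, 8)],
  [(0, 7), (1, 8), (2, 7), (3, 7), (4, 7), (5, 8), (6, 7), (7, 8)],
  [(0, 7), (1, 8), (2, 8), (3, 8), (4, 7), (5, 8), (6, 7), (7, 8)],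
  [(0, 8), (1, 8), (2, 8), (3, 8), (4, 8), (5, 8), (6, 8), (7, 8)],
  [(0, 5), (3, 6), (4, 7), (5, 8), (6, 8), (7, 8)],
  [(0, 6), (1, 4), (3, 7), (4, 8), (5, 6), (6, 8)],
  [(0, 6), (2, 4), (3, 7), (4, 8), (5, 6), (6, 8)],
  [(0, 5), (1, 4), (3, 6), (4, 7), (5, 8), (6, 7)],
  [(0, 6), (1, 5), (3, 7), (4, 8), (5, 6), (7, 8)],
  [(0, 5), (2, 4), (3, 6), (4, 7), (5, 8), (6, 7)],
  [(0, 6), (2, 5), (3, 7), (4, 8), (5, 6), (7, 8)],
  [(0, 6), (1, 3), (2, 5), (3, 7), (4, 8), (5, 7), (6, 7), (7, 8)],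
  [(1, 5), (3, 6), (4, 7), (5, 8), (6, 8), (7, 8)],
  [(0, 3), (1, 6), (3, 7), (4, 8), (5, 7), (7, 8)],
  [(1, 6), (2, 4), (3, 7), (4, 8), (5, 6), (6, 8)],
  [(0, 3), (1, 7), (2, 5), (3, 8), (4, 8), (5, 7), (6, 7), (7, 8)],
  [(0, 5), (1, 7), (3, 8), (4, 5), (5, 7), (6, 8)],
  [(0, 6), (1, 8), (2, 5), (3, 6), (4, 8), (7, 8)],
  [(1, 5), (2, 4), (3, 6), (4, 7), (5, 8), (6, 7)],
  [(1, 6), (2, 5), (3, 7), (4, 8), (5, 6), (7, 8)],
  [(0, 3), (1, 7), (2, 6), (3, 8), (4, 8), (5, 7)],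
  [(0, 3), (1, 8), (2, 7), (4, 8), (5, 7), (6, 8)],
  [(0, 5), (1, 8), (2, 7), (3, 8), (4, 7), (6, 8)],
  [(0, 6), (1, 6), (2, 8), (3, 6), (4, 8), (5, 6), (6, 8), (7, 8)],
  [(0, 5), (1, 6), (3, 7), (4, 8), (6, 7), (7, 8)],
  [(0, 6), (1, 7), (3, 8), (4, 6), (5, 7), (6, 8)],
  [(0, 6), (1, 7), (2, 4), (3, 8), (4, 6), (5, 6), (6, 8), (7, 8)],
  [(0, 7), (1, 8), (2, 5), (3, 7), (4, 8), (6, 7)],
  [(0, 7), (1, 8), (2, 4), (3, 8), (5, 7), (6, 8)],
  [(0, 8), (1, 8), (2, 5), (3, 8), (4, 5), (5, 8), (6, 8), (7, 8)],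
  [(0, 7), (1, 8), (2, 6), (3, 7), (4, 8), (5, 6)],
  [(0, 8), (2, 7), (3, 7), (4, 8), (5, 7), (6, 8)],
  [(2, 8), (3, 8), (4, 8), (5, 8), (6, 8), (7, 8)],
  [(2, 5), (3, 6), (4, 7), (5, 8), (6, 8), (7, 8)],
  [(0, 3), (2, 6), (3, 7), (4, 8), (5, 7), (7, 8)],
  [(1, 3), (2, 6), (3, 7), (4, 8), (5, 7), (7, 8)],
  [(0, 3), (1, 4), (2, 7), (3, 8), (4, 8), (5, 8), (6, 7), (7, 8)],
  [(0, 5), (2, 7), (3, 8), (4, 5), (5, 7), (6, 8)],
  [(0, 5), (1, 3), (2, 7), (3, 8), (4, 8), (5, 7), (6, 7), (7, 8)],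
  [(0, 6), (1, 4), (2, 8), (3, 6), (5, 8), (7, 8)],
  [(0, 3), (1, 6), (2, 8), (4, 6), (5, 8), (7, 8)],
  [(0, 5), (1, 6), (2, 8), (3, 5), (4, 8), (7, 8)],
  [(0, 5), (1, 6), (2, 8), (3, 6), (4, 8), (7, 8)],
  [(0, 6), (1, 7), (2, 6), (3, 7), (4, 6), (5, 7)],
  [(0, 5), (2, 6), (3, 7), (4, 8), (6, 7), (7, 8)],
  [(0, 6), (1, 4), (2, 7), (3, 8), (4, 6), (5, 6), (6, 8), (7, 8)],
  [(0, 6), (2, 7), (3, 8), (4, 6), (5, 7), (6, 8)],
  [(0, 6), (1, 3), (2, 7), (3, 8), (4, 8), (5, 7)],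
  [(0, 7), (1, 4), (2, 8), (3, 7), (5, 8), (6, 7)],
  [(0, 7), (1, 6), (2, 8), (3, 6), (4, 8), (5, 7)],
  [(0, 8), (1, 7), (2, 8), (3, 7), (4, 8), (5, 7), (6, 8), (7, 8)],
  [(0, 7), (1, 3), (2, 8), (4, 8), (5, 7), (6, 8)],
  [(0, 8), (1, 4), (2, 8), (3, 4), (4, 8), (5, 8), (6, 8), (7, 8)],
  [(0, 8), (1, 6), (2, 8), (3, 6), (4, 6), (5, 6), (6, 8), (7, 8)],
  [(0, 8), (1, 6), (2, 8), (3, 8), (4, 8), (5, 6), (6, 8), (7, 8)],
  [(0, 8), (1, 6), (2, 6), (3, 6), (4, 8), (5, 6), (6, 8), (7, 8)],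
  [(1, 7), (2, 7), (3, 7), (4, 7), (5, 7), (6, 7)],
  [(1, 5), (2, 6), (3, 7), (4, 8), (6, 7), (7, 8)],
  [(0, 3), (1, 6), (2, 7), (3, 8), (4, 8), (5, 6), (6, 8), (7, 8)],
  [(0, 3), (1, 7), (2, 8), (4, 7), (5, 8), (6, 7)],
  [(0, 4), (1, 6), (2, 7), (3, 8), (5, 8), (7, 8)],
  [(0, 5), (1, 7), (2, 8), (3, 5), (4, 7), (6, 7)],
  [(0, 5), (1, 7), (2, 8), (3, 5), (4, 8), (6, 7)],
  [(0, 5), (1, 7), (2, 8), (3, 7), (4, 8), (6, 7)],
  [(0, 6), (1, 8), (2, 6), (3, 8), (4, 6), (5, 8)],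
  [(0, 3), (1, 8), (2, 3), (3, 8), (4, 8), (5, 8), (6, 8), (7, 8)],
  [(0, 4), (1, 7), (2, 8), (3, 7), (5, 7), (6, 8)],
  [(0, 5), (1, 8), (2, 5), (3, 8), (4, 8), (5, 8), (6, 8), (7, 8)],
  [(0, 4), (1, 7), (2, 8), (3, 8), (5, 7), (6, 8)],
  [(0, 5), (1, 8), (2, 5), (3, 5), (4, 5), (5, 8), (6, 8), (7, 8)],
  [(0, 5), (1, 8), (2, 8), (3, 8), (4, 5), (5, 8), (6, 8), (7, 8)],
  [(0, 6), (1, 6), (2, 6), (3, 6), (4, 6), (5, 6)],
  [(0, 6), (1, 7), (2, 8), (3, 7), (4, 8), (5, 7)],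
  [(0, 7), (1, 8), (2, 7), (3, 8), (4, 7), (5, 7), (6, 8), (7, 8)],
  [(0, 7), (1, 8), (2, 7), (3, 7), (4, 8), (5, 8), (6, 7), (7, 8)],
  [(0, 7), (1, 8), (2, 8), (3, 8), (4, 8), (5, 8), (6, 7), (7, 8)],
  [(0, 8), (1, 8), (2, 8), (3, 8), (6, 8), (7, 8)],
  [(0, 7), (1, 8), (2, 7), (4, 8), (5, 7), (6, 8)],
  [(0, 8), (1, 8), (2, 8), (5, 8), (6, 8), (7, 8)],
  [(0, 8), (1, 8), (4, 8), (5, 8), (6, 8), (7, 8)],
  [(0, 5), (1, 2), (2, 5), (3, 6), (4, 7), (5, 8), (6, 8), (7, 8)],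
  [(0, 6), (1, 2), (2, 3), (3, 7), (4, 8), (5, 6), (6, 7), (7, 8)],
  [(0, 6), (1, 4), (2, 6), (3, 7), (4, 8), (5, 8)],
  [(0, 7), (1, 2), (2, 5), (3, 8), (4, 7), (6, 8)],
  [(0, 5), (1, 4), (2, 5), (3, 6), (4, 7), (5, 8), (6, 8), (7, 8)],
  [(0, 6), (1, 5), (2, 3), (3, 7), (4, 8), (5, 6), (6, 7), (7, 8)],
  [(0, 6), (1, 5), (2, 6), (3, 7), (4, 8), (7, 8)],
  [(0, 6), (1, 2), (2, 5), (3, 7), (4, 8), (5, 6), (6, 7), (7, 8)],
  [(0, 7), (1, 2), (2, 6), (3, 8), (4, 7), (5, 6), (6, 8), (7, 8)],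
  [(0, 7), (1, 4), (2, 6), (3, 8), (4, 7), (5, 6), (6, 8), (7, 8)],
  [(0, 1), (1, 5), (2, 5), (3, 6), (4, 7), (5, 8), (6, 8), (7, 8)],
  [(0, 1), (1, 6), (2, 3), (3, 7), (4, 8), (5, 6), (6, 7), (7, 8)],
  [(0, 3), (1, 6), (2, 3), (3, 7), (4, 8), (5, 6), (6, 7), (7, 8)],
  [(0, 4), (1, 7), (2, 3), (3, 8), (5, 7), (6, 8)],
  [(0, 4), (1, 8), (2, 6), (3, 4), (4, 8), (5, 6), (6, 8), (7, 8)],
  [(0, 6), (1, 8), (2, 3), (3, 6), (4, 8), (5, 6), (6, 8), (7, 8)],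
  [(0, 6), (1, 8), (2, 5), (3, 8), (4, 5), (5, 6), (6, 8), (7, 8)],
  [(0, 7), (1, 7), (2, 6), (3, 7), (4, 6), (5, 7)],
  [(0, 1), (1, 6), (2, 5), (3, 7), (4, 8), (5, 6), (6, 7), (7, 8)],
  [(0, 4), (1, 8), (2, 7), (3, 4), (4, 8), (5, 7), (6, 8), (7, 8)],
  [(0, 3), (1, 8), (2, 7), (3, 8), (4, 7), (5, 8), (6, 7), (7, 8)],
  [(0, 4), (1, 4), (2, 8), (3, 4), (4, 8), (5, 8), (6, 8), (7, 8)],
  [(0, 6), (1, 6), (2, 8), (3, 8), (4, 8), (5, 6), (6, 8), (7, 8)],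
  [(0, 6), (2, 8), (3, 8), (4, 6), (5, 8), (7, 8)],
  [(0, 7), (2, 7), (3, 7), (4, 7), (5, 7), (6, 7)],
  [(0, 5), (1, 6), (2, 5), (3, 7), (4, 8), (5, 6), (6, 7), (7, 8)],
  [(0, 6), (1, 7), (2, 3), (3, 8), (4, 6), (5, 7)],
  [(0, 7), (1, 8), (2, 3), (3, 7), (4, 8), (5, 7), (6, 8), (7, 8)],
  [(0, 6), (1, 7), (2, 4), (3, 8), (4, 7), (5, 6), (6, 8), (7, 8)],
  [(0, 7), (1, 8), (2, 5), (3, 7), (4, 8), (5, 7), (6, 8), (7, 8)],
  [(0, 7), (1, 8), (2, 5), (3, 8), (4, 5), (5, 7), (6, 8), (7, 8)],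
  [(0, 8), (1, 8), (2, 6), (3, 8), (4, 6), (5, 8)],
  [(0, 7), (1, 8), (2, 4), (3, 4), (4, 7), (5, 8), (6, 7), (7, 8)],
  [(0, 8), (1, 8), (2, 5), (3, 5), (4, 5), (5, 8), (6, 8), (7, 8)],
  [(0, 8), (2, 5), (3, 5), (4, 8), (6, 8), (7, 8)], [(2, 6), (3, 6), (4, 6), (5, 6)],
  [(0, 8), (1, 8), (2, 7), (3, 8), (4, 7), (5, 8)],
  [(1, 2), (2, 8), (4, 8), (5, 8), (6, 8), (7, 8)],
  [(0, 1), (1, 2), (2, 6), (3, 7), (4, 8), (5, 6), (6, 7), (7, 8)],
  [(0, 3), (1, 4), (2, 7), (3, 8), (5, 7), (6, 8)],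
  [(0, 4), (1, 5), (2, 8), (3, 4), (4, 5), (5, 8), (6, 8), (7, 8)],
  [(0, 6), (1, 2), (2, 8), (3, 6), (4, 8), (5, 6), (6, 8), (7, 8)],
  [(0, 6), (1, 4), (2, 8), (3, 6), (4, 8), (5, 6), (6, 8), (7, 8)],
  [(0, 6), (1, 4), (2, 8), (3, 4), (4, 8), (5, 6), (6, 8), (7, 8)],
  [(0, 7), (1, 5), (2, 7), (3, 5), (4, 7), (6, 7)],
  [(0, 3), (1, 6), (2, 8), (3, 6), (4, 8), (5, 6), (6, 8), (7, 8)],
  [(0, 4), (1, 7), (2, 4), (3, 7), (5, 7), (6, 7)],
  [(0, 5), (1, 6), (2, 8), (3, 6), (4, 5), (5, 6), (6, 8), (7, 8)],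
  [(0, 6), (1, 7), (2, 6), (3, 7), (4, 7), (5, 7)],
  [(0, 5), (1, 6), (2, 8), (3, 8), (4, 5), (5, 6), (6, 8), (7, 8)],
  [(0, 6), (1, 7), (2, 6), (3, 6), (4, 6), (5, 7)],
  [(0, 6), (1, 7), (2, 7), (3, 7), (4, 6), (5, 7)],
  [(0, 5), (1, 2), (2, 6), (3, 7), (4, 8), (5, 6), (6, 7), (7, 8)],
  [(0, 6), (1, 4), (2, 7), (3, 8), (5, 7), (6, 8)],
  [(0, 7), (1, 5), (2, 8), (3, 7), (4, 5), (5, 8), (6, 8), (7, 8)],
  [(0, 7), (1, 2), (2, 8), (3, 7), (4, 8), (5, 7), (6, 8), (7, 8)],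
  [(0, 7), (1, 4), (2, 8), (3, 7), (4, 8), (5, 7), (6, 8), (7, 8)],
  [(0, 7), (1, 4), (2, 8), (3, 4), (4, 8), (5, 7), (6, 8), (7, 8)],
  [(0, 8), (1, 5), (2, 8), (3, 5), (4, 8), (6, 8)],
  [(0, 8), (1, 7), (2, 8), (3, 8), (4, 8), (5, 7), (6, 8), (7, 8)],
  [(0, 8), (1, 7), (2, 7), (3, 7), (4, 8), (5, 7), (6, 8), (7, 8)],
  [(1, 8), (2, 8), (3, 8), (4, 8), (5, 8), (6, 8)],
  [(0, 7), (1, 3), (2, 8), (3, 8), (4, 7), (5, 8), (6, 7), (7, 8)],
  [(0, 8), (1, 4), (2, 8), (3, 8), (4, 8), (5, 8), (6, 8), (7, 8)],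
  [(0, 8), (1, 4), (2, 4), (3, 4), (4, 8), (5, 8), (6, 8), (7, 8)],
  [(1, 5), (2, 5), (3, 5), (4, 5)],
  [(0, 8), (1, 6), (2, 6), (3, 6), (4, 6), (5, 6), (6, 8), (7, 8)],
  [(1, 7), (2, 7), (3, 7), (6, 7)], [(1, 7), (2, 7), (5, 7), (6, 7)],
  [(1, 7), (4, 7), (5, 7), (6, 7)],
  [(0, 1), (1, 5), (2, 6), (3, 7), (4, 8), (5, 6), (6, 7), (7, 8)],
  [(0, 3), (1, 6), (2, 7), (3, 8), (4, 6), (5, 7)],
  [(0, 4), (1, 7), (2, 8), (3, 4), (4, 7), (5, 8), (6, 8), (7, 8)],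
  [(0, 3), (1, 7), (2, 8), (3, 7), (4, 8), (5, 7), (6, 8), (7, 8)],
  [(0, 4), (1, 8), (2, 4), (3, 8), (5, 8), (6, 8)],
  [(0, 4), (1, 6), (2, 7), (3, 8), (4, 6), (5, 8), (6, 7), (7, 8)],
  [(0, 5), (1, 7), (2, 8), (3, 5), (4, 7), (5, 7), (6, 8), (7, 8)],
  [(0, 5), (1, 7), (2, 8), (3, 7), (4, 8), (5, 7), (6, 8), (7, 8)],
  [(0, 6), (1, 8), (2, 6), (3, 8), (4, 6), (5, 6)],
  [(0, 5), (1, 7), (2, 8), (3, 7), (4, 5), (5, 7), (6, 8), (7, 8)],
  [(0, 6), (1, 8), (2, 6), (3, 8), (4, 8), (5, 8)],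
  [(0, 5), (1, 7), (2, 8), (3, 8), (4, 5), (5, 7), (6, 8), (7, 8)],
  [(0, 6), (1, 8), (2, 6), (3, 6), (4, 6), (5, 8)],
  [(0, 6), (1, 8), (2, 8), (3, 8), (4, 6), (5, 8)],
  [(0, 7), (1, 7), (2, 7), (3, 7), (4, 7), (5, 7), (6, 7), (7, 8)],
  [(0, 3), (1, 8), (2, 8), (3, 8), (4, 8), (5, 8), (6, 8), (7, 8)],
  [(0, 4), (1, 4), (2, 4), (3, 4)],
  [(0, 4), (1, 7), (2, 8), (3, 8), (4, 7), (5, 8), (6, 7), (7, 8)],
  [(0, 5), (1, 8), (2, 5), (3, 5), (4, 8), (5, 8), (6, 8), (7, 8)],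
  [(0, 5), (1, 8), (2, 8), (3, 8), (4, 8), (5, 8), (6, 8), (7, 8)],
  [(0, 6), (1, 6), (2, 6), (3, 6)], [(0, 5), (1, 8), (2, 5), (4, 8), (6, 8), (7, 8)],
  [(0, 6), (1, 6), (2, 6), (5, 6)], [(0, 6), (1, 6), (4, 6), (5, 6)], [(0, 7), (7, 8)],
  [(0, 7), (1, 8), (2, 7), (3, 7), (4, 7), (5, 7), (6, 8), (7, 8)],
  [(0, 7), (1, 8), (2, 8), (3, 8), (4, 7), (5, 7), (6, 8), (7, 8)],
  [(0, 8), (1, 8), (2, 8), (3, 8), (4, 8), (6, 8)],
  [(0, 8), (1, 8), (2, 8), (4, 8), (6, 8), (7, 8)], [(0, 8), (1, 8), (6, 8), (7, 8)],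
  [(0, 7), (1, 8), (2, 8), (4, 8), (5, 7), (6, 8)],
  [(0, 8), (1, 8), (2, 8), (3, 4), (4, 8), (5, 8), (6, 8), (7, 8)],
  [(0, 8), (5, 8), (6, 8), (7, 8)], [(3, 4), (4, 5)], [(2, 3), (3, 4)],
  [(0, 5), (1, 5), (2, 5), (3, 6), (4, 7), (5, 8), (6, 8), (7, 8)],
  [(0, 6), (1, 3), (2, 3), (3, 7), (4, 8), (5, 6), (6, 7), (7, 8)],
  [(0, 6), (1, 6), (2, 3), (3, 7), (4, 8), (5, 6), (6, 7), (7, 8)],
  [(0, 8), (1, 3), (2, 6), (3, 8), (4, 8), (5, 6), (6, 8), (7, 8)],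
  [(0, 6), (1, 5), (2, 5), (3, 7), (4, 8), (5, 6), (6, 7), (7, 8)],
  [(0, 6), (1, 6), (2, 5), (3, 7), (4, 8), (5, 6), (6, 7), (7, 8)],
  [(0, 7), (1, 3), (2, 6), (3, 8), (4, 7), (5, 8), (6, 7), (7, 8)],
  [(0, 8), (1, 3), (2, 7), (3, 8), (4, 8), (5, 7), (6, 8), (7, 8)],
  [(0, 8), (1, 5), (2, 7), (3, 8), (4, 5), (5, 8), (6, 8), (7, 8)],
  [(0, 2), (1, 6), (2, 6), (3, 7), (4, 8), (5, 6), (6, 7), (7, 8)],
  [(0, 5), (1, 8), (2, 4), (3, 5), (4, 8), (5, 8), (6, 8), (7, 8)],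
  [(0, 4), (1, 8), (2, 6), (3, 8), (4, 6), (5, 6), (6, 8), (7, 8)],
  [(0, 5), (1, 5), (2, 7), (3, 5), (4, 7), (6, 7)],
  [(0, 6), (1, 8), (2, 3), (3, 8), (4, 8), (5, 6), (6, 8), (7, 8)],
  [(0, 7), (1, 7), (2, 4), (3, 7), (5, 7), (6, 7)],
  [(0, 6), (1, 8), (2, 5), (3, 5), (4, 6), (5, 8), (6, 8), (7, 8)],
  [(0, 7), (1, 7), (2, 6), (3, 6), (4, 6), (5, 7)],
  [(0, 7), (2, 6), (3, 6), (4, 7), (5, 6), (6, 7)],
  [(0, 2), (1, 6), (2, 5), (3, 7), (4, 8), (5, 6), (6, 7), (7, 8)],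
  [(0, 4), (1, 8), (2, 7), (3, 8), (4, 7), (5, 7), (6, 8), (7, 8)],
  [(0, 5), (1, 5), (2, 8), (3, 5), (4, 8), (6, 8)],
  [(0, 3), (1, 8), (2, 7), (3, 7), (4, 7), (5, 8), (6, 7), (7, 8)],
  [(0, 4), (1, 4), (2, 8), (3, 8), (4, 8), (5, 8), (6, 8), (7, 8)],
  [(0, 4), (2, 8), (3, 8), (5, 8), (6, 8), (7, 8)], [(0, 5), (2, 5), (3, 5), (4, 5)],
  [(0, 7), (2, 7), (5, 7), (6, 7)], [(0, 7), (1, 2), (2, 7), (4, 7), (5, 7), (6, 7)],
  [(0, 5), (1, 6), (2, 6), (3, 7), (4, 8), (5, 6), (6, 7), (7, 8)],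
  [(0, 6), (1, 7), (2, 3), (3, 8), (4, 7), (5, 8), (6, 7), (7, 8)],
  [(0, 7), (1, 8), (2, 4), (3, 7), (4, 8), (5, 8), (6, 8), (7, 8)],
  [(0, 7), (1, 8), (2, 3), (3, 8), (4, 8), (5, 7), (6, 8), (7, 8)],
  [(0, 8), (1, 8), (2, 4), (3, 8), (5, 8), (6, 8)],
  [(0, 6), (1, 7), (2, 4), (3, 8), (5, 7), (6, 8)],
  [(0, 7), (1, 8), (2, 5), (3, 7), (4, 5), (5, 8), (6, 8), (7, 8)],
  [(0, 7), (1, 8), (2, 5), (3, 8), (4, 5), (5, 8), (6, 8), (7, 8)],
  [(0, 8), (1, 8), (2, 6), (3, 8), (4, 6), (5, 6)],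
  [(0, 7), (1, 8), (2, 5), (3, 5), (4, 7), (5, 8), (6, 8), (7, 8)],
  [(0, 8), (1, 8), (2, 6), (3, 6), (4, 6), (5, 8)],
  [(0, 8), (2, 6), (3, 6), (4, 8), (5, 6), (6, 8)],
  [(2, 7), (3, 7), (4, 7), (5, 7), (6, 7), (7, 8)],
  [(0, 8), (1, 8), (2, 5), (4, 8), (6, 8), (7, 8)], [(2, 6), (5, 6)],
  [(1, 2), (2, 6), (4, 6), (5, 6)], [(0, 1), (1, 2), (2, 7), (7, 8)],
  [(0, 8), (2, 7), (3, 7), (4, 8), (5, 7), (7, 8)],
  [(2, 8), (3, 8), (4, 8), (5, 8), (6, 7), (7, 8)], [(0, 1), (1, 3), (2, 3), (3, 4)],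
  [(0, 2), (1, 2), (2, 6), (3, 7), (4, 8), (5, 6), (6, 7), (7, 8)],
  [(0, 2), (1, 3), (2, 7), (3, 8), (4, 7), (5, 8), (6, 7), (7, 8)],
  [(0, 4), (1, 5), (2, 8), (3, 4), (4, 8), (5, 8), (6, 8), (7, 8)],
  [(0, 4), (1, 5), (2, 8), (3, 5), (4, 8), (5, 8), (6, 8), (7, 8)],
  [(0, 5), (1, 6), (2, 5), (3, 6), (4, 5), (5, 6)],
  [(0, 7), (1, 3), (2, 7), (4, 7), (5, 7), (6, 7)],
  [(0, 6), (1, 4), (2, 8), (3, 4), (4, 6), (5, 6), (6, 8), (7, 8)],
  [(0, 7), (1, 5), (2, 7), (3, 5), (4, 5), (6, 7)],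
  [(0, 6), (1, 4), (2, 8), (3, 8), (4, 6), (5, 6), (6, 8), (7, 8)],
  [(0, 7), (1, 5), (2, 7), (3, 7), (4, 7), (6, 7)],
  [(0, 7), (1, 5), (2, 5), (3, 5), (4, 7), (6, 7)],
  [(0, 8), (1, 6), (2, 6), (3, 6), (4, 6), (5, 6)],
  [(0, 3), (1, 6), (2, 8), (3, 8), (4, 8), (5, 6), (6, 8), (7, 8)],
  [(0, 4), (1, 7), (2, 4), (3, 4), (5, 7), (6, 7)],
  [(0, 4), (1, 7), (2, 7), (3, 7), (5, 7), (6, 7)],
  [(0, 5), (1, 8), (2, 8), (3, 8), (4, 8), (5, 8)],
  [(0, 5), (1, 6), (2, 8), (3, 8), (4, 6), (5, 8), (6, 8), (7, 8)],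
  [(0, 6), (1, 7), (2, 6), (3, 6), (4, 7), (5, 7)],
  [(0, 6), (1, 7), (2, 7), (3, 7), (4, 7), (5, 7)],
  [(0, 6), (1, 7), (2, 6), (4, 7), (5, 6), (6, 7)],
  [(0, 5), (1, 5), (2, 6), (3, 7), (4, 8), (5, 6), (6, 7), (7, 8)],
  [(0, 6), (1, 3), (2, 7), (3, 8), (4, 6), (5, 7)],
  [(0, 7), (1, 5), (2, 8), (3, 7), (4, 8), (5, 7), (6, 8), (7, 8)],
  [(0, 7), (1, 5), (2, 8), (3, 5), (4, 8), (5, 7), (6, 8), (7, 8)],
  [(0, 8), (1, 6), (2, 8), (3, 6), (4, 8), (5, 6)],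
  [(0, 8), (1, 3), (2, 8), (4, 8), (5, 8), (6, 8)],
  [(0, 7), (1, 4), (2, 8), (3, 4), (4, 7), (5, 7), (6, 8), (7, 8)],
  [(0, 8), (1, 5), (2, 8), (3, 5), (4, 5), (6, 8)],
  [(0, 7), (1, 4), (2, 8), (3, 8), (4, 7), (5, 7), (6, 8), (7, 8)],
  [(0, 8), (1, 5), (2, 8), (3, 8), (4, 8), (6, 8)],
  [(0, 8), (1, 5), (2, 5), (3, 5), (4, 8), (6, 8)],
  [(1, 6), (2, 6), (3, 6), (4, 6), (5, 6), (7, 8)], [(1, 8), (2, 8), (5, 8), (6, 8)],
  [(1, 8), (4, 8), (5, 8), (6, 8)], [(0, 1), (7, 8)],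
  [(0, 8), (1, 4), (2, 8), (5, 8), (6, 8), (7, 8)], [(1, 5), (2, 5)], [(1, 5), (4, 5)],
  [(0, 1), (1, 6), (6, 7), (7, 8)], [(1, 7), (6, 7)], [(0, 1), (1, 7), (5, 7), (6, 7)],
  [(0, 4), (1, 7), (2, 8), (3, 4), (4, 8), (5, 8), (6, 8), (7, 8)],
  [(0, 4), (1, 7), (2, 8), (3, 7), (4, 8), (5, 8), (6, 8), (7, 8)],
  [(0, 5), (1, 8), (2, 5), (3, 8), (4, 5), (5, 8)],
  [(0, 3), (1, 7), (2, 8), (3, 8), (4, 8), (5, 7), (6, 8), (7, 8)],
  [(0, 4), (1, 8), (2, 4), (3, 4), (5, 8), (6, 8)],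
  [(0, 4), (1, 8), (2, 8), (3, 8), (5, 8), (6, 8)],
  [(0, 5), (1, 5), (2, 5), (3, 5), (4, 5), (7, 8)],
  [(0, 5), (1, 7), (2, 8), (3, 5), (4, 8), (5, 8), (6, 8), (7, 8)],
  [(0, 5), (1, 7), (2, 8), (3, 7), (4, 8), (5, 8), (6, 8), (7, 8)],
  [(0, 6), (1, 8), (2, 6), (3, 8), (4, 6), (6, 8)],
  [(0, 5), (1, 7), (2, 8), (3, 8), (4, 5), (5, 8), (6, 8), (7, 8)],
  [(0, 6), (1, 8), (2, 6), (3, 6), (4, 6), (5, 6)],
  [(0, 6), (1, 8), (2, 8), (3, 8), (4, 6), (5, 6)],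
  [(0, 7), (1, 7), (2, 7), (3, 7), (4, 7), (7, 8)],
  [(0, 5), (1, 7), (2, 8), (3, 8), (4, 7), (5, 8), (6, 8), (7, 8)],
  [(0, 6), (1, 8), (2, 6), (3, 6), (4, 8), (5, 8)],
  [(0, 6), (1, 8), (2, 8), (3, 8), (4, 8), (5, 8)],
  [(0, 7), (1, 7), (2, 7), (3, 7), (6, 7), (7, 8)],
  [(0, 6), (1, 8), (2, 6), (4, 8), (5, 6), (6, 8)],
  [(0, 7), (1, 7), (2, 7), (5, 7), (6, 7), (7, 8)],
  [(0, 7), (1, 7), (4, 7), (5, 7), (6, 7), (7, 8)], [(0, 4), (1, 4)], [(0, 4), (3, 4)],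
  [(0, 5), (1, 8), (2, 5), (4, 5), (6, 8), (7, 8)], [(0, 6), (1, 6), (2, 6), (4, 6)],
  [(0, 6), (1, 6)], [(0, 7), (4, 5), (5, 6), (7, 8)],
  [(0, 5), (1, 8), (2, 8), (4, 8), (6, 8), (7, 8)],
  [(0, 6), (1, 6), (2, 6), (3, 4), (4, 6), (5, 6)], [(0, 6), (5, 6)],
  [(0, 7), (3, 4), (4, 5), (7, 8)], [(0, 7), (2, 3), (3, 4), (7, 8)],
  [(0, 7), (1, 2), (2, 7), (7, 8)],
  [(0, 8), (1, 2), (2, 3), (3, 4), (4, 5), (5, 6), (6, 7), (7, 8)],
  [(0, 8), (1, 8), (2, 8), (6, 8)], [(0, 8), (1, 8), (4, 8), (6, 8)], [(5, 6), (7, 8)],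
  [(0, 8), (4, 8), (6, 8), (7, 8)], [(2, 3), (3, 4), (4, 5), (5, 6)],
  [(0, 8), (1, 8), (3, 4), (5, 8), (6, 8), (7, 8)],
  [(0, 8), (3, 4), (4, 8), (5, 8), (6, 8), (7, 8)], [(3, 5), (4, 5)],
  [(1, 2), (2, 3), (3, 4), (4, 5)], [(0, 1), (1, 2), (2, 3), (3, 4)],
  [(0, 6), (3, 7), (4, 8), (5, 6), (6, 7), (7, 8)],
  [(0, 8), (1, 3), (2, 6), (4, 6), (5, 8), (7, 8)],
  [(1, 4), (2, 7), (3, 4), (4, 7), (5, 7), (6, 7)],
  [(0, 6), (1, 5), (3, 7), (4, 8), (6, 7), (7, 8)],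
  [(0, 6), (2, 5), (3, 7), (4, 8), (6, 7), (7, 8)],
  [(0, 7), (1, 3), (2, 6), (3, 8), (4, 8), (5, 6), (6, 8), (7, 8)],
  [(0, 8), (1, 4), (2, 7), (3, 8), (5, 7), (6, 7)],
  [(0, 8), (1, 3), (2, 7), (4, 7), (5, 8), (6, 7)],
  [(1, 4), (2, 8), (3, 4), (4, 8), (5, 8), (6, 8)],
  [(0, 8), (1, 5), (2, 7), (3, 5), (4, 7), (6, 7)],
  [(1, 6), (2, 8), (3, 6), (4, 8), (5, 8), (6, 8)],
  [(1, 6), (3, 7), (4, 8), (5, 6), (6, 7), (7, 8)],
  [(0, 5), (1, 8), (2, 4), (3, 8), (6, 8), (7, 8)],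
  [(0, 6), (1, 6), (2, 5), (3, 6), (4, 5), (5, 6)],
  [(0, 4), (1, 8), (2, 6), (3, 6), (5, 8), (7, 8)],
  [(0, 5), (1, 5), (2, 7), (3, 7), (4, 7), (6, 7)],
  [(0, 5), (2, 7), (3, 7), (4, 5), (5, 7), (6, 7)],
  [(0, 6), (2, 8), (3, 8), (4, 8), (5, 8), (6, 8)],
  [(0, 6), (1, 8), (2, 3), (4, 6), (5, 8), (7, 8)],
  [(0, 7), (1, 7), (2, 4), (3, 4), (5, 7), (6, 7)],
  [(0, 7), (2, 4), (3, 4), (4, 7), (5, 7), (6, 7)], [(0, 8), (2, 5), (3, 5), (4, 5)],
  [(0, 7), (1, 7), (2, 6), (4, 7), (5, 6), (6, 7)],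
  [(1, 6), (2, 5), (3, 7), (4, 8), (6, 7), (7, 8)],
  [(0, 3), (1, 7), (2, 6), (3, 8), (4, 8), (5, 6), (6, 8), (7, 8)],
  [(0, 4), (1, 8), (2, 7), (3, 7), (5, 8), (6, 7)],
  [(0, 5), (1, 5), (2, 8), (3, 8), (4, 8), (6, 8)],
  [(0, 5), (2, 8), (3, 8), (4, 5), (5, 8), (6, 8)],
  [(0, 6), (2, 6), (3, 6), (4, 6), (5, 6), (7, 8)],
  [(0, 4), (1, 4), (2, 8), (5, 8), (6, 8), (7, 8)], [(0, 5), (2, 5)],
  [(0, 5), (1, 2), (2, 5), (4, 5)], [(0, 6), (1, 2), (6, 7), (7, 8)],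
  [(0, 7), (1, 2), (5, 7), (6, 7)],
  [(0, 6), (1, 7), (2, 3), (3, 8), (4, 8), (5, 6), (6, 8), (7, 8)],
  [(0, 7), (1, 8), (2, 4), (3, 7), (5, 7), (6, 7)],
  [(0, 7), (1, 8), (2, 4), (3, 8), (5, 7), (6, 7)],
  [(0, 8), (1, 8), (2, 5), (3, 8), (4, 5), (5, 8)],
  [(0, 7), (1, 8), (2, 3), (4, 7), (5, 8), (6, 7)],
  [(0, 8), (1, 8), (2, 4), (3, 4), (5, 8), (6, 8)],
  [(0, 8), (2, 4), (3, 4), (4, 8), (5, 8), (6, 8)], [(2, 5), (3, 5), (4, 5), (7, 8)],
  [(0, 7), (1, 8), (2, 5), (3, 7), (4, 7), (6, 7)],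
  [(0, 7), (1, 8), (2, 5), (3, 8), (4, 7), (6, 7)],
  [(0, 8), (1, 8), (2, 6), (3, 8), (4, 8), (5, 6)],
  [(0, 7), (1, 8), (2, 5), (3, 5), (4, 7), (6, 7)],
  [(0, 8), (1, 8), (2, 6), (3, 6), (4, 6), (5, 6)],
  [(0, 8), (2, 6), (3, 6), (4, 8), (5, 8), (6, 8)], [(2, 7), (3, 7), (4, 7), (7, 8)],
  [(0, 8), (1, 8), (2, 6), (4, 8), (5, 6), (6, 8)], [(2, 7), (5, 7), (6, 7), (7, 8)],
  [(1, 2), (2, 7), (4, 7), (5, 7), (6, 7), (7, 8)],
  [(0, 8), (2, 5), (4, 5), (5, 8), (6, 8), (7, 8)], [(2, 6), (3, 4), (4, 6), (5, 6)],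
  [(0, 1), (1, 2), (2, 6), (5, 6)], [(0, 1), (1, 2), (2, 7), (3, 4), (4, 5), (7, 8)],
  [(0, 1), (1, 3), (2, 7), (3, 4), (4, 7), (7, 8)], [(0, 2), (1, 2), (2, 7), (7, 8)],
  [(1, 2), (2, 8), (4, 8), (5, 8), (6, 7), (7, 8)], [(0, 1), (1, 2), (6, 8), (7, 8)],
  [(0, 2), (1, 3), (2, 3), (3, 4)], [(2, 6), (3, 7), (4, 8), (5, 6), (6, 7), (7, 8)],
  [(0, 3), (1, 4), (2, 8), (5, 8), (6, 8), (7, 8)],
  [(0, 4), (1, 5), (2, 8), (3, 5), (6, 8), (7, 8)],
  [(0, 5), (1, 6), (2, 5), (3, 6), (4, 6), (5, 6)],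
  [(0, 4), (1, 5), (2, 8), (3, 8), (6, 8), (7, 8)],
  [(0, 5), (1, 6), (2, 5), (3, 5), (4, 5), (5, 6)],
  [(0, 5), (1, 6), (2, 6), (3, 6), (4, 5), (5, 6)],
  [(0, 6), (1, 7), (2, 7), (3, 7), (4, 7), (5, 7), (6, 7), (7, 8)],
  [(0, 7), (1, 3), (2, 3), (4, 7), (5, 7), (6, 7)],
  [(0, 6), (1, 4), (2, 8), (3, 8), (5, 8), (7, 8)],
  [(0, 7), (1, 5), (2, 7), (3, 7), (4, 5), (6, 7)],
  [(0, 7), (1, 5), (2, 5), (3, 5), (4, 5), (6, 7)], [(0, 8), (1, 6), (2, 6), (3, 6)],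
  [(0, 7), (1, 5), (2, 7), (4, 5), (5, 7), (6, 7)], [(0, 8), (1, 6), (2, 6), (5, 6)],
  [(0, 8), (1, 6), (4, 6), (5, 6)], [(1, 7), (7, 8)], [(0, 5), (1, 8), (2, 8), (5, 8)],
  [(0, 5), (1, 8), (4, 8), (5, 8)], [(0, 5), (1, 8), (3, 5), (4, 5)],
  [(0, 6), (1, 6), (6, 7), (7, 8)], [(0, 6), (1, 7), (2, 6), (4, 6), (5, 6), (6, 7)],
  [(0, 6), (1, 7), (2, 7), (4, 7), (5, 6), (6, 7)],
  [(0, 7), (1, 8), (2, 8), (3, 4), (4, 8), (5, 8), (6, 8), (7, 8)],
  [(0, 7), (1, 4), (2, 8), (3, 7), (5, 7), (6, 7)],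
  [(0, 7), (1, 5), (2, 8), (3, 5), (4, 7), (6, 7)],
  [(0, 8), (1, 6), (2, 8), (3, 6), (4, 6), (5, 6)],
  [(0, 7), (1, 5), (2, 8), (3, 8), (4, 7), (6, 7)],
  [(0, 8), (1, 6), (2, 8), (3, 8), (4, 8), (5, 6)],
  [(0, 8), (1, 6), (2, 6), (3, 6), (4, 8), (5, 6)],
  [(1, 7), (2, 7), (3, 7), (4, 7), (5, 7), (7, 8)],
  [(0, 8), (1, 3), (2, 3), (4, 8), (5, 8), (6, 8)], [(1, 4), (2, 4), (3, 4), (7, 8)],
  [(0, 7), (1, 4), (2, 8), (3, 8), (5, 8), (6, 7)],
  [(0, 8), (1, 5), (2, 8), (3, 8), (4, 5), (6, 8)],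
  [(0, 8), (1, 5), (2, 5), (3, 5), (4, 5), (6, 8)], [(1, 6), (2, 6), (3, 6), (7, 8)],
  [(0, 8), (1, 5), (2, 8), (4, 5), (5, 8), (6, 8)], [(0, 1), (1, 8), (5, 8), (6, 8)],
  [(0, 1), (3, 4), (4, 5), (7, 8)], [(0, 2), (2, 3), (3, 4), (4, 5), (5, 6), (6, 7)],
  [(0, 8), (1, 4), (2, 4), (5, 8), (6, 8), (7, 8)], [(1, 5), (2, 5), (3, 4), (4, 5)],
  [(0, 1), (1, 5)], [(0, 1), (1, 6), (3, 4), (4, 5), (6, 7), (7, 8)],
  [(0, 1), (1, 6), (2, 3), (3, 4), (6, 7), (7, 8)], [(0, 2), (1, 6), (6, 7), (7, 8)],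
  [(0, 2), (1, 7), (2, 3), (3, 4), (4, 5), (5, 6), (6, 8), (7, 8)],
  [(0, 4), (1, 7), (2, 8), (3, 7), (5, 7), (6, 7)],
  [(0, 5), (1, 8), (2, 5), (3, 8), (4, 8), (5, 8)],
  [(0, 4), (1, 7), (2, 8), (3, 8), (5, 7), (6, 7)],
  [(0, 5), (1, 8), (2, 5), (3, 5), (4, 5), (5, 8)],
  [(0, 5), (1, 8), (2, 8), (3, 8), (4, 5), (5, 8)],
  [(0, 6), (1, 6), (2, 6), (3, 6), (4, 6), (5, 6), (6, 7), (7, 8)],
  [(0, 4), (1, 8), (2, 4), (4, 8), (5, 8), (6, 8)], [(0, 5), (3, 5), (4, 5), (7, 8)],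
  [(0, 5), (1, 7), (2, 8), (3, 7), (4, 5), (6, 7)],
  [(0, 6), (1, 8), (2, 6), (3, 8), (4, 8), (6, 8)],
  [(0, 5), (1, 7), (2, 8), (3, 8), (4, 5), (6, 7)],
  [(0, 6), (1, 8), (2, 6), (3, 6), (4, 6), (6, 8)],
  [(0, 6), (1, 8), (2, 8), (3, 8), (4, 6), (6, 8)],
  [(0, 7), (1, 7), (2, 7), (3, 7), (4, 7), (5, 6), (6, 7), (7, 8)],
  [(0, 6), (1, 8), (2, 6), (4, 8), (5, 8), (6, 8)], [(0, 7), (1, 7), (2, 7), (7, 8)],
  [(0, 6), (1, 8), (3, 6), (4, 8), (5, 8), (6, 8)], [(0, 7), (1, 7), (4, 7), (7, 8)],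
  [(0, 7), (3, 7), (4, 7), (7, 8)], [(0, 6), (1, 8), (2, 6), (4, 6), (5, 6), (6, 8)],
  [(0, 7), (1, 7), (2, 7), (4, 7), (6, 7), (7, 8)], [(0, 7), (1, 7), (6, 7), (7, 8)],
  [(0, 6), (1, 8), (2, 8), (4, 8), (5, 6), (6, 8)],
  [(0, 7), (1, 7), (2, 7), (3, 4), (4, 7), (5, 7), (6, 7), (7, 8)],
  [(0, 7), (5, 7), (6, 7), (7, 8)], [(0, 5), (1, 8), (2, 8), (4, 5), (6, 8), (7, 8)],
  [(0, 6), (1, 6), (2, 6), (3, 4)], [(0, 6), (4, 6)], [(0, 7), (3, 4), (5, 6), (7, 8)],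
  [(0, 7), (2, 3), (3, 4), (4, 5), (5, 6), (7, 8)],
  [(0, 5), (1, 8), (4, 5), (5, 8), (6, 8), (7, 8)], [(0, 6), (1, 6), (3, 4), (5, 6)],
  [(0, 6), (3, 4), (4, 6), (5, 6)], [(0, 7), (3, 5), (4, 5), (7, 8)],
  [(0, 7), (1, 2), (2, 3), (3, 4), (4, 5), (7, 8)],
  [(0, 7), (1, 2), (2, 7), (3, 4), (4, 5), (7, 8)],
  [(0, 8), (1, 2), (2, 3), (3, 5), (4, 6), (5, 6), (6, 7), (7, 8)],
  [(0, 7), (1, 2), (2, 3), (3, 4), (4, 7), (7, 8)],
  [(0, 8), (1, 2), (2, 4), (3, 5), (4, 5), (5, 6), (6, 7), (7, 8)], [(0, 8), (6, 8)],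
  [(3, 4), (4, 5), (5, 6), (7, 8)], [(1, 2), (2, 3), (3, 4), (5, 6)], [(2, 3), (3, 5)],
  [(1, 2), (2, 3), (3, 5), (4, 5)], [(0, 1), (1, 2), (2, 3), (3, 6), (6, 7), (7, 8)],
  [(0, 6), (1, 2), (2, 6), (3, 7), (4, 8), (5, 6), (6, 7), (7, 8)],
  [(0, 8), (1, 3), (2, 6), (3, 6), (4, 8), (5, 6), (6, 8), (7, 8)],
  [(1, 4), (2, 7), (3, 7), (4, 7), (5, 7), (6, 7)],
  [(0, 1), (1, 4), (2, 7), (3, 7), (5, 7), (6, 7)],
  [(0, 1), (1, 5), (2, 8), (3, 8), (4, 8), (5, 8)],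
  [(0, 8), (1, 4), (2, 7), (3, 8), (4, 7), (5, 8), (6, 8), (7, 8)],
  [(0, 8), (1, 4), (2, 7), (3, 4), (4, 7), (5, 8), (6, 8), (7, 8)],
  [(1, 5), (2, 8), (3, 5), (4, 8)],
  [(0, 8), (1, 3), (2, 7), (3, 7), (4, 8), (5, 7), (6, 8), (7, 8)],
  [(1, 4), (2, 8), (3, 8), (4, 8), (5, 8), (6, 8)],
  [(0, 1), (1, 4), (2, 8), (3, 8), (5, 8), (6, 8)],
  [(0, 8), (1, 5), (2, 7), (3, 7), (4, 8), (5, 7), (6, 8), (7, 8)],
  [(1, 6), (2, 8), (3, 8), (4, 8), (5, 8), (6, 8)],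
  [(0, 1), (1, 6), (2, 8), (3, 8), (4, 6), (5, 6)],
  [(0, 1), (1, 6), (2, 6), (3, 7), (4, 8), (5, 6), (6, 7), (7, 8)],
  [(0, 5), (1, 8), (2, 4), (3, 4), (4, 5), (5, 8), (6, 8), (7, 8)],
  [(0, 6), (1, 6), (2, 5), (3, 5), (4, 5), (5, 6)], [(0, 6), (2, 5), (3, 5), (4, 6)],
  [(0, 7), (2, 6), (3, 6), (4, 6), (5, 6), (7, 8)],
  [(0, 5), (1, 5), (2, 7), (4, 5), (5, 7), (6, 7)], [(0, 6), (2, 8), (5, 8), (6, 8)],
  [(0, 6), (1, 2), (2, 8), (4, 8), (5, 8), (6, 8)],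
  [(0, 7), (1, 7), (2, 4), (4, 7), (5, 7), (6, 7)], [(0, 8), (2, 5)],
  [(0, 8), (1, 2), (2, 5), (4, 5)], [(0, 8), (1, 2), (2, 5), (3, 8), (4, 8), (5, 8)],
  [(1, 2), (2, 6), (6, 7), (7, 8)], [(0, 7), (2, 6), (4, 6), (5, 7)],
  [(0, 8), (2, 7), (3, 4), (4, 7), (5, 7), (6, 7)],
  [(0, 4), (1, 8), (2, 7), (3, 4), (4, 8), (5, 8), (6, 8), (7, 8)],
  [(0, 5), (1, 5), (2, 8), (4, 5), (5, 8), (6, 8)], [(0, 6), (2, 6), (5, 6), (7, 8)],
  [(0, 4), (2, 8), (4, 8), (5, 8), (6, 8), (7, 8)], [(0, 5), (2, 5), (3, 4), (4, 5)],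
  [(0, 5), (1, 2)], [(0, 6), (1, 2), (3, 4), (4, 5), (6, 7), (7, 8)],
  [(0, 6), (1, 3), (2, 3), (3, 4), (6, 7), (7, 8)],
  [(0, 7), (1, 3), (3, 4), (4, 5), (5, 6), (6, 8)],
  [(0, 7), (1, 8), (2, 4), (3, 7), (4, 7), (5, 8), (6, 8), (7, 8)],
  [(0, 7), (1, 8), (2, 4), (3, 8), (4, 7), (5, 8), (6, 8), (7, 8)],
  [(0, 8), (1, 8), (2, 5), (3, 8), (4, 8), (5, 8)],
  [(0, 7), (1, 8), (2, 4), (3, 4), (4, 7), (5, 8), (6, 8), (7, 8)],
  [(0, 8), (1, 8), (2, 5), (3, 5), (4, 5), (5, 8)], [(0, 8), (2, 5), (3, 5), (4, 8)],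
  [(2, 6), (3, 6), (4, 6), (5, 6), (6, 7), (7, 8)],
  [(0, 8), (1, 8), (2, 4), (4, 8), (5, 8), (6, 8)],
  [(0, 7), (1, 8), (2, 5), (3, 8), (4, 8), (5, 7), (6, 8), (7, 8)],
  [(0, 8), (1, 8), (2, 6), (3, 8), (5, 8), (6, 8)],
  [(0, 7), (1, 8), (2, 5), (3, 5), (4, 8), (5, 7), (6, 8), (7, 8)],
  [(0, 8), (1, 8), (2, 6), (3, 6), (4, 8), (5, 6)],
  [(0, 8), (2, 6), (3, 6), (4, 6), (5, 8), (6, 8)], [(2, 7), (3, 7), (5, 7), (7, 8)],
  [(0, 8), (1, 8), (2, 6), (4, 8), (5, 8), (6, 8)], [(2, 7), (7, 8)],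
  [(0, 8), (1, 2), (2, 6), (3, 8), (4, 6), (5, 6)], [(1, 2), (2, 7), (4, 7), (7, 8)],
  [(0, 8), (2, 6), (4, 6), (5, 8)], [(2, 7), (3, 4), (4, 7), (5, 7), (6, 7), (7, 8)],
  [(0, 1), (1, 2), (2, 7), (5, 7), (6, 7), (7, 8)],
  [(0, 8), (1, 2), (2, 5), (4, 8), (6, 8), (7, 8)], [(1, 2), (2, 6), (3, 4), (5, 6)],
  [(0, 1), (1, 2), (2, 7), (3, 5), (4, 5), (7, 8)],
  [(0, 2), (1, 3), (2, 7), (3, 4), (4, 5), (7, 8)],
  [(0, 2), (1, 2), (2, 7), (3, 4), (4, 5), (7, 8)],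
  [(0, 2), (1, 3), (2, 8), (3, 5), (4, 6), (5, 6), (6, 7), (7, 8)],
  [(0, 2), (1, 4), (2, 8), (3, 5), (4, 5), (5, 6), (6, 7), (7, 8)],
  [(0, 3), (1, 4), (2, 8), (3, 4), (4, 8), (5, 8), (6, 8), (7, 8)],
  [(0, 4), (1, 5), (2, 4), (3, 5)], [(0, 5), (1, 6), (2, 5), (3, 5), (4, 6), (5, 6)],
  [(0, 6), (1, 7), (2, 7), (3, 7), (6, 7), (7, 8)],
  [(0, 6), (1, 7), (2, 7), (5, 7), (6, 7), (7, 8)],
  [(0, 6), (1, 7), (4, 7), (5, 7), (6, 7), (7, 8)],
  [(0, 6), (1, 7), (3, 6), (4, 6), (5, 6), (7, 8)], [(0, 8), (1, 6), (2, 6), (4, 6)],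
  [(0, 8), (1, 6)], [(0, 8), (1, 6), (2, 6), (3, 4), (4, 6), (5, 6)],
  [(0, 8), (1, 6), (5, 8), (6, 8)], [(1, 7), (3, 4), (4, 5), (7, 8)],
  [(0, 8), (1, 6), (2, 8), (4, 8), (5, 8), (6, 8)], [(1, 7), (2, 3), (3, 4), (7, 8)],
  [(0, 1), (1, 7), (2, 7), (7, 8)], [(0, 5), (1, 8)],
  [(0, 6), (1, 6), (3, 4), (4, 5), (6, 7), (7, 8)], [(0, 5), (1, 8), (2, 5), (4, 5)],
  [(0, 6), (1, 6), (2, 3), (3, 6), (6, 7), (7, 8)], [(0, 6), (2, 6), (6, 7), (7, 8)],
  [(0, 7), (2, 3), (3, 4), (4, 5), (5, 6), (6, 8)],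
  [(0, 6), (1, 7), (2, 7), (4, 6), (5, 6), (6, 7)],
  [(0, 7), (1, 8), (2, 8), (3, 4), (6, 8), (7, 8)],
  [(0, 7), (1, 8), (3, 4), (5, 8), (6, 8), (7, 8)],
  [(0, 7), (1, 8), (3, 4), (4, 7), (5, 7), (6, 7)], [(0, 8), (1, 8), (3, 5), (4, 5)],
  [(0, 8), (1, 5), (2, 8), (3, 5), (4, 8), (5, 8)], [(1, 7), (2, 7), (3, 7), (7, 8)],
  [(0, 8), (1, 6), (2, 8), (4, 6), (5, 8), (6, 8)], [(1, 7), (2, 7), (5, 7), (7, 8)],
  [(1, 7), (4, 7), (5, 7), (7, 8)], [(0, 8), (1, 5), (2, 8), (4, 8), (5, 8), (6, 8)],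
  [(0, 8), (1, 5), (2, 5), (4, 5), (5, 8), (6, 8)],
  [(1, 6), (2, 6), (3, 4), (4, 6), (5, 6), (7, 8)],
  [(0, 8), (1, 4), (4, 8), (5, 8), (6, 8), (7, 8)],
  [(0, 1), (1, 6), (3, 5), (4, 5), (6, 7), (7, 8)],
  [(0, 2), (1, 6), (3, 4), (4, 5), (6, 7), (7, 8)],
  [(0, 2), (1, 7), (2, 3), (3, 5), (4, 6), (5, 6), (6, 8), (7, 8)],
  [(0, 2), (1, 7), (2, 4), (3, 5), (4, 5), (5, 6), (6, 8), (7, 8)],
  [(0, 3), (1, 7), (2, 7), (3, 4), (4, 5), (5, 6), (6, 8), (7, 8)],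
  [(1, 7), (2, 3), (3, 4), (4, 5), (5, 6), (6, 8)],
  [(0, 3), (1, 8), (2, 4), (3, 5), (4, 6), (5, 7), (6, 7), (7, 8)],
  [(0, 4), (1, 7), (2, 8), (3, 8), (4, 7), (5, 8), (6, 8), (7, 8)],
  [(0, 5), (1, 8), (2, 5), (3, 5), (4, 8), (5, 8)],
  [(0, 6), (1, 6), (2, 6), (3, 6), (6, 7), (7, 8)], [(0, 5), (1, 8), (2, 5), (4, 8)],
  [(0, 6), (3, 6), (4, 6), (5, 6), (6, 7), (7, 8)],
  [(0, 4), (1, 8), (2, 8), (4, 8), (5, 8), (6, 8)],
  [(0, 7), (1, 7), (2, 7), (3, 7), (5, 6), (7, 8)], [(0, 6), (1, 8), (2, 6), (4, 8)],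
  [(0, 7), (1, 7), (2, 7), (5, 6), (6, 7), (7, 8)],
  [(0, 7), (1, 7), (4, 7), (5, 6), (6, 7), (7, 8)],
  [(0, 7), (1, 7), (2, 7), (3, 4), (4, 7), (7, 8)],
  [(0, 7), (1, 7), (2, 3), (3, 7), (4, 7), (7, 8)], [(0, 7), (2, 7), (4, 7), (7, 8)],
  [(0, 6), (1, 8), (2, 8), (4, 6), (5, 6), (6, 8)],
  [(0, 7), (1, 7), (2, 7), (3, 4), (6, 7), (7, 8)], [(0, 7), (4, 7), (6, 7), (7, 8)],
  [(0, 6), (1, 8), (4, 6), (5, 8)], [(0, 7), (1, 7), (3, 4), (5, 7), (6, 7), (7, 8)],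
  [(0, 8), (1, 2), (2, 3), (3, 4), (4, 5), (7, 8)], [(0, 6), (1, 6), (3, 4), (4, 6)],
  [(0, 7), (3, 5), (5, 6), (7, 8)], [(0, 7), (1, 2), (2, 3), (3, 4), (5, 6), (7, 8)],
  [(0, 8), (1, 2), (2, 4), (3, 5), (4, 6), (5, 7), (6, 7), (7, 8)],
  [(0, 7), (2, 3), (3, 5), (7, 8)], [(0, 7), (1, 2), (2, 3), (3, 5), (4, 5), (7, 8)],
  [(0, 7), (1, 2), (2, 7), (3, 5), (4, 5), (7, 8)],
  [(0, 8), (1, 3), (2, 4), (3, 5), (4, 6), (5, 6), (6, 7), (7, 8)],
  [(0, 7), (1, 7), (2, 7), (3, 4), (4, 5), (7, 8)],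
  [(0, 8), (1, 3), (2, 3), (3, 5), (4, 6), (5, 6), (6, 7), (7, 8)],
  [(0, 8), (1, 8), (2, 3), (3, 5), (4, 6), (5, 6), (6, 7), (7, 8)],
  [(0, 7), (1, 7), (2, 3), (3, 4), (4, 7), (7, 8)],
  [(0, 8), (1, 3), (2, 4), (3, 5), (4, 5), (5, 6), (6, 7), (7, 8)],
  [(0, 8), (1, 8), (2, 4), (3, 5), (4, 5), (5, 6), (6, 7), (7, 8)],
  [(0, 1), (1, 2), (2, 3), (3, 5), (4, 6), (5, 7)],
  [(0, 1), (1, 2), (2, 4), (3, 6), (4, 5), (5, 6), (6, 7), (7, 8)],
  [(0, 1), (1, 3), (2, 4), (3, 6), (6, 7), (7, 8)],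
  [(0, 6), (1, 6), (2, 6), (3, 7), (4, 8), (5, 6), (6, 7), (7, 8)],
  [(0, 1), (1, 5), (2, 8), (5, 8)], [(0, 2), (1, 5), (2, 8), (4, 5)],
  [(0, 8), (1, 4), (2, 7), (3, 4), (4, 8), (5, 8), (6, 8), (7, 8)],
  [(1, 5), (2, 8), (3, 5), (4, 5)],
  [(0, 8), (1, 4), (2, 7), (3, 7), (4, 8), (5, 8), (6, 8), (7, 8)],
  [(1, 5), (2, 8), (3, 8), (4, 8)], [(0, 1), (1, 5), (2, 8), (3, 8), (4, 5), (5, 8)],
  [(1, 4), (2, 8), (5, 8), (6, 8)], [(1, 6), (2, 8), (4, 6), (5, 6)],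
  [(0, 2), (1, 6), (2, 8), (3, 8), (4, 6), (5, 6)], [(0, 2), (1, 7), (4, 7), (7, 8)],
  [(0, 7), (2, 6), (5, 6), (7, 8)], [(0, 7), (1, 2), (2, 6), (4, 6), (5, 6), (7, 8)],
  [(0, 6), (2, 8), (3, 4), (4, 8), (5, 8), (6, 8)], [(0, 6), (1, 2), (2, 8), (5, 6)],
  [(0, 7), (1, 3), (2, 7), (3, 4), (4, 7), (7, 8)], [(0, 8), (2, 5), (3, 4), (4, 5)],
  [(1, 2), (2, 6), (3, 4), (4, 5), (6, 7), (7, 8)], [(0, 8), (1, 8), (2, 5), (4, 5)],
  [(0, 1), (2, 6), (6, 7), (7, 8)],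
  [(0, 1), (1, 3), (2, 7), (3, 4), (4, 5), (5, 6), (6, 8), (7, 8)],
  [(0, 8), (1, 2), (2, 7), (3, 4), (4, 8), (5, 8), (6, 8), (7, 8)],
  [(0, 5), (1, 5), (2, 8), (3, 5), (4, 8), (5, 8)],
  [(0, 6), (1, 2), (3, 5), (4, 5), (6, 7), (7, 8)],
  [(0, 7), (1, 3), (3, 5), (4, 6), (5, 6), (6, 8)],
  [(0, 7), (1, 3), (2, 7), (3, 4), (4, 5), (5, 6), (6, 8), (7, 8)],
  [(0, 8), (1, 4), (2, 3), (3, 5), (4, 6), (5, 7), (6, 8), (7, 8)],
  [(0, 8), (1, 8), (2, 5), (3, 8)], [(0, 8), (1, 8), (2, 5), (3, 5), (4, 8), (5, 8)],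
  [(2, 6), (3, 6), (6, 7), (7, 8)], [(0, 8), (1, 8), (2, 5), (4, 8)],
  [(0, 8), (2, 4), (5, 8), (6, 8)], [(2, 7), (3, 7), (4, 5), (7, 8)],
  [(0, 8), (1, 8), (2, 6), (4, 6), (5, 8), (6, 8)], [(2, 7), (4, 7), (5, 7), (7, 8)],
  [(1, 2), (2, 7), (5, 7), (7, 8)], [(2, 7), (3, 4), (4, 7), (7, 8)],
  [(0, 1), (2, 7), (4, 7), (7, 8)], [(0, 8), (1, 2), (2, 6), (4, 8), (5, 6), (6, 8)],
  [(0, 2), (1, 3), (2, 8), (3, 4), (4, 5), (7, 8)],
  [(0, 1), (1, 3), (2, 7), (3, 5), (5, 7), (7, 8)],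
  [(0, 2), (1, 2), (2, 7), (3, 5), (4, 5), (7, 8)],
  [(1, 3), (2, 7), (3, 4), (4, 5), (5, 7), (7, 8)],
  [(0, 3), (1, 4), (2, 8), (3, 5), (4, 6), (5, 8), (6, 7), (7, 8)],
  [(2, 7), (3, 4), (4, 5), (7, 8)], [(0, 3), (2, 8), (3, 5), (4, 6), (5, 6), (6, 7)],
  [(1, 3), (2, 8), (3, 5), (4, 6), (5, 6), (6, 7)],
  [(1, 4), (2, 8), (3, 5), (4, 5), (5, 6), (6, 7)],
  [(0, 5), (1, 6), (2, 6), (3, 6), (4, 6), (5, 6), (6, 7), (7, 8)],
  [(0, 6), (1, 7), (2, 7), (4, 7), (6, 7), (7, 8)], [(0, 6), (1, 7), (5, 6), (7, 8)],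
  [(0, 7), (1, 8), (3, 4), (4, 5)], [(0, 7), (1, 8), (2, 3), (3, 4)],
  [(0, 8), (1, 6), (4, 8), (6, 8)], [(0, 8), (1, 6), (2, 8), (6, 8)],
  [(0, 8), (1, 6), (3, 4), (4, 8), (5, 8), (6, 8)], [(1, 7), (3, 5), (4, 5), (7, 8)],
  [(0, 1), (1, 7), (2, 7), (3, 4), (4, 5), (7, 8)],
  [(0, 1), (1, 8), (2, 3), (3, 5), (4, 6), (5, 6), (6, 7), (7, 8)],
  [(0, 8), (1, 6), (2, 6), (4, 8), (5, 8), (6, 8)],
  [(0, 1), (1, 8), (2, 4), (3, 5), (4, 5), (5, 6), (6, 7), (7, 8)],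
  [(0, 5), (1, 8), (2, 5), (5, 8)], [(0, 6), (2, 6), (3, 4), (4, 5), (6, 7), (7, 8)],
  [(0, 7), (2, 3), (3, 5), (4, 6), (5, 6), (6, 8)],
  [(0, 6), (1, 6), (2, 6), (3, 4), (6, 7), (7, 8)],
  [(0, 7), (2, 4), (3, 4), (4, 5), (5, 6), (6, 8)],
  [(0, 7), (1, 2), (3, 4), (4, 5), (5, 6), (6, 8)],
  [(0, 8), (1, 2), (2, 4), (3, 5), (4, 6), (5, 7), (6, 8), (7, 8)],
  [(0, 7), (1, 8), (3, 4), (4, 8), (6, 8), (7, 8)],
  [(0, 8), (1, 5), (2, 5), (3, 5), (4, 8), (5, 8)],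
  [(1, 6), (2, 6), (3, 6), (4, 6), (6, 7), (7, 8)],
  [(0, 8), (1, 6), (2, 6), (4, 6), (5, 8), (6, 8)],
  [(1, 7), (2, 7), (3, 4), (4, 7), (5, 7), (7, 8)], [(0, 1), (1, 7), (5, 7), (7, 8)],
  [(0, 1), (1, 8), (2, 3), (3, 4), (6, 7), (7, 8)],
  [(0, 8), (1, 5), (2, 5), (4, 8), (5, 8), (6, 8)],
  [(0, 2), (1, 6), (3, 5), (4, 5), (6, 7), (7, 8)],
  [(0, 2), (1, 7), (2, 3), (3, 6), (6, 8), (7, 8)],
  [(0, 3), (1, 7), (2, 7), (3, 5), (4, 6), (5, 6), (6, 8), (7, 8)],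
  [(1, 7), (2, 3), (3, 5), (4, 6), (5, 6), (6, 8)],
  [(0, 3), (1, 8), (2, 4), (3, 6), (4, 7), (7, 8)],
  [(1, 7), (2, 4), (3, 5), (4, 5), (5, 6), (6, 8)],
  [(0, 4), (1, 8), (3, 5), (4, 6), (5, 7), (7, 8)],
  [(0, 1), (1, 8), (2, 4), (3, 5), (4, 6), (5, 7), (6, 8), (7, 8)],
  [(0, 6), (3, 6), (6, 7), (7, 8)], [(0, 7), (4, 5), (5, 6), (6, 8)],
  [(0, 5), (1, 8), (2, 8), (4, 8)], [(0, 4), (1, 8), (5, 8), (6, 8)],
  [(0, 6), (1, 8), (2, 8), (4, 8)], [(0, 7), (5, 6), (6, 7), (7, 8)],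
  [(0, 7), (3, 4), (4, 7), (7, 8)], [(0, 7), (2, 3), (4, 7), (7, 8)],
  [(0, 7), (1, 2), (4, 7), (7, 8)], [(0, 7), (2, 3), (3, 5), (4, 5), (5, 6), (7, 8)],
  [(0, 8), (1, 8), (2, 4), (3, 5), (4, 6), (5, 7), (6, 7), (7, 8)],
  [(0, 8), (1, 2), (2, 4), (3, 6), (4, 5), (5, 6), (6, 7), (7, 8)],
  [(0, 7), (1, 7), (2, 3), (3, 5), (4, 5), (7, 8)],
  [(0, 8), (3, 5), (4, 6), (5, 6), (6, 7), (7, 8)],
  [(0, 8), (2, 4), (3, 5), (5, 6), (6, 7), (7, 8)],
  [(0, 2), (1, 3), (2, 5), (3, 7), (4, 6), (5, 6), (6, 8), (7, 8)],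
  [(1, 5), (2, 8), (4, 8), (5, 8)], [(1, 5), (2, 8), (3, 8), (4, 5)],
  [(1, 5), (2, 8), (4, 5), (5, 8)], [(0, 1), (1, 7), (2, 7), (3, 4), (4, 7), (7, 8)],
  [(0, 7), (1, 2), (2, 6), (5, 7), (6, 7), (7, 8)],
  [(0, 8), (1, 4), (2, 4), (3, 5), (4, 5), (5, 6), (6, 7), (7, 8)],
  [(1, 2), (2, 6), (3, 5), (4, 5), (6, 7), (7, 8)],
  [(0, 1), (2, 6), (3, 4), (4, 5), (6, 7), (7, 8)],
  [(0, 1), (1, 3), (2, 7), (3, 5), (4, 6), (5, 6), (6, 8), (7, 8)],
  [(0, 2), (1, 4), (2, 8), (3, 5), (4, 6), (5, 7), (6, 8), (7, 8)],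
  [(0, 6), (2, 6), (3, 6), (4, 6), (6, 7), (7, 8)],
  [(0, 7), (1, 3), (2, 7), (3, 5), (4, 6), (5, 6), (6, 8), (7, 8)],
  [(0, 8), (1, 4), (2, 3), (3, 6), (4, 7), (6, 8)],
  [(0, 8), (1, 4), (2, 4), (3, 5), (4, 6), (5, 7), (6, 8), (7, 8)],
  [(0, 8), (2, 5), (3, 5), (5, 8)], [(2, 6), (3, 6), (4, 5), (5, 6), (6, 7), (7, 8)],
  [(0, 8), (2, 5), (4, 5), (5, 8)], [(0, 8), (1, 2), (2, 4), (4, 8), (5, 8), (6, 8)],
  [(0, 8), (2, 6), (4, 8), (5, 6)], [(0, 1), (1, 2), (2, 7), (4, 7), (5, 7), (7, 8)],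
  [(2, 7), (3, 5), (4, 5), (7, 8)], [(0, 3), (2, 8), (3, 6), (6, 7)],
  [(0, 1), (1, 4), (2, 8), (3, 5), (4, 6), (6, 7)],
  [(0, 7), (1, 8), (2, 3), (3, 4), (4, 5), (5, 8)],
  [(0, 7), (1, 8), (2, 3), (3, 4), (4, 7), (7, 8)], [(1, 7), (3, 4), (4, 7), (7, 8)],
  [(0, 7), (1, 2), (3, 5), (4, 6), (5, 6), (6, 8)],
  [(0, 8), (1, 2), (2, 4), (3, 6), (4, 7), (6, 8)], [(0, 7), (3, 5), (5, 6), (6, 8)],
  [(0, 8), (1, 2), (2, 5), (4, 6), (5, 7), (6, 8)],
  [(0, 7), (1, 7), (3, 4), (4, 5), (5, 6), (6, 8)],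
  [(0, 8), (1, 3), (3, 5), (4, 6), (5, 7), (6, 8)],
  [(0, 8), (1, 8), (2, 4), (3, 5), (4, 6), (5, 7), (6, 8), (7, 8)],
  [(0, 8), (1, 6), (4, 8), (5, 6)], [(0, 2), (1, 8), (2, 3), (3, 4), (6, 7), (7, 8)],
  [(0, 4), (1, 8), (3, 6), (4, 7), (6, 7), (7, 8)],
  [(0, 1), (1, 8), (2, 4), (3, 6), (4, 7), (6, 8)],
  [(0, 1), (1, 8), (2, 5), (3, 6), (5, 7), (6, 8)],
  [(0, 4), (1, 8), (2, 4), (3, 5), (4, 6), (5, 7), (6, 8), (7, 8)],
  [(0, 5), (1, 8), (4, 5), (5, 8)], [(0, 6), (1, 8), (4, 6), (6, 8)],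
  [(1, 3), (2, 5), (3, 7), (4, 6), (5, 6), (6, 8)], [(0, 1), (1, 5), (2, 8), (4, 8)],
  [(0, 8), (1, 3), (2, 7), (3, 4), (4, 5), (7, 8)],
  [(0, 2), (2, 7), (3, 5), (4, 6), (5, 6), (6, 8)],
  [(0, 2), (1, 4), (2, 8), (3, 6), (4, 7), (6, 8)],
  [(1, 4), (2, 8), (3, 5), (4, 6), (5, 7), (7, 8)],
  [(0, 8), (1, 4), (2, 4), (3, 6), (4, 7), (6, 8)],
  [(0, 8), (1, 2), (2, 6), (4, 6), (5, 8), (6, 8)],
  [(0, 7), (1, 2), (2, 7), (3, 5), (5, 6), (6, 8)]]

theorem a_K : aSpec.K = closeK 9 aGens aSteps [(idCode 9, 1)] := by decide +kernel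

theorem a_tbl : aSpec.tblOK aWords = true := by decide +kernel

theorem a_gens : aGens.all (fun g => wordOK 9 g.1) = true := by decide +kernel

/-- Seed relations. -/
def aSeeds : List (List (ℕ × ℤ)) := [
  [(2, 1), (10, 1), (12, 1), (14, 1), (15, 1), (20, 1), (28, 1), (32, 1), (34, 1), (40, 1), (47, 1), (55, 1), (89, 1), (95, 1), (99, 1), (122, 1), (123, 1), (140, 1), (148, 1), (160, 1), (169, 1), (170, 1), (176, 1), (204, 1), (237, 1), (251, 1), (287, 1), (312, 1), (392, 1), (432, 1)],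
  [(22, 1), (52, 1), (61, 1), (68, 1), (90, 1), (113, 1), (129, 1), (138, 1), (171, 1), (227, 1), (252, 1), (259, 1), (319, 1), (336, 1), (453, 1), (455, 1), (538, 1), (584, 1), (613, 1), (649, 1), (661, 1), (688, 1), (758, 1), (760, 1), (762, 1), (797, 1), (846, 1), (901, 1), (902, 1), (910, 1)],
  [(255, 1), (292, 1), (350, 1), (360, 1), (446, 1), (489, 1), (559, 1), (630, 1), (665, 1), (776, 1)],
  [(309, 1), (327, 1), (425, 1), (480, 1), (493, 1), (632, 1), (646, 1)],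
  [(324, 1), (416, 1), (428, 1), (473, 1), (549, 1), (550, 1), (653, 1)],
  [(380, 1), (388, 1), (389, 1), (481, 1), (494, 1), (516, 1), (631, 1)],
  [(0, 1), (2, 1), (18, 1), (41, 1), (42, 1), (48, 1), (75, 1), (76, 1), (102, 1), (104, 1), (113, 1), (114, 1), (118, 1), (146, 1), (154, 1), (166, 1), (167, 1), (169, 1), (221, 1), (240, 1), (242, 1), (279, 1), (281, 1), (295, 1), (307, 1), (323, 1), (342, 1), (356, 1), (357, 1), (374, 1), (411, 1), (424, 1), (461, 1), (472, 1), (512, 1), (517, 1), (537, 1), (544, 1), (564, 1), (570, 1), (590, 1), (594, 1), (599, 1), (604, 1), (666, 1), (692, 1), (702, 1), (703, 1), (715, 1), (723, 1), (738, 1), (749, 1), (752, 1), (786, 1), (817, 1), (824, 1), (831, 1), (848, 1), (888, 1), (912, 1), (914, 1), (931, 1), (938, 1)]]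

/-- Invariance data. -/
def aFix0 : List (List (ℕ × ℕ) × List (ℕ × ℕ) × List Inst) := [
  ([(0, 1), (1, 2), (2, 3), (3, 4)], [(14, 1), (148, 133), (89, 0), (10, 8), (12, 0), (251, 5), (55, 0), (40, 0), (432, 141), (237, 138), (2, 5), (204, 67), (160, 141), (122, 93), (95, 70), (123, 4), (140, 41), (99, 70), (47, 7), (312, 0), (28, 155), (176, 89), (32, 5), (392, 0), (170, 0), (34, 5), (20, 45), (15, 60), (169, 7), (287, 33)], []),
  ([(0, 5), (1, 4)], [(122, 189), (28, 161), (287, 137), (176, 171), (47, 165), (148, 119), (10, 102), (95, 101), (140, 101), (204, 119), (15, 189), (170, 183), (89, 1), (32, 191), (392, 19), (2, 165), (312, 109), (34, 191), (20, 110), (432, 19), (251, 161), (55, 183), (14, 171), (40, 110), (237, 19), (169, 102), (12, 105), (123, 63), (99, 19), (160, 19)], [])]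

theorem a_fix0 :
    fixOK aSpec 2 [] (aSeeds.getD 0 []) aFix0 = true ∧
      aFix0.map Prod.fst = famA5t := by decide +kernel

/-- Invariance data. -/
def aFix1 : List (List (ℕ × ℕ) × List (ℕ × ℕ) × List Inst) := [
  ([(0, 1), (1, 2), (2, 3), (3, 4)], [(68, 0), (259, 0), (797, 140), (113, 0), (138, 0), (901, 10), (453, 138), (846, 11), (336, 0), (252, 33), (319, 6), (758, 138), (455, 13), (661, 7), (90, 87), (762, 165), (613, 7), (910, 169), (584, 6), (538, 81), (902, 147), (22, 5), (61, 87), (171, 189), (227, 187), (52, 27), (129, 100), (688, 42), (760, 28), (649, 12)], []),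
  ([(0, 5), (1, 4)], [(760, 57), (584, 86), (910, 10), (846, 100), (661, 87), (455, 138), (902, 10), (762, 57), (538, 89), (336, 65), (649, 59), (901, 43), (758, 30), (227, 31), (453, 92), (113, 155), (171, 48), (52, 86), (688, 89), (252, 81), (90, 27), (613, 48), (319, 30), (22, 88), (138, 88), (797, 62), (68, 100), (259, 47), (129, 10), (61, 10)], [])]

theorem a_fix1 :
    fixOK aSpec 2 [] (aSeeds.getD 1 []) aFix1 = true ∧
      aFix1.map Prod.fst = famA5t := by decide +kernel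

/-- Invariance data. -/
def aFix2 : List (List (ℕ × ℕ) × List (ℕ × ℕ) × List Inst) := [
  ([(0, 1), (1, 2), (2, 3), (3, 4)], [(489, 0), (630, 7), (559, 48), (255, 51), (360, 0), (776, 3), (292, 7), (665, 12), (350, 0), (446, 55)], []),
  ([(0, 5), (1, 4)], [(665, 6), (292, 33), (350, 30), (559, 30), (630, 7), (776, 58), (360, 30), (446, 34), (255, 6), (489, 104)], [])]

theorem a_fix2 :
    fixOK aSpec 2 [] (aSeeds.getD 2 []) aFix2 = true ∧
      aFix2.map Prod.fst = famA5t := by decide +kernel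

/-- Invariance data. -/
def aFix3 : List (List (ℕ × ℕ) × List (ℕ × ℕ) × List Inst) := [
  ([(0, 1), (1, 2), (2, 3), (3, 4), (4, 5), (5, 6)], [(327, 0), (425, 41), (480, 56), (493, 0), (632, 48), (646, 0), (309, 81)], []),
  ([(0, 7), (1, 6), (2, 3), (4, 5)], [(327, 80), (309, 32), (425, 169), (646, 120), (493, 145), (632, 38), (480, 185)], [])]

theorem a_fix3 :
    fixOK aSpec 2 [] (aSeeds.getD 3 []) aFix3 = true ∧
      aFix3.map Prod.fst = famL27x8 := by decide +kernel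

/-- Invariance data. -/
def aFix4 : List (List (ℕ × ℕ) × List (ℕ × ℕ) × List Inst) := [
  ([(0, 1), (1, 2), (2, 3), (3, 4), (4, 5), (5, 6)], [(550, 33), (653, 70), (416, 50), (428, 156), (324, 2), (473, 17), (549, 170)], []),
  ([(0, 7), (1, 6), (2, 3), (4, 5)], [(324, 190), (428, 57), (416, 88), (549, 124), (473, 153), (550, 15), (653, 145)], [])]

theorem a_fix4 :
    fixOK aSpec 2 [] (aSeeds.getD 4 []) aFix4 = true ∧
      aFix4.map Prod.fst = famL27x8 := by decide +kernel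

/-- Invariance data. -/
def aFix5 : List (List (ℕ × ℕ) × List (ℕ × ℕ) × List Inst) := [
  ([(0, 1), (1, 2), (2, 3), (3, 4), (4, 5), (5, 6)], [(389, 0), (481, 33), (516, 55), (494, 0), (380, 74), (631, 98), (388, 13)], []),
  ([(0, 7), (1, 6), (2, 3), (4, 5)], [(389, 80), (388, 171), (380, 32), (481, 10), (631, 156), (516, 177), (494, 179)], [])]

theorem a_fix5 :
    fixOK aSpec 2 [] (aSeeds.getD 5 []) aFix5 = true ∧
      aFix5.map Prod.fst = famL27x8 := by decide +kernel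

/-- Invariance data. -/
def aFix6 : List (List (ℕ × ℕ) × List (ℕ × ℕ) × List Inst) := [
  ([(0, 1), (2, 3), (4, 5), (6, 7)], [(0, 9), (169, 86), (48, 17), (723, 26), (702, 87), (18, 28), (817, 105), (104, 40), (342, 5), (76, 40), (848, 20), (786, 159), (167, 33), (221, 7), (537, 20), (517, 100), (118, 33), (2, 86), (146, 34), (931, 57), (914, 171), (281, 69), (279, 54), (461, 122), (307, 10), (594, 0), (102, 5), (357, 33), (356, 33), (472, 179), (692, 100), (424, 129), (295, 108), (374, 156), (512, 169), (166, 100), (154, 11), (590, 173), (715, 106), (570, 145), (544, 106), (323, 0), (599, 14), (738, 180), (666, 190), (411, 100), (42, 27), (824, 6), (564, 173), (41, 26), (604, 168), (912, 181), (888, 34), (114, 157), (75, 137), (703, 6), (938, 179), (113, 11), (752, 7), (749, 184), (242, 171), (240, 88), (831, 156)], []),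
  ([(0, 2), (2, 4), (3, 6), (4, 6), (5, 6), (6, 7)], [(570, 81), (240, 173), (242, 82), (715, 110), (472, 36), (154, 101), (76, 50), (931, 82), (831, 127), (888, 32), (703, 127), (912, 11), (2, 75), (749, 124), (374, 14), (848, 113), (824, 157), (752, 75), (295, 32), (692, 7), (817, 6), (221, 32), (590, 134), (517, 121), (512, 116), (411, 86), (738, 4), (323, 134), (342, 65), (104, 11), (723, 113), (307, 177), (42, 100), (357, 74), (599, 33), (75, 140), (118, 26), (48, 44), (702, 145), (666, 13), (564, 166), (281, 13), (0, 73), (41, 51), (424, 136), (114, 140), (167, 31), (102, 29), (166, 145), (18, 46), (786, 78), (914, 7), (604, 163), (461, 38), (356, 122), (594, 99), (146, 42), (169, 28), (938, 66), (537, 191), (113, 4), (279, 163), (544, 37)], []),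
  ([(1, 8), (2, 5), (3, 6), (4, 7)], [(604, 82), (2, 183), (411, 57), (599, 153), (472, 3), (154, 57), (295, 158), (221, 81), (749, 153), (938, 79), (113, 26), (912, 12), (240, 184), (831, 162), (48, 88), (307, 153), (281, 85), (666, 85), (76, 59), (118, 181), (323, 143), (931, 31), (167, 149), (75, 46), (166, 124), (242, 151), (786, 32), (817, 143), (461, 35), (544, 162), (18, 88), (848, 82), (357, 35), (42, 3), (715, 94), (517, 10), (692, 10), (374, 162), (564, 100), (752, 91), (702, 132), (824, 135), (41, 124), (0, 74), (169, 149), (537, 10), (590, 140), (914, 120), (512, 94), (723, 14), (738, 96), (102, 124), (570, 128), (342, 80), (356, 151), (594, 116), (146, 162), (424, 74), (888, 129), (114, 12), (703, 185), (279, 65), (104, 72)], [])]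

theorem a_fix6 :
    fixOK aSpec 2 [] (aSeeds.getD 6 []) aFix6 = true ∧
      aFix6.map Prod.fst = famL28b := by decide +kernel

/-- A part of a certificate. -/
def aCert0 : List Inst := [
  ⟨[(0, 7), (1, 8), (2, 6), (3, 8), (4, 6), (5, 7)], 4, 1, [(31, 133), (460, 63), (54, 107), (941, 160), (799, 95), (942, 63), (831, 155)]⟩,
  ⟨[(0, 4), (1, 4)], 4, 1, [(579, 129), (667, 190), (647, 16), (556, 2), (631, 93), (406, 0), (326, 33)]⟩,
  ⟨[(0, 7), (1, 2), (2, 7), (4, 7)], 3, 1, [(684, 172), (415, 153), (362, 136), (310, 40), (511, 54), (477, 94), (389, 109)]⟩,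
  ⟨[(0, 7), (1, 8), (3, 7), (4, 8), (5, 7), (6, 8)], 3, 1, [(486, 45), (112, 0), (441, 90), (174, 0), (412, 2), (659, 115), (469, 63)]⟩,
  ⟨[(0, 8), (1, 7), (2, 6), (3, 8), (4, 6), (5, 7)], 4, 1, [(38, 59), (313, 136), (827, 42), (621, 90), (607, 90), (892, 87), (187, 8)]⟩,
  ⟨[(0, 6), (2, 7), (3, 8), (4, 6), (5, 8), (7, 8)], 4, 1, [(790, 11), (820, 86), (100, 95), (28, 155), (857, 43), (689, 78), (915, 10)]⟩,
  ⟨[(0, 3), (1, 3), (2, 4), (3, 5), (4, 6), (5, 7), (6, 8), (7, 8)], 3, 1, [(431, 5), (268, 83), (752, 6), (728, 121), (810, 102), (845, 191), (63, 95)]⟩,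
  ⟨[(0, 6), (1, 8), (2, 8), (3, 8), (4, 8), (6, 8)], 4, 1, [(779, 165), (34, 175), (575, 179), (449, 163), (711, 119), (190, 45), (106, 181)]⟩,
  ⟨[(0, 7), (1, 8), (2, 5), (3, 7), (4, 7), (6, 7)], 4, 1, [(661, 2), (9, 131), (64, 44), (850, 176), (871, 129), (872, 83), (640, 159)]⟩,
  ⟨[(0, 2), (1, 2)], 5, 1, [(429, 64), (324, 1), (328, 6), (351, 0), (495, 6), (378, 0), (636, 33)]⟩,
  ⟨[(0, 8), (1, 6), (3, 8), (4, 6), (5, 8), (7, 8)], 4, 1, [(651, 0), (196, 17), (665, 95), (211, 115), (417, 34), (479, 139), (525, 139)]⟩,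
  ⟨[(0, 5), (1, 6), (2, 4), (3, 7), (4, 8), (5, 8), (6, 7), (7, 8)], 3, 1, [(40, 12), (485, 125), (894, 56), (713, 81), (44, 54), (576, 86), (676, 74)]⟩,
  ⟨[(0, 7), (1, 5), (2, 3), (3, 8), (4, 7), (6, 8)], 3, 1, [(384, 114), (137, 25), (210, 114), (826, 180), (535, 137), (628, 86), (200, 95)]⟩,
  ⟨[(0, 8), (1, 6), (2, 8), (3, 8), (4, 8), (5, 6), (6, 8), (7, 8)], 5, 1, [(413, 25), (232, 93), (379, 34), (630, 181), (358, 4), (387, 124), (537, 182)]⟩,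
  ⟨[(0, 5), (1, 6), (2, 4), (3, 7), (4, 8), (5, 6)], 4, 1, [(93, 1), (75, 63), (18, 50), (814, 160), (815, 110), (840, 105), (915, 118)]⟩,
  ⟨[(0, 7), (1, 5), (2, 6), (3, 8), (4, 7), (5, 8), (6, 7), (7, 8)], 3, 1, [(856, 45), (582, 58), (938, 160), (876, 13), (132, 69), (703, 23), (11, 81)]⟩,
  ⟨[(0, 8), (1, 6), (2, 8), (3, 6), (5, 6), (7, 8)], 3, 1, [(347, 58), (325, 18), (630, 165), (488, 119), (367, 104), (776, 167), (360, 19)]⟩,
  ⟨[(0, 2), (1, 3), (2, 4), (3, 5), (4, 6), (5, 7), (6, 8), (7, 8)], 3, 1, [(158, 5), (169, 26), (462, 189), (726, 104), (642, 102), (722, 155), (61, 95)]⟩,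
  ⟨[(0, 5), (1, 6), (2, 5), (3, 7), (4, 8), (7, 8)], 4, 1, [(656, 166), (37, 14), (125, 50), (397, 115), (925, 45), (877, 170), (923, 84)]⟩,
  ⟨[(0, 6), (1, 7), (2, 4), (3, 8), (4, 6), (5, 8)], 3, 1, [(286, 39), (177, 58), (774, 100), (507, 49), (69, 54), (521, 88), (914, 101)]⟩,
  ⟨[(0, 6), (1, 6), (3, 4), (4, 5), (6, 7), (7, 8)], 3, 1, [(40, 68), (894, 114), (741, 89), (519, 152), (577, 0), (713, 30), (86, 143)]⟩,
  ⟨[(0, 4), (1, 7), (2, 8), (3, 7), (5, 7), (6, 8)], 4, 1, [(215, 6), (487, 67), (625, 5), (333, 95), (870, 176), (210, 50), (112, 63)]⟩,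
  ⟨[(0, 5), (1, 7), (2, 6), (3, 8), (4, 5), (5, 7), (6, 8), (7, 8)], 3, 1, [(39, 6), (340, 58), (881, 11), (700, 114), (94, 54), (226, 32), (887, 168)]⟩,
  ⟨[(0, 4), (1, 5), (2, 4), (3, 6), (4, 7), (5, 8), (6, 8), (7, 8)], 4, 1, [(842, 102), (30, 65), (27, 50), (786, 112), (702, 27), (918, 125), (936, 17)]⟩,
  ⟨[(0, 1), (1, 2), (2, 6), (5, 7), (6, 7), (7, 8)], 3, 1, [(639, 120), (120, 141), (781, 60), (501, 155), (564, 2), (580, 166), (602, 0)]⟩,
  ⟨[(0, 4), (1, 6), (2, 3), (3, 7), (4, 8), (5, 8)], 4, 1, [(355, 11), (135, 134), (122, 113), (694, 160), (767, 154), (270, 25), (774, 4)]⟩,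
  ⟨[(0, 6), (1, 8), (3, 6), (4, 6)], 4, 1, [(810, 101), (9, 175), (733, 179), (603, 163), (836, 119), (264, 114), (157, 181)]⟩,
  ⟨[(0, 6), (1, 5), (2, 6), (3, 7), (4, 8), (6, 7)], 3, 1, [(289, 113), (87, 0), (800, 57), (544, 86), (212, 69), (586, 27), (209, 15)]⟩,
  ⟨[(0, 5), (1, 6), (2, 8), (3, 8), (4, 5), (5, 6), (6, 8), (7, 8)], 4, 1, [(275, 2), (257, 5), (442, 20), (248, 95), (387, 124), (423, 25), (301, 63)]⟩,
  ⟨[(0, 8), (1, 2), (2, 7), (3, 7), (4, 8), (5, 8), (6, 8), (7, 8)], 4, 1, [(799, 12), (543, 90), (121, 12), (50, 83), (823, 134), (921, 38), (878, 82)]⟩,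
  ⟨[(0, 6), (1, 8), (2, 8), (5, 8), (6, 7), (7, 8)], 3, 1, [(329, 143), (482, 172), (721, 168), (312, 50), (422, 21), (186, 66), (602, 29)]⟩,
  ⟨[(0, 6), (1, 8), (2, 7), (3, 6), (4, 6), (5, 8), (6, 8), (7, 8)], 4, 1, [(29, 174), (858, 132), (100, 33), (855, 20), (785, 16), (372, 79), (938, 43)]⟩,
  ⟨[(0, 8), (1, 5), (2, 7), (3, 5), (4, 7), (5, 8), (6, 8), (7, 8)], 3, 1, [(199, 109), (805, 37), (45, 33), (934, 163), (241, 34), (585, 167), (91, 26)]⟩,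
  ⟨[(0, 2), (1, 6), (2, 7), (3, 8), (4, 7), (5, 8)], 3, 1, [(545, 86), (745, 67), (193, 72), (610, 15), (260, 1), (177, 89), (318, 163)]⟩,
  ⟨[(0, 5), (1, 7), (2, 8), (3, 5), (4, 8), (5, 8), (6, 8), (7, 8)], 4, 1, [(676, 67), (519, 21), (727, 27), (576, 95), (894, 57), (86, 45), (40, 181)]⟩,
  ⟨[(0, 8), (1, 8), (2, 7), (3, 8), (4, 7), (5, 8)], 3, 1, [(73, 12), (151, 125), (771, 138), (401, 95), (238, 54), (557, 50), (408, 33)]⟩,
  ⟨[(0, 2), (1, 8), (2, 3), (3, 8), (5, 6), (6, 7)], 4, 1, [(671, 21), (654, 1), (808, 145), (2, 162), (758, 35), (138, 175), (668, 190)]⟩,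
  ⟨[(0, 1), (1, 6), (2, 6), (3, 6), (4, 6), (5, 6)], 4, 1, [(480, 2), (429, 65), (376, 117), (0, 93), (515, 179), (666, 0), (518, 2)]⟩,
  ⟨[(0, 6), (1, 7), (2, 5), (3, 8), (4, 5), (5, 6), (6, 8), (7, 8)], 3, 1, [(41, 9), (205, 79), (728, 45), (899, 76), (431, 2), (752, 27), (729, 46)]⟩,
  ⟨[(0, 1), (1, 5), (2, 6), (3, 7), (4, 8), (7, 8)], 4, 1, [(691, 67), (704, 175), (313, 27), (81, 118), (892, 123), (107, 33), (827, 60)]⟩,
  ⟨[(0, 1), (1, 4), (2, 5), (3, 6), (4, 7), (5, 8), (6, 7), (7, 8)], 5, 1, [(170, 26), (908, 0), (397, 86), (59, 33), (189, 25), (399, 110), (831, 43)]⟩,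
  ⟨[(0, 5), (1, 7), (2, 6), (3, 8), (4, 5), (5, 7), (6, 7), (7, 8)], 4, 1, [(223, 40), (857, 132), (19, 33), (755, 183), (854, 59), (239, 77), (917, 129)]⟩,
  ⟨[(0, 1), (2, 8)], 3, 1, [(12, 45), (703, 25), (581, 1), (902, 95), (606, 8), (619, 33), (369, 26)]⟩,
  ⟨[(0, 7), (1, 8), (2, 6), (3, 7), (4, 6), (5, 8), (6, 8), (7, 8)], 4, 1, [(55, 176), (502, 136), (54, 44), (908, 185), (615, 32), (860, 154), (940, 73)]⟩,
  ⟨[(0, 7), (1, 8), (2, 6), (3, 7), (4, 8), (5, 8), (6, 8), (7, 8)], 4, 1, [(170, 103), (35, 153), (139, 50), (862, 185), (434, 94), (885, 97), (464, 115)]⟩,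
  ⟨[(0, 4), (1, 6), (2, 3), (3, 7), (4, 8), (5, 8)], 5, 1, [(101, 132), (408, 114), (103, 25), (213, 25), (610, 26), (867, 173), (746, 20)]⟩,
  ⟨[(0, 1), (1, 4), (2, 5), (3, 6), (4, 7), (5, 8), (6, 8), (7, 8)], 5, 1, [(334, 26), (807, 160), (793, 22), (138, 33), (500, 25), (513, 45), (551, 10)]⟩,
  ⟨[(0, 6), (1, 5), (2, 7), (3, 8), (4, 6), (5, 7), (6, 8), (7, 8)], 4, 1, [(266, 0), (553, 130), (675, 23), (6, 189), (740, 37), (812, 86), (848, 26)]⟩,
  ⟨[(0, 7), (1, 5), (2, 6), (3, 8), (4, 6), (6, 8)], 3, 1, [(609, 39), (171, 127), (150, 0), (461, 119), (130, 144), (623, 5), (204, 38)]⟩,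
  ⟨[(0, 4), (1, 7), (2, 8), (3, 4), (4, 7), (5, 8), (6, 7), (7, 8)], 4, 1, [(291, 2), (588, 141), (343, 86), (333, 161), (591, 176), (162, 33), (216, 90)]⟩,
  ⟨[(0, 7), (1, 7), (2, 6), (3, 7), (4, 6), (5, 7)], 4, 1, [(578, 65), (376, 134), (3, 45), (429, 93), (652, 95), (631, 10), (666, 136)]⟩,
  ⟨[(0, 4), (1, 6), (2, 7), (3, 8), (4, 6), (5, 6), (6, 8), (7, 8)], 4, 1, [(786, 132), (620, 132), (583, 148), (605, 161), (288, 119), (237, 7), (223, 90)]⟩,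
  ⟨[(0, 5), (1, 6), (2, 8), (3, 5), (4, 6), (5, 6), (6, 8), (7, 8)], 3, 1, [(749, 5), (387, 46), (497, 162), (525, 111), (555, 133), (300, 29), (246, 19)]⟩,
  ⟨[(0, 7), (1, 5), (2, 8), (3, 8), (4, 7), (5, 8), (6, 7), (7, 8)], 4, 1, [(217, 70), (695, 100), (245, 63), (172, 162), (644, 185), (471, 53), (317, 115)]⟩,
  ⟨[(1, 2), (2, 8)], 3, 1, [(6, 45), (553, 25), (816, 8), (812, 95), (576, 8), (726, 7), (266, 26)]⟩,
  ⟨[(0, 1), (1, 3), (2, 5), (3, 6), (4, 7), (5, 8), (6, 8), (7, 8)], 3, 1, [(199, 87), (340, 26), (586, 155), (887, 102), (881, 15), (56, 95), (72, 29)]⟩,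
  ⟨[(0, 7), (1, 8), (2, 3), (3, 7), (4, 8), (5, 8), (6, 8), (7, 8)], 4, 1, [(919, 58), (28, 60), (132, 50), (703, 115), (696, 0), (856, 127), (876, 59)]⟩,
  ⟨[(0, 4), (1, 3), (2, 6), (3, 7), (4, 8), (5, 8)], 4, 1, [(355, 67), (401, 133), (371, 26), (95, 91), (557, 98), (151, 25), (771, 151)]⟩,
  ⟨[(0, 2), (1, 2), (2, 3), (3, 4), (4, 5), (5, 6), (6, 7), (7, 8)], 5, 1, [(263, 27), (577, 0), (158, 5), (729, 6), (15, 25), (813, 0), (851, 7)]⟩,
  ⟨[(0, 7), (1, 3), (2, 4), (3, 8), (4, 7), (5, 8), (6, 7), (7, 8)], 4, 1, [(440, 185), (153, 134), (443, 171), (119, 93), (626, 126), (882, 78), (181, 11)]⟩]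

/-- A part of a certificate. -/
def aCert1 : List Inst := [
  ⟨[(0, 6), (1, 5), (2, 4), (3, 7), (4, 8), (6, 7)], 3, 1, [(582, 11), (284, 25), (889, 40), (785, 84), (70, 69), (583, 148), (224, 19)]⟩,
  ⟨[(0, 7), (1, 8), (2, 6), (3, 8), (4, 6), (5, 8), (6, 7), (7, 8)], 4, 1, [(160, 13), (242, 63), (98, 50), (761, 179), (126, 66), (540, 79), (769, 186)]⟩,
  ⟨[(0, 2), (1, 3), (2, 5), (3, 6), (4, 7), (5, 8), (6, 8), (7, 8)], 3, 1, [(160, 5), (171, 26), (585, 191), (622, 102), (934, 15), (91, 95), (62, 95)]⟩,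
  ⟨[(0, 7), (1, 5), (2, 6), (3, 8), (4, 6), (5, 7), (6, 7), (7, 8)], 4, 1, [(133, 92), (905, 177), (692, 42), (204, 90), (744, 82), (705, 27), (82, 0)]⟩,
  ⟨[(0, 6), (1, 8), (2, 7), (3, 6), (4, 6), (5, 7)], 3, 1, [(46, 3), (687, 26), (732, 11), (836, 111), (57, 86), (531, 90), (715, 111)]⟩,
  ⟨[(0, 5), (1, 6), (3, 7), (4, 8), (5, 6), (7, 8)], 3, 1, [(55, 12), (54, 77), (930, 9), (860, 189), (393, 119), (893, 191), (615, 63)]⟩,
  ⟨[(0, 4), (1, 7), (2, 8), (3, 7), (5, 7), (6, 8)], 3, 1, [(546, 27), (554, 176), (141, 91), (748, 167), (272, 12), (181, 89), (504, 115)]⟩,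
  ⟨[(0, 5), (1, 8), (2, 5), (3, 8), (4, 8), (5, 8), (6, 8), (7, 8)], 3, 1, [(682, 174), (306, 3), (367, 32), (749, 167), (413, 48), (182, 89), (566, 145)]⟩,
  ⟨[(0, 8), (1, 7), (2, 4), (3, 8), (4, 7), (5, 7), (6, 7), (7, 8)], 3, 1, [(403, 113), (256, 64), (591, 167), (216, 134), (291, 21), (644, 132), (333, 29)]⟩,
  ⟨[(0, 3), (1, 5), (2, 6), (3, 7), (4, 8), (5, 7), (6, 7), (7, 8)], 5, 1, [(372, 83), (797, 140), (697, 86), (277, 33), (370, 25), (703, 110), (840, 10)]⟩,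
  ⟨[(0, 7), (1, 8), (2, 6), (3, 6), (4, 7), (5, 8)], 4, 1, [(177, 65), (521, 134), (69, 40), (650, 2), (371, 95), (867, 37), (914, 155)]⟩,
  ⟨[(0, 5), (1, 2), (3, 5), (4, 5)], 3, 1, [(494, 16), (420, 1), (529, 89), (305, 153), (518, 188), (250, 62), (447, 7)]⟩,
  ⟨[(1, 4), (2, 4)], 4, 1, [(599, 12), (667, 188), (276, 34), (3, 0), (777, 64), (567, 99), (516, 2)]⟩,
  ⟨[(0, 1), (1, 8), (2, 3), (3, 8), (5, 6), (6, 7)], 3, 1, [(903, 52), (690, 28), (757, 61), (797, 14), (916, 32), (129, 105), (16, 19)]⟩,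
  ⟨[(0, 6), (1, 8), (2, 6), (3, 8), (4, 6), (5, 8)], 3, 1, [(193, 17), (123, 0), (318, 163), (745, 167), (470, 0), (151, 155), (694, 95)]⟩,
  ⟨[(0, 1), (1, 6), (6, 7), (7, 8)], 4, 1, [(818, 2), (670, 17), (53, 66), (4, 28), (674, 170), (811, 172), (888, 165)]⟩,
  ⟨[(0, 8), (1, 6), (2, 7), (3, 7), (4, 6), (5, 8)], 3, 1, [(694, 99), (774, 127), (270, 33), (830, 130), (122, 73), (184, 1), (319, 47)]⟩,
  ⟨[(0, 8), (1, 6), (2, 8), (3, 6), (4, 8), (5, 8), (6, 8), (7, 8)], 3, 1, [(350, 58), (497, 0), (508, 170), (427, 72), (301, 103), (750, 16), (182, 19)]⟩,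
  ⟨[(0, 8), (2, 8), (3, 8), (4, 5)], 3, 1, [(20, 20), (59, 26), (922, 11), (925, 165), (139, 86), (824, 90), (896, 50)]⟩,
  ⟨[(0, 7), (1, 6), (2, 4), (3, 8), (5, 7), (6, 8)], 3, 1, [(542, 167), (14, 149), (86, 1), (899, 78), (714, 87), (783, 86), (846, 55)]⟩,
  ⟨[(0, 8), (1, 6), (2, 7), (3, 8), (4, 7), (5, 6), (6, 7), (7, 8)], 4, 1, [(123, 14), (545, 163), (694, 42), (314, 32), (745, 82), (193, 65), (260, 0)]⟩,
  ⟨[(0, 8), (1, 8), (2, 7), (4, 8), (5, 8), (7, 8)], 3, 1, [(27, 11), (841, 52), (907, 159), (697, 95), (581, 14), (917, 130), (96, 42)]⟩,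
  ⟨[(0, 5), (1, 8), (2, 8), (3, 5), (4, 5), (5, 8), (6, 8), (7, 8)], 3, 1, [(296, 176), (196, 34), (377, 95), (524, 165), (249, 0), (280, 51), (566, 139)]⟩,
  ⟨[(1, 7), (2, 8), (3, 8), (4, 8), (5, 7), (6, 8)], 3, 1, [(629, 140), (826, 171), (194, 33), (592, 168), (178, 34), (247, 0), (487, 29)]⟩,
  ⟨[(0, 2), (1, 2), (2, 7), (7, 8)], 4, 1, [(851, 2), (46, 180), (83, 114), (604, 161), (732, 30), (715, 97), (531, 8)]⟩,
  ⟨[(0, 5), (1, 6), (2, 8), (3, 5), (4, 6), (5, 6), (6, 8), (7, 8)], 4, 1, [(445, 26), (492, 67), (709, 136), (208, 88), (558, 124), (281, 109), (304, 135)]⟩,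
  ⟨[(0, 2), (1, 3), (2, 4), (3, 5), (4, 6), (5, 7), (6, 8), (7, 8)], 4, 1, [(604, 0), (268, 60), (168, 86), (44, 161), (809, 123), (838, 0), (661, 181)]⟩,
  ⟨[(0, 8), (1, 6), (2, 8), (3, 8), (4, 8), (5, 6), (6, 8), (7, 8)], 4, 1, [(202, 2), (427, 62), (299, 19), (258, 161), (612, 164), (479, 190), (492, 159)]⟩,
  ⟨[(0, 7), (1, 8), (3, 7), (6, 7)], 4, 1, [(541, 33), (9, 120), (845, 161), (640, 161), (901, 53), (88, 170), (850, 63)]⟩,
  ⟨[(0, 5), (1, 4), (3, 6), (4, 7), (5, 8), (6, 8)], 3, 1, [(116, 45), (35, 25), (860, 0), (663, 157), (862, 8), (434, 27), (139, 95)]⟩,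
  ⟨[(0, 7), (2, 6), (3, 6), (4, 6), (5, 6), (6, 7)], 4, 1, [(527, 188), (421, 135), (597, 85), (683, 179), (416, 134), (294, 25), (652, 74)]⟩,
  ⟨[(0, 6), (1, 5), (2, 7), (3, 8), (4, 5), (5, 7)], 4, 1, [(187, 33), (743, 174), (892, 191), (38, 189), (691, 137), (397, 108), (704, 87)]⟩,
  ⟨[(0, 6), (1, 7), (2, 7), (4, 7), (5, 6), (6, 7)], 3, 1, [(390, 171), (474, 101), (421, 163), (526, 170), (222, 12), (666, 119), (632, 47)]⟩,
  ⟨[(0, 5), (1, 3), (3, 6), (4, 7), (5, 8), (7, 8)], 4, 1, [(934, 43), (68, 134), (199, 11), (62, 91), (585, 158), (241, 26), (622, 142)]⟩,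
  ⟨[(0, 6), (1, 5), (2, 4), (3, 7), (4, 8), (5, 6), (6, 8), (7, 8)], 3, 1, [(313, 11), (143, 25), (878, 1), (898, 157), (42, 69), (337, 86), (116, 29)]⟩,
  ⟨[(0, 7), (1, 8), (2, 6), (3, 8), (4, 6), (5, 8), (6, 8), (7, 8)], 4, 1, [(501, 40), (738, 88), (120, 1), (668, 91), (602, 59), (639, 82), (835, 160)]⟩,
  ⟨[(0, 6), (1, 8), (2, 4), (3, 6), (4, 8), (5, 8), (6, 8), (7, 8)], 4, 1, [(510, 54), (367, 65), (182, 113), (749, 49), (306, 32), (374, 25), (598, 117)]⟩,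
  ⟨[(0, 6), (1, 7), (2, 5), (3, 8), (4, 7), (5, 6), (6, 8), (7, 8)], 4, 1, [(133, 40), (267, 136), (82, 44), (705, 140), (608, 16), (865, 83), (828, 160)]⟩,
  ⟨[(0, 6), (1, 8), (2, 7), (3, 8), (4, 6), (5, 8), (6, 8), (7, 8)], 3, 1, [(78, 6), (874, 5), (679, 161), (736, 5), (370, 14), (696, 90), (789, 75)]⟩,
  ⟨[(0, 4), (1, 7), (2, 8), (3, 8), (4, 7), (5, 8), (6, 7), (7, 8)], 3, 1, [(708, 27), (436, 171), (201, 91), (707, 134), (215, 48), (180, 34), (660, 115)]⟩,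
  ⟨[(0, 4), (1, 7), (2, 7), (3, 7), (5, 7), (6, 7)], 4, 1, [(666, 172), (526, 138), (328, 59), (474, 161), (481, 174), (421, 33), (307, 7)]⟩,
  ⟨[(0, 4), (1, 4), (2, 4), (3, 4)], 3, 1, [(648, 59), (424, 0), (416, 6), (421, 145), (683, 8), (349, 0), (597, 163)]⟩,
  ⟨[(0, 4), (1, 4), (2, 6), (3, 7), (4, 8), (5, 8)], 4, 1, [(455, 138), (402, 133), (295, 45), (111, 93), (270, 187), (411, 25), (545, 10)]⟩,
  ⟨[(0, 4), (1, 7), (2, 4), (3, 4), (5, 7), (6, 7)], 4, 1, [(378, 2), (447, 146), (565, 119), (473, 161), (250, 179), (420, 33), (518, 62)]⟩,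
  ⟨[(0, 8), (1, 6), (2, 8), (3, 8), (4, 8), (5, 6), (6, 8), (7, 8)], 3, 1, [(374, 80), (308, 34), (323, 168), (458, 179), (165, 0), (548, 119), (296, 95)]⟩,
  ⟨[(0, 5), (1, 6), (2, 8), (3, 6), (4, 8), (7, 8)], 3, 1, [(524, 20), (296, 46), (419, 163), (231, 168), (156, 0), (377, 95), (293, 95)]⟩,
  ⟨[(0, 7), (1, 8), (2, 6), (3, 7), (4, 6), (5, 8)], 4, 1, [(177, 123), (371, 136), (128, 44), (507, 54), (521, 90), (884, 160), (774, 115)]⟩,
  ⟨[(0, 6), (1, 5), (2, 6), (3, 7), (4, 8), (7, 8)], 4, 1, [(799, 184), (37, 17), (539, 111), (48, 172), (898, 83), (942, 168), (941, 8)]⟩,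
  ⟨[(0, 1), (1, 6), (2, 8), (3, 6), (4, 8), (5, 6), (6, 8), (7, 8)], 3, 1, [(508, 108), (776, 26), (379, 28), (475, 165), (497, 28), (273, 33), (182, 95)]⟩,
  ⟨[(0, 4), (1, 7), (2, 8), (3, 8), (5, 7), (6, 7)], 4, 1, [(532, 2), (742, 141), (827, 140), (189, 181), (464, 179), (584, 33), (48, 132)]⟩,
  ⟨[(0, 5), (1, 7), (2, 4), (3, 8), (4, 5), (5, 7), (6, 7), (7, 8)], 4, 1, [(487, 11), (194, 134), (178, 113), (773, 5), (763, 16), (346, 10), (592, 82)]⟩,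
  ⟨[(0, 7), (1, 4), (2, 8), (3, 7), (5, 7), (6, 7)], 4, 1, [(918, 117), (840, 130), (27, 66), (30, 155), (803, 184), (889, 116), (906, 132)]⟩,
  ⟨[(0, 5), (1, 6), (2, 5), (3, 7), (4, 8), (7, 8)], 3, 1, [(89, 12), (26, 21), (921, 154), (920, 5), (532, 119), (904, 156), (335, 63)]⟩,
  ⟨[(0, 6), (1, 5), (2, 6), (3, 7), (4, 8), (6, 7)], 4, 1, [(364, 69), (62, 17), (242, 113), (161, 49), (623, 154), (617, 26), (608, 43)]⟩,
  ⟨[(0, 8), (1, 6), (2, 7), (3, 8), (4, 8), (5, 6), (6, 7), (7, 8)], 3, 1, [(521, 150), (884, 189), (69, 0), (774, 90), (117, 92), (650, 1), (371, 117)]⟩,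
  ⟨[(0, 8), (1, 4), (2, 4), (3, 4)], 4, 1, [(721, 98), (863, 33), (49, 5), (147, 87), (778, 183), (792, 108), (634, 88)]⟩,
  ⟨[(0, 7), (1, 8), (2, 5), (3, 7), (4, 5), (5, 8), (6, 7), (7, 8)], 4, 1, [(201, 17), (173, 63), (409, 23), (763, 174), (385, 90), (680, 108), (546, 160)]⟩,
  ⟨[(0, 6), (1, 7), (2, 3), (3, 8), (4, 7), (5, 8), (6, 7), (7, 8)], 4, 1, [(807, 90), (4, 60), (53, 50), (723, 49), (796, 129), (818, 87), (781, 43)]⟩,
  ⟨[(1, 8), (2, 4), (3, 8), (5, 8), (6, 8), (7, 8)], 4, 1, [(446, 2), (165, 65), (489, 132), (589, 161), (248, 30), (559, 34), (419, 2)]⟩,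
  ⟨[(0, 6), (1, 4), (2, 7), (3, 8), (4, 6), (5, 7)], 4, 1, [(742, 141), (764, 119), (143, 95), (20, 155), (698, 137), (532, 108), (464, 67)]⟩]

/-- A part of a certificate. -/
def aCert2 : List Inst := [
  ⟨[(0, 6), (1, 3), (2, 7), (3, 8), (4, 6), (5, 8), (6, 7), (7, 8)], 4, 1, [(608, 138), (544, 133), (62, 95), (161, 93), (289, 137), (212, 147), (586, 26)]⟩,
  ⟨[(0, 6), (1, 7), (2, 4), (3, 8), (5, 7), (6, 8)], 4, 1, [(796, 166), (4, 131), (36, 44), (888, 5), (807, 108), (751, 83), (670, 159)]⟩,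
  ⟨[(1, 7), (2, 7), (3, 7), (6, 7)], 3, 1, [(476, 150), (380, 22), (527, 111), (563, 42), (303, 50), (529, 31), (345, 115)]⟩,
  ⟨[(0, 6), (2, 5), (3, 7), (4, 8)], 3, 1, [(91, 50), (692, 141), (937, 15), (461, 108), (134, 8), (935, 86), (47, 6)]⟩,
  ⟨[(0, 5), (1, 2), (2, 6), (3, 7), (4, 8), (5, 6), (6, 7), (7, 8)], 4, 1, [(818, 36), (723, 59), (36, 95), (7, 155), (796, 10), (811, 86), (888, 180)]⟩,
  ⟨[(0, 5), (1, 6), (2, 3), (3, 7), (4, 8), (5, 6)], 3, 1, [(228, 11), (87, 77), (943, 4), (880, 189), (67, 2), (609, 86), (865, 26)]⟩,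
  ⟨[(0, 5), (1, 4), (2, 3), (3, 6), (4, 7), (5, 8), (6, 8), (7, 8)], 4, 1, [(722, 119), (44, 134), (268, 45), (158, 161), (726, 158), (661, 83), (642, 142)]⟩,
  ⟨[(0, 4), (1, 6), (2, 5), (3, 7), (4, 8), (6, 7)], 4, 1, [(106, 40), (796, 60), (34, 33), (449, 183), (638, 84), (115, 77), (712, 129)]⟩,
  ⟨[(0, 4), (1, 2), (2, 5), (3, 6), (4, 7), (5, 8), (6, 7), (7, 8)], 4, 1, [(877, 0), (397, 133), (89, 95), (26, 161), (925, 8), (532, 86), (921, 6)]⟩,
  ⟨[(0, 7), (1, 5), (2, 5), (3, 5), (4, 7), (6, 7)], 3, 1, [(448, 111), (363, 37), (415, 90), (481, 174), (710, 97), (578, 179), (235, 48)]⟩,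
  ⟨[(0, 6), (1, 7), (2, 3), (3, 8), (4, 8), (5, 6), (6, 8), (7, 8)], 4, 1, [(715, 133), (8, 60), (58, 44), (848, 49), (895, 129), (847, 104), (819, 104)]⟩,
  ⟨[(0, 4), (1, 5), (2, 7), (3, 8), (6, 7), (7, 8)], 5, 1, [(438, 5), (487, 5), (403, 86), (262, 25), (173, 4), (660, 27), (279, 170)]⟩,
  ⟨[(0, 6), (1, 4), (2, 5), (3, 7), (4, 8), (5, 6)], 3, 1, [(452, 45), (675, 141), (838, 73), (890, 123), (197, 8), (754, 109), (8, 81)]⟩,
  ⟨[(0, 7), (1, 8), (2, 6), (3, 7), (4, 8), (5, 7), (6, 8), (7, 8)], 4, 1, [(118, 103), (354, 88), (135, 50), (557, 123), (316, 94), (868, 137), (342, 115)]⟩,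
  ⟨[(0, 4), (1, 6), (2, 7), (3, 8), (4, 7), (5, 6), (6, 8), (7, 8)], 4, 1, [(674, 67), (353, 132), (422, 148), (758, 161), (398, 119), (330, 7), (311, 90)]⟩,
  ⟨[(0, 8), (1, 7), (2, 6), (3, 7), (4, 8), (5, 6), (6, 8), (7, 8)], 4, 1, [(66, 59), (434, 136), (743, 45), (337, 90), (331, 90), (823, 97), (265, 8)]⟩,
  ⟨[(0, 2), (1, 6), (2, 7), (3, 8), (4, 7), (5, 8), (6, 7), (7, 8)], 3, 1, [(849, 5), (729, 5), (431, 6), (732, 76), (845, 95), (268, 7), (41, 189)]⟩,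
  ⟨[(0, 6), (1, 6), (2, 8), (3, 6), (4, 8), (5, 8), (6, 8), (7, 8)], 4, 1, [(218, 40), (681, 163), (645, 86), (234, 144), (598, 159), (175, 77), (258, 115)]⟩,
  ⟨[(0, 7), (1, 5), (2, 3), (3, 8), (4, 7), (6, 8)], 4, 1, [(659, 184), (105, 134), (438, 46), (162, 161), (869, 83), (772, 26), (254, 37)]⟩,
  ⟨[(1, 4), (2, 6), (3, 7), (4, 8), (5, 6), (6, 8)], 3, 1, [(590, 5), (342, 20), (701, 185), (260, 106), (332, 165), (185, 7), (80, 161)]⟩,
  ⟨[(0, 6), (1, 7), (2, 4), (3, 8), (4, 7), (5, 6), (6, 8), (7, 8)], 4, 1, [(840, 130), (16, 131), (19, 44), (936, 189), (842, 27), (918, 121), (803, 85)]⟩,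
  ⟨[(0, 5), (1, 6), (2, 8), (3, 6), (4, 8), (5, 6), (6, 8), (7, 8)], 4, 1, [(589, 74), (834, 160), (413, 63), (348, 161), (357, 176), (375, 77), (233, 136)]⟩,
  ⟨[(0, 6), (1, 7), (3, 6), (4, 7), (5, 6), (6, 7)], 3, 1, [(389, 114), (597, 26), (421, 90), (527, 165), (717, 56), (652, 115), (349, 63)]⟩,
  ⟨[(0, 6), (1, 2), (2, 4), (3, 7), (4, 8), (5, 6), (6, 7), (7, 8)], 4, 1, [(503, 160), (297, 134), (354, 173), (111, 142), (867, 158), (290, 86), (271, 149)]⟩,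
  ⟨[(0, 1), (1, 6), (2, 5), (3, 7), (4, 8), (5, 6)], 3, 1, [(209, 132), (608, 26), (544, 85), (586, 36), (364, 2), (62, 30), (242, 161)]⟩,
  ⟨[(0, 5), (1, 3), (2, 6), (3, 7), (4, 8), (5, 6)], 3, 1, [(364, 25), (699, 141), (913, 43), (897, 43), (56, 1), (693, 23), (79, 19)]⟩,
  ⟨[(0, 1), (1, 3), (2, 3), (3, 4)], 3, 1, [(307, 12), (666, 181), (390, 1), (481, 12), (447, 2), (568, 139), (474, 64)]⟩,
  ⟨[(0, 7), (1, 5), (2, 6), (3, 8), (4, 7), (5, 6), (6, 7), (7, 8)], 3, 1, [(576, 39), (752, 83), (740, 5), (848, 59), (266, 69), (484, 5), (6, 81)]⟩,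
  ⟨[(0, 8), (1, 7), (2, 5), (3, 8), (4, 8), (5, 7), (6, 8), (7, 8)], 3, 1, [(703, 167), (28, 149), (132, 1), (938, 78), (696, 6), (854, 176), (787, 55)]⟩,
  ⟨[(0, 5), (1, 6), (2, 4), (3, 7), (4, 8), (7, 8)], 5, 1, [(48, 17), (84, 2), (107, 25), (823, 86), (760, 26), (930, 17), (920, 20)]⟩,
  ⟨[(2, 8), (3, 8), (4, 8), (5, 6), (6, 8), (7, 8)], 3, 1, [(299, 12), (612, 150), (548, 35), (427, 145), (165, 2), (323, 25), (258, 21)]⟩,
  ⟨[(0, 7), (1, 5), (2, 6), (3, 8), (4, 6), (5, 8)], 3, 1, [(731, 45), (433, 58), (901, 10), (754, 13), (264, 144), (553, 23), (40, 81)]⟩,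
  ⟨[(0, 6), (1, 7), (2, 5), (3, 8), (4, 7), (5, 6)], 3, 1, [(22, 9), (145, 79), (621, 100), (927, 189), (159, 2), (584, 161), (920, 46)]⟩,
  ⟨[(0, 3), (1, 5), (2, 6), (3, 7), (4, 8), (7, 8)], 3, 1, [(398, 86), (422, 5), (353, 189), (575, 15), (758, 165), (499, 30), (392, 95)]⟩,
  ⟨[(1, 8), (2, 7), (3, 8), (4, 7), (5, 7), (6, 7)], 3, 1, [(265, 6), (399, 25), (125, 85), (823, 90), (331, 8), (434, 7), (764, 29)]⟩,
  ⟨[(0, 8), (1, 6), (2, 6), (4, 6), (5, 8), (7, 8)], 3, 1, [(414, 4), (645, 155), (446, 168), (419, 7), (165, 12), (292, 119), (489, 47)]⟩,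
  ⟨[(0, 5), (2, 5), (3, 5), (4, 5)], 4, 1, [(717, 1), (512, 2), (597, 27), (648, 2), (652, 106), (349, 30), (416, 93)]⟩,
  ⟨[(0, 1), (1, 4), (2, 3), (3, 5), (4, 6), (5, 7), (6, 8), (7, 8)], 5, 1, [(100, 132), (815, 2), (285, 86), (757, 25), (581, 5), (582, 173), (936, 124)]⟩,
  ⟨[(0, 3), (1, 5), (2, 5), (3, 6), (4, 7), (5, 8), (6, 8), (7, 8)], 3, 1, [(65, 113), (91, 33), (935, 189), (540, 81), (911, 36), (183, 95), (692, 23)]⟩,
  ⟨[(0, 2), (1, 5), (2, 4), (3, 6), (4, 7), (5, 8), (6, 7), (7, 8)], 4, 1, [(862, 1), (502, 60), (121, 86), (822, 160), (942, 187), (59, 25), (804, 16)]⟩,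
  ⟨[(0, 7), (1, 6), (2, 8), (3, 6), (4, 8), (5, 6), (6, 8), (7, 8)], 4, 1, [(501, 0), (329, 1), (528, 5), (25, 189), (673, 137), (782, 59), (552, 87)]⟩,
  ⟨[(1, 5), (2, 4), (3, 6), (4, 7), (5, 8), (6, 8)], 3, 1, [(148, 132), (453, 26), (399, 85), (922, 98), (933, 2), (35, 30), (892, 191)]⟩,
  ⟨[(0, 5), (1, 3), (3, 6), (4, 7), (5, 8), (7, 8)], 3, 1, [(160, 11), (91, 25), (805, 102), (616, 154), (924, 54), (171, 86), (45, 29)]⟩,
  ⟨[(0, 5), (1, 7), (2, 4), (3, 8), (4, 5), (6, 8)], 5, 1, [(172, 120), (486, 119), (216, 25), (272, 77), (629, 166), (772, 80), (536, 168)]⟩,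
  ⟨[(0, 8), (1, 6), (2, 7), (3, 6), (4, 7), (5, 8)], 4, 1, [(80, 2), (767, 113), (694, 105), (319, 161), (833, 117), (270, 65), (184, 33)]⟩,
  ⟨[(0, 5), (1, 3), (2, 6), (3, 7), (4, 8), (6, 7)], 4, 1, [(127, 0), (540, 133), (134, 95), (47, 161), (911, 57), (692, 86), (935, 151)]⟩,
  ⟨[(0, 4), (1, 5), (2, 5), (3, 6), (4, 7), (5, 8), (6, 7), (7, 8)], 5, 1, [(109, 16), (893, 121), (22, 25), (691, 86), (759, 26), (923, 2), (464, 5)]⟩,
  ⟨[(0, 7), (1, 6), (2, 8), (3, 7), (4, 7), (5, 7)], 4, 1, [(287, 7), (284, 104), (582, 163), (70, 189), (889, 11), (697, 108), (852, 138)]⟩,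
  ⟨[(0, 7), (1, 8), (2, 6), (3, 6), (4, 7), (5, 6)], 4, 1, [(520, 9), (846, 76), (46, 1), (784, 137), (459, 32), (729, 37), (753, 59)]⟩,
  ⟨[(0, 5), (1, 6), (2, 4), (3, 7), (4, 8), (5, 6), (6, 7), (7, 8)], 4, 1, [(188, 40), (382, 134), (32, 50), (528, 185), (633, 154), (654, 83), (835, 129)]⟩,
  ⟨[(0, 6), (1, 4), (2, 5), (3, 7), (4, 8), (6, 8)], 4, 1, [(186, 8), (654, 174), (863, 173), (2, 191), (782, 154), (724, 5), (668, 175)]⟩,
  ⟨[(0, 6), (1, 7), (2, 7), (3, 6), (4, 6), (5, 7)], 3, 1, [(450, 100), (556, 46), (710, 114), (388, 165), (310, 0), (498, 115), (405, 90)]⟩,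
  ⟨[(0, 5), (1, 8), (2, 8), (5, 8)], 3, 1, [(391, 122), (792, 114), (580, 89), (407, 106), (426, 0), (723, 6), (51, 143)]⟩,
  ⟨[(0, 5), (1, 7), (2, 8), (3, 7), (4, 5), (5, 7), (6, 8), (7, 8)], 3, 1, [(832, 86), (130, 9), (176, 161), (866, 167), (905, 165), (68, 155), (657, 115)]⟩,
  ⟨[(0, 7), (1, 7), (2, 7), (4, 7), (5, 7), (6, 7)], 3, 1, [(494, 114), (430, 6), (250, 161), (420, 6), (378, 12), (647, 161), (565, 33)]⟩,
  ⟨[(1, 6), (2, 7), (3, 8), (4, 6), (5, 7), (6, 8)], 4, 1, [(911, 67), (887, 132), (586, 27), (56, 153), (340, 174), (226, 33), (94, 6)]⟩,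
  ⟨[(0, 4), (1, 7), (2, 4), (4, 7), (5, 7), (6, 7)], 4, 1, [(515, 2), (324, 141), (451, 53), (410, 134), (352, 179), (570, 33), (276, 62)]⟩,
  ⟨[(0, 4), (1, 5), (2, 5), (3, 6), (4, 7), (5, 8), (6, 7), (7, 8)], 3, 1, [(121, 45), (50, 25), (921, 12), (663, 5), (878, 2), (607, 86), (896, 26)]⟩,
  ⟨[(0, 4), (1, 4), (2, 5), (3, 6), (4, 7), (5, 8), (6, 8), (7, 8)], 5, 1, [(6, 25), (899, 160), (462, 26), (847, 125), (46, 0), (891, 70), (727, 15)]⟩,
  ⟨[(0, 8), (1, 3), (2, 7), (3, 8), (4, 7), (5, 8), (6, 7), (7, 8)], 3, 1, [(155, 43), (680, 108), (504, 140), (929, 143), (279, 6), (523, 101), (172, 13)]⟩]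

/-- A part of a certificate. -/
def aCert3 : List Inst := [
  ⟨[(0, 6), (1, 6), (3, 6), (5, 6)], 3, 1, [(410, 176), (276, 34), (515, 95), (565, 118), (352, 0), (388, 51), (637, 33)]⟩,
  ⟨[(0, 5), (1, 7), (2, 8), (3, 5), (4, 5), (5, 8), (6, 8), (7, 8)], 3, 1, [(484, 140), (431, 51), (530, 95), (463, 165), (462, 0), (531, 34), (813, 95)]⟩,
  ⟨[(0, 6), (2, 4), (3, 7), (4, 8), (5, 6), (6, 8)], 4, 1, [(455, 183), (213, 134), (252, 173), (95, 28), (468, 109), (545, 86), (411, 74)]⟩,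
  ⟨[(1, 2), (2, 8), (4, 8), (7, 8)], 3, 1, [(301, 12), (275, 181), (387, 1), (593, 38), (248, 54), (514, 58), (244, 77)]⟩,
  ⟨[(0, 5), (1, 2), (2, 3), (3, 6), (4, 7), (5, 8), (6, 8), (7, 8)], 4, 1, [(934, 4), (102, 134), (267, 45), (43, 161), (866, 158), (289, 86), (886, 142)]⟩,
  ⟨[(0, 8), (1, 2), (2, 7), (6, 7)], 4, 1, [(686, 188), (572, 135), (21, 85), (818, 179), (190, 157), (407, 25), (795, 74)]⟩,
  ⟨[(0, 7), (1, 5), (2, 8), (3, 5), (4, 7), (5, 8), (6, 7), (7, 8)], 3, 1, [(272, 79), (456, 139), (747, 61), (588, 176), (195, 9), (547, 111), (124, 47)]⟩,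
  ⟨[(0, 7), (1, 2), (5, 7), (6, 7)], 3, 1, [(646, 101), (599, 153), (669, 124), (351, 124), (326, 65), (791, 152), (718, 156)]⟩,
  ⟨[(0, 3), (1, 7), (2, 8), (3, 7), (4, 7), (5, 8), (6, 7), (7, 8)], 4, 1, [(412, 6), (456, 138), (469, 5), (436, 90), (441, 176), (174, 7), (163, 18)]⟩,
  ⟨[(0, 2), (1, 6), (2, 7), (3, 8), (4, 7), (5, 6), (6, 8), (7, 8)], 3, 1, [(540, 86), (769, 20), (98, 34), (338, 165), (761, 165), (226, 6), (67, 189)]⟩,
  ⟨[(0, 6), (1, 8), (2, 7), (3, 6), (4, 8), (5, 7), (6, 8), (7, 8)], 3, 1, [(69, 6), (470, 58), (503, 163), (830, 114), (140, 54), (315, 32), (794, 58)]⟩,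
  ⟨[(0, 1), (1, 8), (2, 3), (4, 5), (5, 6), (6, 7)], 3, 1, [(483, 58), (144, 132), (719, 42), (505, 14), (670, 102), (142, 105), (334, 66)]⟩,
  ⟨[(0, 7), (1, 6), (2, 5), (3, 8), (4, 5), (5, 6), (6, 8), (7, 8)], 4, 1, [(391, 8), (312, 136), (569, 169), (686, 86), (721, 10), (482, 87), (186, 8)]⟩,
  ⟨[(0, 4), (1, 5), (2, 3), (3, 6), (4, 7), (5, 8), (6, 8), (7, 8)], 4, 1, [(668, 133), (138, 134), (4, 50), (517, 160), (671, 84), (863, 75), (782, 142)]⟩,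
  ⟨[(0, 1), (1, 3), (2, 3), (3, 4), (4, 5), (5, 6), (6, 7), (7, 8)], 5, 1, [(19, 132), (814, 2), (284, 86), (756, 25), (237, 26), (787, 117), (858, 3)]⟩,
  ⟨[(0, 4), (1, 5), (2, 7), (3, 8), (6, 7), (7, 8)], 3, 1, [(317, 5), (343, 26), (457, 5), (230, 167), (554, 133), (195, 95), (146, 95)]⟩,
  ⟨[(0, 7), (1, 8), (2, 5), (3, 7), (4, 8), (5, 7), (6, 8), (7, 8)], 3, 1, [(78, 51), (28, 74), (820, 159), (689, 34), (902, 53), (790, 103), (907, 5)]⟩,
  ⟨[(0, 6), (1, 7), (2, 7), (3, 8), (4, 7), (5, 6), (6, 8), (7, 8)], 4, 1, [(926, 86), (47, 18), (90, 44), (617, 91), (657, 129), (259, 170), (765, 37)]⟩,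
  ⟨[(0, 2), (1, 5), (2, 6), (3, 7), (4, 8), (5, 6)], 5, 1, [(241, 26), (191, 0), (540, 86), (94, 33), (267, 25), (544, 110), (801, 63)]⟩,
  ⟨[(0, 7), (2, 3), (3, 5), (4, 6), (5, 6), (6, 8)], 4, 1, [(815, 2), (875, 146), (93, 75), (75, 15), (12, 179), (853, 33), (734, 89)]⟩,
  ⟨[(0, 6), (1, 6), (2, 8), (3, 8), (4, 8), (5, 6), (6, 8), (7, 8)], 3, 1, [(488, 140), (682, 164), (475, 91), (348, 179), (202, 0), (491, 163), (651, 50)]⟩,
  ⟨[(1, 8), (2, 5), (3, 8), (4, 5), (5, 8), (6, 8)], 3, 1, [(588, 175), (149, 25), (262, 1), (535, 30), (747, 34), (472, 179), (272, 131)]⟩,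
  ⟨[(0, 7), (1, 5), (2, 6), (3, 8), (4, 7), (5, 6), (6, 8), (7, 8)], 4, 1, [(62, 69), (289, 163), (800, 45), (209, 71), (586, 97), (623, 84), (364, 0)]⟩,
  ⟨[(1, 7), (2, 8), (3, 7), (4, 8), (5, 7), (6, 8)], 4, 1, [(256, 2), (882, 138), (629, 86), (320, 161), (748, 176), (207, 0), (262, 0)]⟩,
  ⟨[(0, 8), (1, 8), (2, 7), (3, 7), (4, 8), (5, 8), (6, 8), (7, 8)], 4, 1, [(502, 12), (704, 90), (109, 1), (84, 83), (817, 90), (942, 87), (862, 16)]⟩,
  ⟨[(0, 6), (1, 2), (2, 7), (3, 8), (4, 6), (5, 7)], 4, 1, [(941, 114), (831, 133), (37, 95), (48, 155), (460, 183), (691, 78), (944, 102)]⟩,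
  ⟨[(0, 3), (1, 6), (2, 7), (3, 8), (4, 7), (5, 8)], 4, 1, [(271, 33), (587, 178), (341, 75), (455, 161), (315, 176), (117, 7), (103, 90)]⟩,
  ⟨[(2, 4), (3, 4)], 4, 1, [(599, 0), (326, 64), (684, 124), (646, 50), (405, 0), (669, 173), (562, 42)]⟩,
  ⟨[(0, 4), (1, 6), (2, 7), (3, 8), (5, 6), (6, 7)], 3, 1, [(399, 86), (743, 5), (265, 90), (434, 167), (759, 165), (66, 155), (393, 95)]⟩,
  ⟨[(0, 6), (1, 8), (2, 7), (3, 7), (4, 6), (5, 8), (6, 8), (7, 8)], 4, 1, [(81, 174), (930, 104), (26, 21), (908, 141), (860, 75), (615, 77), (393, 136)]⟩,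
  ⟨[(0, 1), (1, 6), (2, 5), (3, 7), (4, 8), (6, 7)], 4, 1, [(102, 40), (926, 112), (167, 149), (338, 52), (883, 108), (43, 73), (886, 53)]⟩,
  ⟨[(0, 5), (1, 6), (2, 8), (3, 5), (4, 6), (5, 8), (6, 8), (7, 8)], 3, 1, [(442, 5), (344, 101), (302, 163), (322, 167), (308, 0), (274, 95), (208, 95)]⟩,
  ⟨[(0, 6), (1, 4), (2, 5), (3, 7), (4, 8), (5, 6), (6, 7), (7, 8)], 3, 1, [(581, 11), (787, 125), (917, 73), (907, 17), (131, 69), (614, 86), (10, 81)]⟩,
  ⟨[(0, 4), (1, 5), (2, 7), (3, 8), (5, 8), (6, 8)], 4, 1, [(320, 26), (546, 175), (680, 5), (146, 88), (412, 124), (201, 109), (869, 181)]⟩,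
  ⟨[(1, 7), (2, 8), (3, 7), (4, 8), (5, 7), (6, 8)], 3, 1, [(708, 86), (929, 5), (154, 0), (775, 163), (200, 8), (245, 0), (356, 29)]⟩,
  ⟨[(0, 7), (1, 8), (2, 6), (3, 8), (4, 6), (5, 6), (6, 7), (7, 8)], 4, 1, [(73, 13), (332, 63), (271, 50), (373, 58), (354, 19), (339, 24), (867, 183)]⟩,
  ⟨[(0, 6), (1, 7), (2, 6), (3, 7), (5, 6), (6, 7)], 3, 1, [(425, 111), (646, 171), (550, 114), (324, 167), (428, 0), (327, 163), (549, 95)]⟩,
  ⟨[(0, 4), (1, 7), (2, 8), (3, 7), (5, 7), (6, 7)], 4, 1, [(938, 151), (856, 138), (730, 27), (132, 181), (854, 176), (582, 33), (28, 132)]⟩,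
  ⟨[(0, 7), (1, 8), (2, 6), (3, 7), (4, 7), (5, 8), (6, 7), (7, 8)], 4, 1, [(18, 133), (372, 136), (100, 50), (900, 86), (918, 43), (858, 87), (839, 160)]⟩,
  ⟨[(0, 6), (1, 2), (2, 7), (3, 8), (4, 6), (5, 7), (6, 8), (7, 8)], 3, 1, [(128, 25), (766, 26), (771, 5), (437, 176), (373, 1), (658, 136), (122, 0)]⟩,
  ⟨[(0, 6), (1, 7), (2, 6), (3, 6), (4, 6), (5, 6)], 3, 1, [(415, 58), (429, 33), (389, 163), (362, 167), (600, 124), (420, 29), (352, 19)]⟩,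
  ⟨[(0, 4), (1, 6), (2, 4), (3, 7), (4, 8), (5, 8)], 4, 1, [(503, 166), (92, 14), (110, 168), (315, 49), (830, 86), (664, 25), (470, 43)]⟩,
  ⟨[(0, 3), (1, 5), (2, 6), (3, 7), (4, 8), (5, 7), (6, 7), (7, 8)], 3, 1, [(288, 86), (583, 5), (620, 189), (853, 104), (605, 165), (368, 30), (285, 95)]⟩,
  ⟨[(0, 1), (1, 7), (3, 7), (4, 7)], 3, 1, [(637, 58), (378, 28), (560, 110), (737, 72), (568, 103), (380, 108), (1, 19)]⟩,
  ⟨[(0, 3), (1, 4), (2, 3), (3, 5), (4, 6), (5, 7), (6, 8), (7, 8)], 4, 1, [(820, 1), (17, 134), (100, 130), (689, 160), (907, 30), (842, 6), (902, 28)]⟩,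
  ⟨[(0, 6), (1, 5), (2, 7), (3, 8), (4, 7), (6, 8)], 3, 1, [(426, 20), (353, 87), (571, 26), (678, 133), (391, 1), (601, 26), (51, 66)]⟩,
  ⟨[(0, 6), (1, 4), (2, 5), (3, 7), (4, 8), (5, 8), (6, 7), (7, 8)], 4, 1, [(142, 69), (673, 133), (738, 173), (7, 191), (638, 154), (569, 5), (844, 16)]⟩,
  ⟨[(0, 8), (1, 5), (2, 6), (3, 8), (4, 5), (5, 6), (6, 8), (7, 8)], 3, 1, [(458, 45), (374, 25), (258, 5), (479, 163), (427, 34), (323, 168), (202, 95)]⟩,
  ⟨[(0, 7), (1, 6), (2, 5), (3, 8), (4, 6), (6, 7)], 3, 1, [(464, 45), (116, 80), (24, 40), (862, 154), (139, 92), (885, 86), (460, 29)]⟩,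
  ⟨[(0, 8), (2, 8)], 3, 1, [(11, 5), (74, 26), (852, 163), (874, 167), (798, 2), (814, 95), (277, 5)]⟩,
  ⟨[(0, 6), (1, 5), (2, 4), (3, 7), (4, 8), (5, 8), (6, 7), (7, 8)], 4, 1, [(186, 69), (329, 134), (602, 80), (396, 91), (633, 84), (569, 67), (721, 16)]⟩,
  ⟨[(0, 2), (1, 7), (2, 6), (3, 8), (4, 6), (5, 7), (6, 8), (7, 8)], 3, 1, [(295, 132), (521, 78), (193, 51), (746, 36), (496, 2), (99, 30), (341, 161)]⟩,
  ⟨[(0, 1), (1, 2), (2, 7), (7, 8)], 3, 1, [(32, 114), (147, 42), (863, 92), (792, 89), (711, 0), (721, 33), (552, 33)]⟩,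
  ⟨[(0, 4), (1, 6), (2, 6), (3, 7), (4, 8), (5, 6), (6, 7), (7, 8)], 4, 1, [(238, 46), (261, 17), (179, 113), (316, 49), (587, 68), (213, 77), (243, 4)]⟩,
  ⟨[(0, 5), (1, 7), (2, 4), (3, 8), (4, 5), (5, 7), (6, 7), (7, 8)], 5, 1, [(149, 132), (554, 114), (153, 25), (291, 78), (708, 113), (523, 132), (869, 20)]⟩,
  ⟨[(0, 6), (1, 7), (2, 5), (3, 8), (4, 6), (5, 7), (6, 8), (7, 8)], 3, 1, [(13, 12), (287, 79), (854, 45), (917, 81), (223, 2), (859, 86), (755, 26)]⟩,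
  ⟨[(0, 3), (2, 3)], 3, 1, [(430, 12), (565, 6), (305, 12), (567, 145), (447, 28), (250, 33), (473, 92)]⟩,
  ⟨[(0, 4), (2, 5), (3, 6), (4, 7), (5, 8), (6, 7)], 4, 1, [(855, 70), (288, 133), (18, 95), (71, 93), (839, 144), (938, 42), (858, 6)]⟩,
  ⟨[(0, 4), (1, 6), (2, 3), (3, 7), (4, 8), (5, 8)], 3, 1, [(80, 45), (184, 25), (833, 4), (830, 81), (319, 59), (365, 95), (762, 67)]⟩,
  ⟨[(0, 6), (1, 7), (2, 7), (3, 8), (4, 6), (5, 7)], 4, 1, [(933, 60), (148, 14), (52, 50), (399, 115), (909, 53), (453, 127), (930, 157)]⟩]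

/-- A part of a certificate. -/
def aCert4 : List Inst := [
  ⟨[(0, 3), (1, 4), (2, 6), (3, 7), (4, 8), (5, 7), (6, 8), (7, 8)], 5, 1, [(315, 5), (355, 5), (290, 86), (185, 25), (118, 4), (829, 110), (507, 171)]⟩,
  ⟨[(0, 7), (2, 8), (3, 7), (4, 8), (5, 7), (6, 8)], 4, 1, [(230, 12), (929, 26), (155, 0), (172, 0), (680, 139), (395, 78), (592, 61)]⟩,
  ⟨[(0, 8), (1, 7), (2, 5), (3, 8), (4, 7), (6, 8)], 3, 1, [(343, 45), (146, 25), (444, 45), (359, 163), (154, 8), (457, 179), (384, 95)]⟩,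
  ⟨[(1, 7), (2, 7), (3, 7), (4, 7), (5, 7), (6, 7)], 2, 1, [(124, 7), (333, 25), (535, 95), (162, 2), (487, 63), (210, 33), (272, 50), (247, 33), (826, 108), (588, 109)]⟩,
  ⟨[(0, 7), (1, 5), (2, 8), (3, 7), (4, 5), (5, 7), (6, 7), (7, 8)], 2, 1, [(10, 27), (237, 25), (917, 81), (223, 2), (821, 131), (755, 26), (679, 105), (605, 179), (916, 55), (614, 0)]⟩,
  ⟨[(0, 3), (2, 8), (3, 4), (4, 5), (5, 6), (6, 7)], 2, 1, [(147, 37), (572, 17), (505, 189), (334, 154), (49, 61), (144, 83), (843, 40), (685, 3), (634, 68), (720, 132)]⟩,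
  ⟨[(0, 5), (1, 4), (3, 6), (4, 7), (5, 8), (6, 8)], 2, 1, [(9, 18), (641, 2), (640, 191), (662, 157), (264, 61), (433, 27), (901, 118), (783, 189), (157, 175), (872, 103)]⟩,
  ⟨[(0, 4), (1, 6), (3, 7), (4, 8), (5, 6), (6, 8)], 2, 1, [(22, 108), (20, 28), (621, 86), (827, 66), (879, 132), (187, 29), (932, 21), (189, 32), (864, 70), (584, 127)]⟩,
  ⟨[(0, 4), (2, 6), (3, 7), (4, 8), (5, 6), (6, 8)], 2, 1, [(52, 79), (33, 25), (506, 157), (878, 69), (760, 175), (114, 29), (909, 126), (939, 18), (768, 110), (148, 95)]⟩,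
  ⟨[(1, 6), (2, 6)], 2, 1, [(232, 79), (246, 25), (475, 19), (273, 123), (558, 49), (497, 109), (555, 23), (645, 125), (559, 25), (716, 15)]⟩,
  ⟨[(0, 8), (1, 8), (2, 7), (3, 8), (5, 7), (6, 8)], 2, 1, [(80, 117), (140, 14), (342, 150), (868, 59), (830, 113), (794, 40), (394, 169), (762, 116), (135, 0), (185, 55)]⟩,
  ⟨[(0, 4), (1, 4), (2, 5), (3, 6), (4, 7), (5, 7), (6, 7), (7, 8)], 2, 1, [(310, 27), (309, 86), (511, 26), (672, 36), (493, 125), (653, 26), (327, 107), (476, 57), (777, 173), (362, 26)]⟩,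
  ⟨[(1, 3), (2, 7), (3, 7), (4, 5), (5, 6), (7, 8)], 2, 1, [(416, 36), (222, 69), (294, 77), (447, 116), (324, 77), (565, 77), (424, 124), (632, 40), (473, 149), (421, 116)]⟩,
  ⟨[(0, 7), (2, 6), (3, 7), (4, 7)], 2, 1, [(225, 36), (47, 69), (206, 77), (259, 81), (183, 178), (461, 135), (937, 162), (533, 116), (465, 132), (765, 6)]⟩,
  ⟨[(0, 7), (1, 8), (2, 8), (3, 4), (6, 8), (7, 8)], 2, 1, [(124, 80), (929, 157), (588, 113), (256, 73), (592, 113), (395, 38), (747, 162), (629, 106), (247, 85), (262, 105)]⟩,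
  ⟨[(0, 1), (2, 3), (3, 4), (4, 5), (5, 6), (6, 7)], 2, 1, [(71, 86), (916, 44), (874, 167), (798, 2), (900, 134), (277, 5), (755, 23), (858, 170), (839, 53), (821, 33)]⟩,
  ⟨[(0, 7), (2, 6), (3, 6), (4, 7), (5, 7), (6, 7)], 2, 1, [(38, 46), (170, 28), (607, 79), (50, 99), (24, 75), (663, 95), (107, 181), (198, 189), (939, 111), (621, 6)]⟩,
  ⟨[(0, 5), (1, 5), (2, 4), (3, 6), (4, 7), (5, 8), (6, 7), (7, 8)], 2, 1, [(40, 18), (838, 126), (713, 188), (890, 42), (158, 127), (661, 26), (44, 105), (754, 172), (901, 156), (741, 5)]⟩,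
  ⟨[(0, 7), (1, 8), (2, 7), (3, 8), (6, 7), (7, 8)], 2, 1, [(20, 23), (159, 14), (143, 40), (145, 40), (759, 46), (337, 19), (764, 86), (932, 17), (42, 2), (584, 183)]⟩,
  ⟨[(0, 5), (1, 6), (2, 8), (3, 5), (4, 8), (5, 6), (6, 8), (7, 8)], 2, 1, [(109, 30), (460, 10), (922, 189), (139, 8), (942, 131), (31, 81), (933, 164), (862, 191), (59, 169), (35, 23)]⟩,
  ⟨[(0, 6), (1, 8), (2, 6), (3, 8), (4, 8), (5, 8)], 2, 1, [(156, 4), (361, 53), (358, 100), (645, 100), (322, 113), (175, 19), (524, 5), (414, 19), (234, 59), (419, 183)]⟩,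
  ⟨[(0, 4), (1, 5), (2, 7), (3, 8), (4, 7), (5, 7), (6, 7), (7, 8)], 2, 1, [(26, 95), (909, 141), (921, 189), (33, 8), (930, 28), (148, 72), (656, 45), (861, 191), (908, 169), (89, 23)]⟩,
  ⟨[(0, 6), (1, 7), (3, 7), (4, 7), (5, 7), (6, 7)], 2, 1, [(51, 87), (781, 82), (725, 161), (501, 28), (723, 63), (53, 99), (751, 45), (580, 163), (500, 147), (108, 148)]⟩,
  ⟨[(0, 4), (1, 3), (2, 3), (3, 5), (4, 6), (5, 7), (6, 8), (7, 8)], 2, 1, [(4, 18), (482, 2), (670, 191), (505, 157), (186, 61), (312, 27), (811, 118), (808, 189), (719, 64), (751, 103)]⟩,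
  ⟨[(0, 2), (1, 2), (2, 3), (3, 4), (4, 5), (5, 7), (6, 8), (7, 8)], 2, 1, [(105, 27), (708, 0), (747, 145), (298, 5), (200, 131), (262, 26), (929, 168), (628, 33), (535, 190), (253, 86)]⟩,
  ⟨[(0, 6), (1, 6), (2, 8), (3, 8), (4, 8), (5, 8), (6, 8), (7, 8)], 2, 1, [(9, 11), (205, 6), (895, 176), (780, 11), (845, 127), (63, 131), (810, 122), (640, 71), (871, 27), (157, 5)]⟩,
  ⟨[(2, 8), (3, 8), (4, 8), (5, 8), (6, 8), (7, 8)], 2, 1, [(149, 13), (173, 64), (870, 175), (546, 95), (472, 58), (181, 33), (522, 170), (594, 56), (272, 0), (385, 41)]⟩,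
  ⟨[(0, 2), (1, 7), (2, 8), (6, 7)], 2, 1, [(180, 15), (591, 57), (245, 85), (775, 32), (164, 132), (256, 80), (644, 23), (660, 172), (708, 138), (695, 10)]⟩,
  ⟨[(0, 7), (1, 5), (2, 6), (3, 8), (4, 7), (7, 8)], 2, 1, [(26, 18), (823, 132), (532, 76), (543, 133), (393, 15), (764, 86), (125, 7), (908, 13), (698, 86), (921, 74)]⟩,
  ⟨[(0, 8), (1, 6), (3, 8), (4, 8), (6, 8), (7, 8)], 2, 1, [(40, 75), (462, 25), (538, 95), (432, 14), (44, 131), (722, 29), (158, 1), (485, 86), (753, 143), (573, 7)]⟩,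
  ⟨[(0, 1), (1, 4), (2, 4), (3, 5), (4, 6), (5, 7), (6, 8), (7, 8)], 2, 1, [(10, 13), (620, 28), (858, 79), (288, 81), (581, 178), (29, 95), (690, 118), (614, 156), (855, 141), (605, 26)]⟩,
  ⟨[(0, 7), (1, 5), (2, 3), (3, 8), (4, 7), (6, 8)], 2, 1, [(85, 18), (608, 59), (225, 29), (133, 134), (209, 15), (544, 83), (212, 40), (705, 140), (400, 132), (744, 64)]⟩,
  ⟨[(0, 1), (1, 2), (2, 6), (3, 6)], 2, 1, [(325, 109), (221, 14), (246, 43), (387, 49), (360, 126), (300, 77), (561, 3), (347, 40), (445, 132), (218, 116)]⟩,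
  ⟨[(0, 8), (1, 8), (4, 8), (7, 8)], 2, 1, [(90, 5), (466, 7), (865, 168), (39, 5), (191, 86), (705, 95), (928, 168), (700, 119), (828, 119), (887, 12)]⟩,
  ⟨[(0, 3), (1, 7), (2, 5), (3, 8), (4, 7), (6, 8)], 2, 1, [(60, 10), (82, 35), (935, 116), (692, 166), (883, 117), (65, 19), (897, 66), (267, 22), (134, 134), (705, 46)]⟩,
  ⟨[(0, 2), (1, 2), (2, 3), (3, 5), (4, 6), (5, 7), (6, 8), (7, 8)], 2, 1, [(47, 27), (880, 25), (828, 188), (865, 2), (134, 15), (267, 26), (926, 105), (943, 183), (692, 190), (90, 33)]⟩,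
  ⟨[(0, 8), (2, 6), (3, 6), (4, 8), (5, 6), (7, 8)], 2, 1, [(251, 48), (226, 17), (269, 186), (56, 110), (67, 148), (825, 147), (769, 32), (887, 91), (801, 175), (881, 153)]⟩,
  ⟨[(0, 5), (1, 7), (2, 8), (3, 5), (4, 5), (5, 7), (6, 8), (7, 8)], 2, 1, [(137, 95), (626, 20), (385, 111), (409, 133), (254, 11), (173, 19), (522, 5), (772, 14), (869, 121), (802, 25)]⟩,
  ⟨[(0, 2), (1, 2), (2, 3), (3, 4), (4, 6), (5, 7), (6, 7), (7, 8)], 2, 1, [(1, 4), (565, 14), (516, 40), (250, 54), (637, 21), (490, 24), (276, 50), (378, 58), (677, 0), (567, 86)]⟩,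
  ⟨[(0, 7), (1, 8), (2, 8), (6, 8)], 2, 1, [(21, 23), (391, 122), (144, 40), (312, 104), (426, 46), (571, 29), (407, 23), (633, 106), (113, 54), (686, 79)]⟩,
  ⟨[(0, 7), (1, 4), (2, 6), (3, 8), (4, 7), (5, 8), (6, 7), (7, 8)], 2, 1, [(103, 127), (151, 58), (534, 15), (771, 119), (318, 36), (829, 23), (123, 27), (557, 112), (383, 87), (467, 89)]⟩,
  ⟨[(0, 1), (2, 7), (3, 7), (6, 7)], 2, 1, [(178, 128), (164, 54), (592, 24), (395, 63), (660, 77), (253, 25), (773, 46), (591, 21), (155, 64), (247, 49)]⟩,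
  ⟨[(0, 7), (1, 6), (2, 7), (3, 6), (4, 7), (5, 6)], 2, 1, [(176, 30), (134, 42), (150, 191), (167, 8), (127, 181), (461, 29), (935, 61), (866, 161), (130, 156), (60, 5)]⟩,
  ⟨[(0, 6), (1, 7), (2, 6), (3, 7), (4, 7), (5, 6)], 2, 1, [(161, 30), (616, 10), (586, 161), (199, 8), (913, 134), (56, 81), (364, 164), (68, 191), (94, 169), (62, 23)]⟩,
  ⟨[(0, 8), (1, 6), (2, 8), (3, 6), (4, 8), (7, 8)], 2, 1, [(161, 79), (171, 25), (289, 95), (167, 54), (68, 131), (934, 82), (62, 50), (130, 64), (866, 16), (623, 18)]⟩,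
  ⟨[(0, 5), (1, 5), (2, 6), (3, 7), (4, 8), (6, 7)], 2, 1, [(74, 7), (70, 33), (803, 5), (889, 54), (814, 60), (840, 181), (75, 170), (852, 126), (936, 184), (224, 6)]⟩,
  ⟨[(0, 6), (1, 8), (2, 6), (3, 8), (5, 6), (6, 8)], 2, 1, [(196, 95), (716, 118), (525, 111), (555, 133), (358, 11), (246, 19), (681, 5), (293, 88), (304, 174), (651, 189)]⟩,
  ⟨[(0, 7), (1, 5), (3, 7), (4, 7), (5, 7), (6, 7)], 2, 1, [(154, 36), (247, 77), (119, 94), (194, 143), (256, 135), (440, 47), (343, 100), (629, 177), (882, 47), (444, 7)]⟩,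
  ⟨[(1, 7), (2, 3), (3, 7), (4, 5), (5, 6), (7, 8)], 2, 1, [(450, 80), (352, 77), (250, 63), (420, 69), (388, 91), (565, 150), (490, 5), (310, 58), (305, 139), (600, 15)]⟩,
  ⟨[(0, 8), (1, 7), (2, 7), (3, 7), (4, 7), (5, 7), (6, 8), (7, 8)], 2, 1, [(201, 4), (626, 175), (471, 167), (153, 121), (707, 101), (611, 53), (409, 105), (443, 170), (180, 53), (173, 137)]⟩,
  ⟨[(0, 7), (1, 2), (2, 6), (3, 7), (4, 7), (5, 7)], 2, 1, [(110, 36), (95, 144), (315, 25), (455, 49), (238, 80), (467, 135), (664, 118), (213, 156), (587, 178), (624, 6)]⟩,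
  ⟨[(0, 7), (1, 8), (2, 7), (3, 7), (4, 8), (5, 8), (6, 7), (7, 8)], 2, 1, [(122, 4), (193, 65), (184, 1), (123, 3), (496, 40), (341, 19), (767, 86), (829, 111), (534, 119), (694, 108)]⟩,
  ⟨[(0, 8), (1, 6), (2, 6), (3, 8), (6, 8), (7, 8)], 2, 1, [(29, 75), (613, 25), (372, 32), (224, 14), (688, 94), (789, 146), (71, 1), (284, 58), (619, 59), (785, 33)]⟩,
  ⟨[(0, 1), (1, 8), (5, 7), (6, 7)], 2, 1, [(320, 79), (343, 25), (546, 95), (333, 54), (154, 131), (554, 33), (146, 50), (256, 33), (748, 184), (216, 23)]⟩,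
  ⟨[(0, 1), (2, 4), (4, 5), (5, 6), (6, 7), (7, 8)], 2, 1, [(474, 13), (570, 99), (632, 33), (324, 28), (684, 6), (646, 1), (562, 12), (352, 33), (327, 184), (222, 86)]⟩,
  ⟨[(0, 5), (1, 6), (2, 7), (3, 8), (4, 7), (6, 7)], 2, 1, [(264, 30), (891, 61), (733, 15), (452, 165), (731, 76), (530, 95), (603, 109), (754, 189), (573, 121), (197, 186)]⟩,
  ⟨[(0, 3), (1, 5), (2, 3), (3, 6), (5, 7), (6, 8)], 2, 1, [(205, 111), (553, 62), (845, 48), (15, 115), (433, 148), (901, 64), (728, 181), (203, 76), (640, 12), (752, 72)]⟩,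
  ⟨[(0, 1), (1, 8), (2, 4), (4, 5), (5, 6), (6, 7)], 2, 1, [(75, 27), (859, 25), (814, 90), (606, 17), (239, 180), (277, 11), (815, 100), (619, 33), (74, 71), (12, 33)]⟩,
  ⟨[(0, 6), (1, 5), (2, 3), (3, 7), (4, 8), (5, 7)], 2, 1, [(63, 18), (433, 16), (813, 23), (573, 157), (205, 52), (463, 75), (780, 0), (728, 20), (431, 175), (847, 69)]⟩,
  ⟨[(0, 8), (1, 5), (2, 7), (3, 8), (4, 5), (5, 7), (6, 8), (7, 8)], 2, 1, [(105, 18), (291, 44), (535, 76), (547, 133), (395, 15), (588, 168), (162, 23), (279, 170), (747, 5), (772, 89)]⟩]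

/-- A part of a certificate. -/
def aCert5 : List Inst := [
  ⟨[(0, 8), (1, 6), (2, 6), (3, 6), (4, 8), (7, 8)], 2, 1, [(228, 79), (242, 25), (400, 95), (209, 0), (67, 157), (761, 82), (98, 50), (87, 2), (928, 16), (544, 13)]⟩,
  ⟨[(0, 6), (1, 3), (2, 4), (3, 7), (4, 8), (5, 8)], 2, 1, [(58, 127), (86, 58), (166, 4), (727, 157), (14, 125), (662, 149), (714, 50), (894, 33), (780, 64), (577, 74)]⟩,
  ⟨[(0, 8), (2, 7), (3, 7), (4, 7), (5, 7), (6, 8)], 2, 1, [(177, 109), (73, 55), (829, 165), (771, 19), (867, 101), (373, 107), (314, 111), (371, 16), (128, 73), (151, 52)]⟩,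
  ⟨[(0, 7), (1, 8), (2, 6), (3, 8), (4, 8), (5, 6), (6, 7), (7, 8)], 2, 1, [(79, 117), (45, 122), (828, 167), (865, 165), (616, 39), (622, 176), (924, 151), (801, 162), (82, 21), (90, 135)]⟩,
  ⟨[(0, 5), (1, 3), (2, 5), (3, 6), (4, 7), (5, 8), (6, 8), (7, 8)], 2, 1, [(83, 18), (872, 66), (573, 189), (542, 27), (88, 136), (541, 83), (901, 129), (851, 191), (531, 22), (641, 132)]⟩,
  ⟨[(0, 4), (1, 4), (2, 6), (3, 7), (4, 8), (5, 8)], 2, 1, [(59, 7), (52, 33), (804, 157), (927, 8), (824, 132), (198, 95), (822, 126), (922, 184), (932, 33), (109, 6)]⟩,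
  ⟨[(0, 5), (1, 7), (2, 8), (3, 8), (4, 7), (5, 7), (6, 8), (7, 8)], 2, 1, [(141, 78), (708, 27), (279, 101), (929, 20), (215, 105), (253, 95), (707, 122), (748, 46), (504, 10), (356, 10)]⟩,
  ⟨[(0, 6), (1, 8), (2, 3), (3, 6), (4, 8), (5, 6), (6, 8), (7, 8)], 2, 1, [(77, 13), (151, 28), (650, 64), (177, 6), (557, 92), (371, 95), (408, 65), (318, 163), (884, 80), (745, 127)]⟩,
  ⟨[(0, 6), (1, 7), (2, 4), (3, 8), (4, 6), (5, 6), (6, 8), (7, 8)], 2, 1, [(136, 13), (238, 120), (342, 88), (557, 115), (243, 88), (316, 161), (618, 128), (408, 143), (77, 138), (192, 56)]⟩,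
  ⟨[(0, 8), (1, 5), (2, 6), (3, 8), (4, 5), (7, 8)], 2, 1, [(121, 15), (170, 15), (331, 4), (434, 94), (50, 125), (159, 78), (804, 105), (663, 133), (823, 132), (862, 74)]⟩,
  ⟨[(0, 1), (1, 3), (2, 7), (3, 4), (4, 7), (7, 8)], 2, 1, [(389, 13), (418, 17), (683, 79), (3, 115), (362, 79), (672, 64), (527, 21), (429, 145), (511, 12), (652, 72)]⟩,
  ⟨[(0, 8), (1, 8), (2, 8), (3, 8), (4, 8), (6, 8)], 2, 1, [(202, 79), (275, 0), (308, 0), (274, 40), (423, 21), (442, 29), (323, 168), (682, 124), (491, 16), (374, 186)]⟩,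
  ⟨[(0, 7), (1, 4), (2, 6), (3, 8), (5, 6), (6, 7)], 2, 1, [(92, 15), (192, 126), (534, 76), (467, 119), (394, 15), (701, 74), (101, 5), (664, 171), (315, 5), (771, 89)]⟩,
  ⟨[(0, 4), (1, 6), (2, 7), (3, 8), (4, 6), (5, 7), (6, 8), (7, 8)], 2, 1, [(147, 79), (670, 87), (844, 5), (142, 1), (807, 87), (7, 66), (751, 109), (634, 158), (778, 54), (505, 25)]⟩,
  ⟨[(0, 5), (1, 6), (2, 8), (3, 6), (4, 6), (5, 6), (6, 8), (7, 8)], 2, 1, [(4, 149), (649, 146), (671, 176), (190, 69), (888, 109), (21, 81), (654, 45), (796, 179), (818, 84), (138, 23)]⟩,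
  ⟨[(0, 1), (1, 2), (2, 3), (3, 4), (4, 5), (5, 6), (6, 7), (7, 8)], 2, 1, [(3, 7), (405, 0), (480, 0), (493, 0), (599, 0), (646, 0), (718, 0), (777, 0), (653, 147), (381, 23)]⟩,
  ⟨[(1, 8), (2, 6), (3, 6), (4, 6), (5, 6), (7, 8)], 2, 1, [(15, 133), (641, 59), (713, 96), (86, 157), (553, 61), (40, 27), (901, 5), (816, 69), (576, 181), (872, 64)]⟩,
  ⟨[(1, 2), (2, 4), (3, 5), (4, 6), (5, 7), (6, 8)], 2, 1, [(148, 11), (831, 6), (922, 174), (824, 1), (799, 181), (31, 95), (933, 23), (939, 90), (896, 147), (52, 25)]⟩,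
  ⟨[(0, 7), (1, 7), (2, 7), (3, 7), (6, 7), (7, 8)], 2, 1, [(222, 4), (494, 53), (490, 100), (791, 100), (447, 113), (250, 19), (565, 168), (562, 19), (328, 59), (570, 183)]⟩,
  ⟨[(0, 7), (3, 5), (5, 6), (7, 8)], 2, 1, [(283, 80), (428, 90), (556, 166), (498, 104), (550, 11), (493, 19), (549, 88), (509, 47), (710, 116), (737, 167)]⟩,
  ⟨[(0, 8), (1, 8), (2, 7), (3, 8), (4, 8), (5, 7), (6, 7), (7, 8)], 2, 1, [(161, 48), (267, 17), (617, 150), (828, 95), (866, 127), (926, 86), (289, 169), (905, 91), (657, 140), (608, 129)]⟩,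
  ⟨[(0, 2), (1, 8)], 2, 1, [(255, 2), (612, 25), (301, 145), (323, 2), (220, 56), (244, 92), (508, 50), (479, 33), (514, 190), (427, 86)]⟩,
  ⟨[(0, 6), (3, 6), (4, 6), (5, 6)], 2, 1, [(325, 0), (566, 34), (273, 0), (377, 1), (367, 0), (182, 117), (598, 163), (280, 117), (776, 71), (358, 33)]⟩,
  ⟨[(1, 7), (2, 7), (3, 7), (4, 5), (5, 6), (6, 7)], 2, 1, [(82, 75), (461, 25), (616, 19), (171, 54), (692, 94), (91, 74), (65, 50), (204, 58), (622, 59), (693, 43)]⟩,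
  ⟨[(0, 5), (1, 2), (2, 6), (3, 7), (4, 8), (7, 8)], 2, 1, [(39, 7), (68, 25), (700, 81), (924, 8), (905, 131), (657, 26), (94, 105), (622, 128), (828, 122), (199, 33)]⟩,
  ⟨[(1, 7), (5, 6)], 2, 1, [(41, 75), (463, 25), (849, 29), (452, 54), (166, 131), (263, 74), (205, 50), (530, 18), (891, 59), (431, 23)]⟩,
  ⟨[(0, 7), (1, 8), (2, 7), (3, 7), (6, 7), (7, 8)], 2, 1, [(6, 23), (431, 14), (203, 40), (205, 40), (733, 46), (463, 19), (484, 5), (810, 168), (157, 2), (752, 25)]⟩,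
  ⟨[(0, 7), (1, 7), (2, 7), (3, 7), (4, 7), (6, 7)], 2, 1, [(149, 79), (216, 28), (262, 2), (256, 21), (385, 21), (320, 29), (594, 163), (591, 29), (775, 16), (588, 51)]⟩,
  ⟨[(0, 2), (1, 7), (2, 3), (3, 4), (4, 5), (5, 6), (6, 7), (7, 8)], 2, 1, [(450, 79), (477, 25), (777, 19), (511, 123), (579, 178), (667, 131), (556, 75), (600, 101), (516, 156), (310, 5)]⟩,
  ⟨[(0, 7), (1, 4), (2, 5), (3, 8), (4, 5), (5, 8), (6, 7), (7, 8)], 2, 1, [(46, 15), (264, 126), (432, 24), (733, 119), (83, 125), (573, 149), (538, 11), (836, 140), (531, 132), (837, 169)]⟩,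
  ⟨[(3, 5), (4, 5), (5, 6), (6, 7)], 2, 1, [(60, 5), (616, 7), (880, 165), (45, 5), (897, 2), (801, 50), (883, 89), (805, 56), (928, 1), (934, 22)]⟩,
  ⟨[(0, 2), (1, 4), (2, 3), (3, 5), (4, 6), (5, 7), (6, 8), (7, 8)], 2, 1, [(14, 13), (553, 6), (851, 6), (812, 12), (847, 153), (83, 95), (641, 170), (848, 139), (715, 119), (816, 23)]⟩,
  ⟨[(0, 8), (1, 2), (2, 3), (3, 4), (4, 5), (5, 6), (6, 8), (7, 8)], 1, 1, [(127, 51), (259, 93), (797, 129), (914, 159), (394, 180), (718, 150), (656, 153), (653, 176), (177, 55), (164, 144), (181, 80), (470, 58), (773, 19), (381, 70), (828, 112), (440, 106), (29, 185), (692, 168), (933, 148), (646, 48), (842, 101), (539, 71), (777, 42), (130, 26), (487, 48), (921, 62), (858, 21), (702, 18), (823, 89), (185, 86)]⟩,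
  ⟨[(0, 7), (1, 7), (2, 3), (4, 5), (5, 6), (7, 8)], 0, 1, [(417, 5), (942, 173), (139, 91), (782, 22), (678, 154), (797, 20), (453, 141), (360, 84), (682, 86), (382, 134), (830, 166), (97, 91), (369, 115), (472, 119), (660, 115), (174, 51), (395, 108), (763, 163), (936, 84), (271, 153), (807, 106), (917, 162), (383, 12), (507, 156), (265, 118), (260, 139), (878, 41), (559, 0), (323, 1), (144, 153)]⟩,
  ⟨[(0, 8), (1, 2), (5, 6), (6, 7)], 1, 1, [(896, 26), (822, 83), (856, 86), (199, 91), (454, 86), (447, 26), (813, 83), (527, 86), (887, 138), (773, 68), (440, 7), (228, 136), (215, 180), (562, 6), (38, 61), (247, 56), (736, 120), (607, 56), (871, 136), (529, 107), (938, 137), (872, 175), (717, 0), (59, 105), (181, 121), (432, 173), (370, 155), (18, 119), (846, 30), (68, 181)]⟩,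
  ⟨[(0, 8), (1, 6), (2, 7), (3, 8), (4, 7), (5, 8), (6, 7), (7, 8)], 0, 1, [(380, 73), (281, 73), (358, 0), (180, 73), (547, 7), (811, 118), (414, 100), (328, 7), (352, 7), (554, 79), (11, 51), (113, 27), (572, 7), (20, 65), (89, 65), (893, 57), (35, 0), (621, 97), (34, 122), (237, 172), (200, 165), (330, 165), (900, 128), (803, 111), (651, 167), (70, 33), (274, 119), (578, 11), (717, 4), (321, 166)]⟩,
  ⟨[(0, 1), (1, 6), (2, 8), (3, 8), (6, 8), (7, 8)], 1, 1, [(757, 41), (19, 122), (469, 45), (176, 173), (56, 143), (63, 161), (326, 11), (838, 61), (935, 11), (833, 114), (557, 58), (911, 80), (122, 122), (431, 40), (786, 176), (354, 76), (882, 130), (240, 150), (556, 42), (809, 33), (112, 40), (305, 77), (452, 63), (916, 40), (771, 89), (684, 155), (119, 162), (748, 50), (420, 188), (913, 48)]⟩,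
  ⟨[(0, 3), (1, 4), (2, 5), (3, 4), (4, 6), (5, 7)], 0, 1, [(52, 73), (314, 75), (365, 7), (126, 73), (94, 7), (88, 7), (136, 7), (114, 7), (823, 148), (608, 74), (180, 104), (158, 7), (741, 27), (233, 123), (255, 65), (358, 7), (386, 65), (347, 62), (41, 53), (409, 40), (699, 13), (542, 13), (554, 3), (522, 64), (128, 46), (659, 62), (401, 65), (621, 31), (37, 133), (85, 111)]⟩,
  ⟨[(1, 5), (2, 5), (5, 6), (7, 8)], 1, 1, [(313, 166), (22, 28), (286, 53), (242, 111), (39, 17), (186, 12), (86, 28), (601, 47), (161, 32), (146, 32), (141, 107), (905, 19), (201, 70), (2, 176), (760, 130), (359, 152), (122, 70), (38, 149), (5, 179), (396, 184), (177, 21), (452, 70), (678, 71), (145, 166), (215, 119), (577, 169), (437, 116), (694, 40), (530, 185), (226, 119)]⟩,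
  ⟨[(0, 7), (1, 8), (2, 7), (3, 8), (4, 8), (6, 7)], 0, 1, [(357, 3), (138, 20), (888, 0), (389, 22), (447, 31), (895, 50), (795, 31), (566, 154), (630, 57), (636, 175), (33, 1), (891, 33), (732, 184), (252, 16), (371, 175), (103, 7), (829, 86), (503, 175), (61, 54), (397, 100), (418, 167), (433, 42), (822, 75), (460, 174), (792, 43), (930, 15), (336, 120), (208, 100), (475, 174), (637, 90)]⟩,
  ⟨[(2, 3), (4, 6), (5, 7), (6, 8)], 1, 1, [(237, 29), (18, 181), (530, 19), (180, 52), (254, 116), (49, 189), (38, 99), (501, 29), (644, 188), (489, 179), (423, 137), (162, 47), (233, 124), (572, 164), (70, 88), (232, 124), (809, 169), (583, 124), (704, 164), (120, 124), (542, 179), (84, 47), (25, 36), (71, 23), (257, 109), (52, 15), (58, 25), (61, 124), (506, 91), (443, 94)]⟩,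
  ⟨[(0, 2), (1, 4), (2, 4), (3, 5), (4, 5), (5, 7), (6, 8), (7, 8)], 1, 1, [(503, 136), (762, 146), (191, 156), (615, 161), (824, 140), (918, 76), (901, 87), (131, 172), (893, 101), (508, 98), (548, 188), (42, 173), (709, 174), (840, 169), (355, 56), (776, 170), (911, 101), (664, 128), (731, 98), (855, 50), (924, 138), (577, 12), (814, 8), (214, 170), (492, 55), (541, 110), (466, 82), (91, 97), (485, 93), (198, 118)]⟩,
  ⟨[(0, 5), (2, 8), (3, 8), (4, 8), (5, 8), (6, 8)], 1, 1, [(277, 172), (16, 89), (166, 118), (55, 35), (109, 133), (140, 165), (363, 96), (496, 180), (54, 122), (43, 143), (130, 150), (933, 12), (225, 94), (104, 123), (889, 146), (167, 94), (64, 143), (287, 32), (448, 179), (92, 166), (205, 94), (345, 153), (99, 70), (798, 40), (454, 54), (579, 63), (520, 48), (845, 124), (526, 21), (822, 54)]⟩,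
  ⟨[(0, 1), (1, 8), (4, 5), (5, 6), (6, 7), (7, 8)], 0, 1, [(714, 73), (786, 73), (679, 23), (600, 76), (498, 87), (898, 183), (785, 100), (452, 148), (727, 39), (515, 5), (152, 17), (331, 148), (932, 7), (588, 166), (523, 183), (628, 40), (173, 64), (870, 166), (892, 53), (468, 139), (550, 119), (663, 56), (833, 147), (771, 139), (820, 29), (227, 18), (876, 10), (848, 185), (837, 95), (667, 188)]⟩,
  ⟨[(0, 7), (3, 5), (5, 6), (7, 8)], 1, 1, [(229, 113), (318, 159), (433, 56), (60, 8), (90, 18), (248, 165), (240, 145), (175, 174), (176, 104), (173, 103), (178, 22), (657, 166), (320, 19), (232, 24), (151, 186), (522, 94), (9, 118), (401, 94), (614, 19), (218, 45), (662, 19), (679, 122), (491, 142), (868, 144), (629, 143), (75, 181), (264, 5), (872, 6), (736, 6), (880, 12)]⟩,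
  ⟨[(0, 8), (2, 6), (3, 6), (6, 7)], 1, 1, [(100, 30), (702, 158), (64, 95), (400, 65), (765, 66), (477, 158), (444, 154), (0, 154), (897, 64), (496, 59), (103, 160), (79, 47), (521, 148), (526, 62), (16, 151), (383, 148), (813, 92), (797, 75), (346, 184), (429, 108), (846, 183), (611, 28), (568, 74), (29, 168), (117, 80), (154, 180), (541, 42), (14, 187), (245, 96), (225, 162)]⟩,
  ⟨[(0, 5), (1, 2), (2, 4), (3, 6), (4, 7), (5, 8), (6, 8), (7, 8)], 1, 1, [(146, 72), (253, 122), (688, 0), (196, 34), (281, 69), (314, 6), (67, 11), (315, 7), (479, 123), (777, 56), (600, 150), (299, 34), (556, 70), (193, 120), (773, 55), (511, 186), (840, 0), (763, 143), (98, 125), (503, 114), (284, 67), (699, 42), (341, 189), (230, 132), (579, 67), (880, 1), (736, 41), (889, 8), (883, 20), (304, 155)]⟩,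
  ⟨[(0, 5), (1, 3), (2, 5), (3, 6), (4, 7), (5, 8), (6, 8), (7, 8)], 1, 1, [(172, 123), (321, 70), (24, 5), (379, 80), (514, 70), (658, 7), (113, 11), (354, 30), (559, 14), (406, 131), (309, 111), (248, 7), (410, 142), (507, 100), (591, 155), (549, 41), (878, 33), (395, 71), (382, 105), (383, 101), (139, 139), (724, 169), (867, 102), (174, 174), (448, 15), (483, 142), (768, 61), (896, 10), (782, 61), (417, 184)]⟩,
  ⟨[(0, 3), (1, 6), (2, 5), (3, 7), (4, 8), (5, 6)], 1, 1, [(293, 33), (325, 30), (441, 33), (565, 21), (310, 33), (464, 0), (468, 30), (892, 163), (490, 9), (203, 39), (462, 86), (600, 12), (263, 115), (584, 26), (218, 61), (726, 191), (154, 120), (423, 5), (658, 26), (107, 50), (412, 138), (373, 181), (927, 0), (280, 105), (452, 174), (884, 180), (629, 26), (146, 119), (867, 83), (305, 181)]⟩,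
  ⟨[(0, 5), (1, 6), (2, 6), (3, 4), (4, 7), (7, 8)], 1, 1, [(544, 90), (911, 168), (469, 19), (497, 37), (479, 187), (507, 64), (784, 137), (618, 90), (350, 49), (601, 97), (551, 185), (458, 32), (723, 142), (624, 41), (199, 127), (382, 139), (747, 121), (62, 100), (849, 108), (286, 147), (436, 22), (752, 190), (394, 19), (183, 50), (751, 70), (520, 47), (230, 13), (298, 183), (266, 79), (525, 59)]⟩,
  ⟨[(0, 2), (1, 3), (3, 4), (4, 5), (5, 6), (6, 7)], 1, 1, [(76, 6), (85, 72), (265, 6), (135, 72), (69, 72), (97, 34), (144, 6), (369, 6), (468, 33), (523, 6), (588, 50), (507, 6), (486, 51), (876, 176), (937, 6), (395, 2), (543, 6), (540, 28), (571, 7), (788, 13), (337, 1), (517, 6), (690, 2), (705, 13), (472, 18), (574, 6), (742, 71), (878, 98), (782, 30), (830, 65)]⟩,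
  ⟨[(1, 2), (2, 3), (3, 5), (4, 6), (5, 7), (6, 8)], 0, 1, [(580, 5), (532, 67), (159, 21), (605, 138), (75, 73), (192, 73), (107, 73), (190, 21), (499, 21), (236, 21), (207, 12), (366, 21), (650, 21), (375, 17), (414, 17), (231, 18), (492, 12), (598, 28), (316, 14), (547, 137), (874, 167), (746, 56), (333, 64), (826, 12), (893, 161), (457, 7), (931, 38), (725, 0), (811, 0), (900, 134)]⟩,
  ⟨[(1, 2), (2, 7), (4, 7), (5, 7), (6, 7), (7, 8)], 0, 1, [(478, 103), (488, 104), (308, 86), (703, 69), (815, 33), (885, 80), (156, 86), (552, 80), (4, 25), (16, 25), (553, 45), (898, 80), (121, 75), (622, 60), (465, 178), (886, 176), (770, 176), (65, 123), (827, 125), (713, 45), (788, 45), (932, 94), (604, 86), (14, 130), (645, 113), (837, 130), (306, 51), (639, 45), (551, 60), (785, 45)]⟩,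
  ⟨[(1, 3), (2, 8), (3, 5), (4, 6), (5, 7), (7, 8)], 1, 1, [(73, 62), (92, 96), (116, 48), (644, 101), (409, 173), (517, 173), (324, 153), (312, 28), (343, 126), (524, 150), (555, 24), (146, 12), (361, 102), (353, 94), (278, 188), (293, 54), (764, 76), (408, 8), (565, 126), (719, 119), (84, 166), (294, 143), (422, 123), (373, 187), (558, 24), (632, 21), (464, 96), (331, 76), (421, 67), (611, 52)]⟩,
  ⟨[(1, 3), (2, 6), (3, 7), (4, 7), (5, 6), (6, 8)], 1, 1, [(282, 10), (344, 31), (663, 18), (41, 113), (263, 82), (120, 37), (595, 50), (513, 18), (530, 114), (370, 46), (29, 58), (463, 31), (30, 72), (32, 40), (233, 165), (71, 152), (38, 14), (357, 149), (149, 170), (330, 0), (50, 72), (321, 119), (188, 32), (219, 2), (702, 134), (180, 184), (24, 115), (621, 161), (436, 25), (849, 15)]⟩,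
  ⟨[(0, 4), (1, 7), (2, 6), (3, 8), (4, 7), (5, 6), (6, 7), (7, 8)], 0, 1, [(228, 0), (174, 0), (457, 0), (417, 34), (282, 21), (310, 21), (210, 21), (617, 33), (127, 27), (323, 0), (268, 26), (669, 169), (516, 0), (224, 27), (787, 7), (18, 50), (936, 0), (689, 160), (648, 79), (895, 109), (419, 26), (647, 29), (83, 13), (816, 110), (747, 109), (850, 20), (291, 86), (204, 20), (761, 61), (404, 10)]⟩,
  ⟨[(0, 1), (1, 2), (2, 3), (3, 4), (4, 5), (5, 6)], 0, 1, [(15, 25), (48, 25), (35, 34), (17, 25), (13, 34), (56, 34), (22, 34), (63, 90), (86, 34), (93, 34), (101, 2), (126, 34), (183, 34), (112, 1), (173, 93), (149, 7), (253, 34), (162, 1), (176, 144), (315, 93), (288, 2), (171, 18), (295, 25), (371, 8), (393, 2), (314, 31), (335, 93), (538, 28), (655, 8), (688, 28)]⟩,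
  ⟨[(0, 8), (1, 8), (2, 8), (3, 8), (6, 8), (7, 8)], 0, 1, [(362, 0), (158, 5), (643, 0), (190, 83), (392, 87), (237, 5), (530, 87), (578, 154), (737, 154), (844, 180), (43, 0), (900, 0), (842, 0), (92, 0), (192, 0), (118, 0), (271, 12), (270, 0), (132, 21), (533, 67), (517, 67), (606, 74), (199, 33), (800, 140), (899, 136), (801, 168), (576, 157), (493, 5), (683, 68), (811, 67)]⟩,
  ⟨[(0, 7), (1, 8), (2, 3), (6, 7)], 1, 1, [(12, 44), (889, 78), (429, 132), (866, 85), (800, 41), (374, 32), (941, 92), (325, 60), (94, 77), (104, 77), (117, 24), (586, 46), (706, 32), (275, 103), (906, 39), (227, 132), (494, 138), (688, 37), (932, 14), (258, 121), (515, 168), (759, 158), (347, 178), (70, 141), (371, 142), (942, 44), (420, 188), (570, 121), (331, 41), (134, 20)]⟩,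
  ⟨[(0, 1), (1, 8), (3, 4), (4, 5), (5, 6), (6, 8)], 1, 1, [(191, 107), (880, 75), (718, 47), (658, 111), (914, 98), (642, 159), (755, 26), (847, 86), (270, 123), (659, 145), (359, 126), (762, 72), (412, 102), (520, 70), (910, 157), (384, 129), (579, 122), (657, 164), (370, 80), (158, 167), (717, 171), (903, 13), (819, 89), (60, 68), (409, 109), (859, 23), (631, 147), (349, 54), (690, 55), (128, 141)]⟩]

/-- A part of a certificate. -/
def aCert6 : List Inst := [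
  ⟨[(0, 7), (1, 8), (4, 8), (5, 8), (6, 8), (7, 8)], 1, 1, [(48, 25), (893, 80), (430, 86), (542, 155), (838, 77), (508, 136), (855, 80), (274, 75), (641, 11), (934, 138), (209, 14), (754, 80), (585, 90), (301, 1), (337, 78), (289, 119), (791, 130), (539, 137), (858, 11), (635, 102), (710, 134), (821, 114), (442, 90), (698, 73), (400, 41), (697, 136), (250, 12), (405, 190), (613, 70), (462, 22)]⟩,
  ⟨[(0, 8), (1, 4), (2, 8), (3, 4), (4, 8), (5, 8), (6, 8), (7, 8)], 1, 1, [(205, 67), (9, 0), (251, 5), (786, 33), (28, 0), (276, 87), (21, 0), (527, 57), (285, 34), (89, 60), (170, 48), (856, 36), (909, 137), (324, 167), (895, 167), (904, 155), (226, 33), (780, 86), (426, 170), (683, 8), (801, 184), (51, 45), (309, 89), (845, 56), (927, 36), (795, 184), (881, 129), (825, 0), (844, 129), (842, 44)]⟩,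
  ⟨[(0, 8), (1, 8), (2, 3), (3, 5), (5, 7), (7, 8)], 0, 1, [(310, 45), (927, 12), (760, 185), (668, 113), (513, 67), (468, 141), (543, 68), (349, 141), (550, 87), (528, 132), (825, 137), (610, 185), (278, 161), (475, 165), (525, 139), (325, 107), (442, 107), (374, 169), (496, 40), (183, 142), (601, 163), (286, 118), (700, 13), (241, 98), (331, 56), (905, 40), (397, 190), (570, 145), (667, 0), (818, 134)]⟩,
  ⟨[(0, 1), (1, 7), (2, 8), (3, 8), (4, 8), (6, 7)], 1, 1, [(856, 93), (936, 54), (404, 88), (170, 45), (931, 110), (850, 187), (637, 106), (895, 41), (24, 54), (314, 159), (104, 77), (822, 103), (111, 21), (88, 73), (606, 148), (745, 68), (258, 184), (703, 138), (1, 75), (58, 100), (555, 100), (511, 153), (836, 140), (30, 53), (252, 73), (324, 74), (458, 106), (246, 143), (327, 22), (22, 139)]⟩,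
  ⟨[(0, 6), (1, 8), (2, 8), (3, 6), (4, 6), (7, 8)], 1, 1, [(34, 117), (719, 182), (380, 131), (59, 161), (933, 136), (343, 156), (838, 31), (253, 180), (139, 50), (192, 50), (110, 7), (35, 115), (355, 63), (154, 6), (142, 145), (618, 127), (490, 16), (638, 15), (661, 136), (395, 18), (568, 47), (872, 19), (708, 162), (808, 31), (830, 125), (197, 180), (451, 30), (328, 186), (783, 164), (942, 142)]⟩,
  ⟨[(0, 1), (1, 4), (2, 8), (3, 5), (4, 6), (5, 7), (6, 7), (7, 8)], 1, 1, [(77, 65), (69, 162), (160, 51), (659, 171), (409, 171), (741, 111), (388, 164), (432, 28), (469, 58), (442, 152), (645, 95), (359, 0), (491, 102), (727, 32), (503, 186), (248, 121), (465, 152), (354, 71), (424, 128), (784, 50), (126, 166), (294, 71), (463, 121), (650, 106), (716, 4), (777, 21), (585, 88), (259, 106), (567, 67), (869, 62)]⟩,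
  ⟨[(0, 5), (1, 5), (2, 5), (3, 5), (4, 5), (6, 7)], 1, 1, [(736, 13), (756, 31), (483, 57), (399, 87), (932, 172), (342, 5), (729, 76), (467, 5), (743, 167), (623, 172), (887, 124), (621, 67), (461, 6), (868, 167), (803, 92), (586, 93), (407, 53), (906, 66), (753, 81), (701, 12), (782, 190), (713, 119), (706, 28), (915, 2), (943, 188), (849, 18), (571, 21), (671, 169), (890, 139), (922, 68)]⟩,
  ⟨[(0, 7), (1, 8), (2, 8), (6, 8)], 1, 1, [(31, 115), (877, 93), (578, 133), (540, 85), (924, 51), (665, 25), (715, 162), (274, 180), (76, 21), (152, 21), (80, 150), (828, 46), (243, 94), (220, 55), (921, 175), (439, 113), (495, 140), (799, 114), (687, 125), (344, 7), (509, 94), (714, 183), (635, 169), (59, 155), (319, 31), (819, 100), (631, 6), (512, 13), (846, 21), (91, 45)]⟩,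
  ⟨[(0, 8), (1, 4), (2, 7), (3, 8), (5, 7), (6, 7)], 1, 1, [(711, 72), (501, 68), (828, 42), (576, 65), (530, 141), (578, 75), (219, 26), (568, 134), (726, 44), (916, 144), (875, 150), (462, 162), (798, 140), (376, 120), (602, 4), (917, 155), (935, 126), (721, 117), (208, 125), (481, 60), (533, 67), (497, 13), (677, 48), (449, 132), (814, 26), (292, 100), (692, 172), (400, 21), (559, 72), (577, 155)]⟩,
  ⟨[(0, 7), (1, 8), (3, 7), (4, 8), (5, 7), (7, 8)], 1, 1, [(649, 0), (723, 71), (481, 123), (643, 56), (728, 121), (304, 15), (916, 0), (413, 5), (662, 23), (704, 67), (760, 66), (899, 144), (877, 142), (524, 66), (807, 20), (38, 102), (294, 75), (32, 102), (757, 109), (281, 17), (307, 183), (619, 68), (274, 170), (23, 5), (89, 114), (900, 36), (430, 129), (683, 139), (29, 83), (83, 27)]⟩,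
  ⟨[(0, 8), (1, 8), (3, 4), (4, 6)], 1, 1, [(39, 78), (68, 50), (738, 159), (343, 159), (210, 130), (425, 174), (797, 56), (305, 170), (164, 9), (123, 9), (252, 58), (628, 113), (701, 32), (376, 104), (924, 45), (545, 16), (336, 122), (828, 37), (915, 96), (473, 22), (638, 135), (12, 175), (381, 73), (94, 183), (185, 184), (757, 183), (564, 48), (575, 102), (619, 41), (554, 116)]⟩,
  ⟨[(1, 3), (3, 4), (4, 6), (5, 7), (6, 8), (7, 8)], 1, 1, [(204, 79), (226, 77), (125, 105), (119, 150), (215, 79), (501, 25), (370, 79), (51, 188), (912, 190), (776, 68), (566, 180), (253, 126), (273, 156), (781, 12), (126, 88), (367, 172), (930, 185), (828, 179), (873, 115), (500, 106), (923, 161), (918, 81), (751, 1), (72, 105), (358, 126), (688, 129), (393, 86), (52, 124), (702, 163), (554, 62)]⟩,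
  ⟨[(0, 5), (2, 4), (3, 6), (4, 7), (5, 8), (6, 7)], 1, 1, [(291, 72), (210, 3), (740, 12), (379, 34), (325, 73), (355, 34), (68, 26), (590, 7), (350, 123), (637, 178), (447, 150), (561, 34), (410, 70), (135, 120), (625, 55), (568, 85), (895, 71), (611, 143), (62, 125), (371, 114), (203, 67), (617, 113), (342, 160), (162, 132), (430, 67), (832, 102), (837, 38), (780, 8), (765, 20), (219, 155)]⟩,
  ⟨[(0, 8), (1, 5), (2, 6), (3, 5), (4, 6), (5, 6), (6, 8), (7, 8)], 0, 1, [(667, 34), (523, 34), (536, 40), (342, 34), (371, 181), (44, 15), (256, 42), (669, 188), (430, 105), (214, 67), (788, 162), (891, 85), (715, 91), (705, 135), (832, 135), (134, 118), (586, 45), (801, 83), (729, 117), (730, 116), (830, 38), (484, 102), (93, 53), (900, 186), (546, 38), (906, 77), (626, 128), (450, 109), (389, 57), (829, 47)]⟩,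
  ⟨[(0, 7), (3, 7), (4, 5), (5, 6), (6, 7), (7, 8)], 1, 1, [(580, 169), (739, 187), (655, 16), (214, 78), (590, 130), (491, 168), (679, 82), (360, 177), (73, 18), (137, 31), (207, 25), (192, 107), (660, 32), (417, 72), (807, 59), (659, 94), (205, 69), (781, 137), (874, 148), (488, 22), (890, 15), (735, 155), (665, 3), (353, 142), (708, 142), (855, 57), (643, 79), (845, 102), (873, 77), (914, 103)]⟩,
  ⟨[(2, 8), (3, 8), (4, 8), (5, 8)], 1, 1, [(875, 0), (288, 141), (836, 105), (434, 67), (335, 20), (686, 41), (511, 87), (778, 147), (663, 176), (586, 184), (935, 188), (921, 168), (242, 12), (572, 176), (873, 43), (466, 93), (848, 184), (734, 149), (352, 179), (569, 103), (676, 67), (570, 12), (685, 68), (614, 104), (540, 14), (777, 165), (812, 172), (894, 137), (405, 21), (337, 14)]⟩,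
  ⟨[(0, 6), (1, 7), (2, 8), (3, 6), (4, 8), (5, 6), (6, 8), (7, 8)], 0, 1, [(172, 102), (380, 73), (477, 0), (233, 73), (296, 7), (142, 5), (390, 7), (444, 7), (472, 7), (508, 175), (28, 1), (572, 7), (721, 7), (48, 2), (66, 2), (24, 7), (804, 68), (893, 121), (23, 54), (370, 166), (219, 165), (501, 168), (70, 33), (917, 123), (683, 15), (619, 27), (430, 59), (200, 101), (412, 56), (651, 166)]⟩,
  ⟨[(0, 7), (1, 8), (3, 8), (4, 8), (5, 8), (6, 7)], 1, 1, [(14, 12), (166, 139), (473, 71), (831, 41), (139, 174), (525, 52), (368, 137), (306, 59), (37, 77), (43, 77), (47, 24), (925, 28), (769, 168), (445, 140), (727, 68), (134, 54), (0, 138), (86, 69), (730, 148), (211, 54), (416, 106), (132, 72), (360, 176), (58, 141), (126, 101), (852, 20), (378, 145), (652, 14), (70, 67), (24, 20)]⟩,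
  ⟨[(1, 5), (2, 5), (3, 5), (4, 5)], 0, 1, [(396, 160), (268, 60), (14, 70), (111, 26), (101, 87), (28, 8), (6, 1), (4, 70), (21, 1), (123, 5), (170, 4), (16, 70), (29, 8), (160, 25), (167, 25), (161, 21), (65, 12), (225, 25), (239, 25), (66, 125), (77, 0), (285, 95), (48, 66), (81, 105), (57, 186), (121, 48), (520, 90), (501, 90), (34, 110), (110, 0)]⟩,
  ⟨[(0, 8), (2, 7), (3, 7), (4, 8), (5, 8), (6, 8)], 0, 1, [(235, 13), (211, 13), (491, 72), (58, 155), (727, 0), (852, 0), (645, 33), (652, 103), (474, 17), (168, 26), (25, 7), (688, 122), (132, 83), (127, 7), (82, 79), (544, 74), (126, 40), (43, 144), (13, 80), (738, 27), (816, 86), (605, 157), (551, 5), (115, 1), (360, 86), (739, 113), (387, 138), (653, 141), (378, 154), (655, 141)]⟩,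
  ⟨[(0, 6), (1, 5), (2, 8), (3, 5), (4, 5), (7, 8)], 0, 1, [(870, 6), (652, 97), (511, 188), (627, 30), (507, 141), (722, 118), (309, 105), (869, 32), (180, 42), (354, 56), (920, 71), (851, 113), (58, 10), (805, 71), (544, 55), (911, 11), (866, 11), (90, 182), (727, 51), (764, 102), (767, 151), (553, 152), (908, 129), (24, 129), (326, 116), (931, 53), (450, 109), (626, 128), (469, 128), (701, 43)]⟩,
  ⟨[(0, 4), (1, 4), (2, 6), (3, 7), (4, 8), (5, 8)], 0, 1, [(209, 69), (146, 2), (207, 73), (396, 6), (32, 141), (202, 21), (124, 21), (225, 121), (39, 5), (678, 2), (791, 4), (417, 22), (360, 1), (641, 79), (753, 79), (6, 40), (268, 111), (655, 188), (273, 75), (549, 131), (575, 102), (635, 107), (276, 45), (498, 45), (395, 155), (448, 57), (772, 169), (926, 34), (461, 114), (808, 131)]⟩,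
  ⟨[(0, 8), (1, 2), (2, 7), (7, 8)], 0, 1, [(560, 16), (834, 73), (593, 82), (918, 73), (697, 120), (399, 120), (165, 138), (294, 160), (276, 68), (821, 73), (364, 18), (879, 147), (877, 73), (534, 169), (590, 98), (243, 117), (610, 4), (664, 8), (799, 147), (340, 145), (902, 96), (615, 181), (461, 104), (926, 86), (561, 56), (905, 72), (635, 139), (480, 58), (405, 108), (814, 61)]⟩,
  ⟨[(0, 3), (1, 2), (2, 5), (3, 6), (4, 7), (5, 8), (6, 8), (7, 8)], 0, 1, [(139, 33), (192, 33), (77, 3), (132, 33), (16, 141), (154, 3), (179, 9), (121, 72), (66, 45), (237, 6), (280, 17), (194, 3), (385, 28), (378, 12), (549, 6), (490, 1), (362, 1), (599, 6), (333, 35), (709, 181), (852, 6), (628, 33), (427, 173), (514, 42), (658, 188), (645, 1), (774, 42), (898, 0), (698, 110), (857, 6)]⟩,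
  ⟨[(1, 7), (2, 7), (4, 7), (6, 7)], 0, 1, [(353, 12), (573, 12), (205, 140), (488, 93), (218, 26), (923, 0), (894, 12), (312, 20), (782, 70), (417, 26), (620, 26), (145, 140), (944, 0), (829, 86), (701, 86), (914, 168), (73, 9), (767, 20), (764, 20), (875, 103), (566, 93), (922, 107), (873, 26), (874, 11), (851, 5), (287, 50), (890, 57), (781, 5), (778, 5), (537, 67)]⟩,
  ⟨[(1, 3), (2, 4), (3, 5), (4, 6), (5, 7), (6, 8)], 0, 1, [(25, 0), (68, 0), (76, 0), (84, 0), (26, 73), (92, 73), (43, 73), (120, 33), (144, 0), (159, 0), (181, 0), (193, 0), (271, 0), (282, 0), (293, 0), (211, 13), (361, 0), (387, 0), (408, 0), (441, 0), (464, 0), (468, 0), (409, 44), (536, 0), (609, 0), (644, 0), (700, 0), (422, 0), (517, 0), (864, 0)]⟩,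
  ⟨[(0, 2), (1, 3), (2, 3), (3, 4), (4, 5), (5, 6), (6, 8), (7, 8)], 0, 1, [(17, 73), (9, 73), (86, 7), (20, 73), (35, 7), (126, 7), (58, 7), (70, 7), (13, 7), (50, 7), (101, 13), (102, 7), (39, 7), (141, 18), (173, 2), (180, 7), (162, 2), (124, 8), (209, 128), (227, 13), (335, 51), (171, 51), (318, 33), (295, 40), (655, 1), (286, 64), (433, 17), (372, 12), (581, 17), (502, 12)]⟩,
  ⟨[(0, 8), (1, 6), (2, 7), (3, 6), (4, 6), (5, 6), (6, 8), (7, 8)], 1, 1, [(810, 9), (541, 124), (523, 168), (139, 114), (698, 145), (421, 187), (249, 106), (667, 98), (862, 54), (924, 54), (832, 42), (502, 22), (62, 73), (416, 75), (452, 27), (765, 20), (546, 138), (849, 67), (357, 146), (307, 40), (486, 141), (635, 109), (549, 68), (9, 137), (161, 144), (280, 23), (504, 169), (173, 41), (367, 103), (20, 166)]⟩,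
  ⟨[(0, 7), (1, 7), (3, 7), (5, 6), (6, 7), (7, 8)], 1, 1, [(538, 46), (541, 85), (505, 16), (692, 159), (400, 60), (293, 167), (613, 160), (246, 59), (47, 64), (155, 89), (163, 77), (533, 113), (522, 94), (196, 3), (845, 130), (523, 32), (7, 183), (729, 97), (736, 75), (555, 77), (634, 100), (734, 191), (681, 130), (573, 144), (626, 143), (790, 76), (844, 185), (807, 40), (820, 80), (705, 103)]⟩,
  ⟨[(0, 8), (2, 8)], 0, 1, [(490, 21), (499, 20), (719, 137), (166, 138), (57, 21), (66, 21), (34, 21), (381, 140), (380, 140), (838, 33), (87, 50), (933, 21), (893, 7), (184, 64), (192, 64), (110, 33), (297, 17), (650, 2), (139, 123), (533, 106), (733, 165), (822, 173), (167, 7), (911, 119), (721, 161), (761, 124), (673, 53), (447, 166), (717, 129), (872, 36)]⟩,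
  ⟨[(0, 6), (1, 8), (2, 6), (3, 8)], 1, 1, [(530, 46), (780, 31), (737, 178), (102, 78), (693, 94), (471, 147), (720, 169), (279, 133), (60, 2), (128, 8), (99, 25), (150, 44), (371, 32), (217, 72), (871, 68), (766, 108), (345, 155), (850, 97), (601, 148), (409, 80), (669, 91), (426, 155), (592, 132), (463, 142), (401, 142), (751, 20), (563, 185), (562, 102), (888, 191), (699, 103)]⟩,
  ⟨[(0, 7), (5, 6), (6, 7), (7, 8)], 1, 1, [(539, 46), (698, 85), (732, 91), (693, 159), (340, 133), (749, 61), (857, 63), (630, 59), (65, 121), (105, 142), (164, 77), (911, 113), (523, 94), (306, 22), (893, 50), (628, 176), (8, 183), (898, 97), (820, 75), (445, 104), (729, 165), (735, 191), (665, 70), (764, 21), (403, 40), (900, 93), (715, 14), (784, 46), (839, 22), (465, 72)]⟩,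
  ⟨[(0, 2), (1, 3), (2, 7), (7, 8)], 1, 1, [(64, 2), (41, 70), (26, 40), (183, 70), (90, 70), (30, 7), (255, 67), (78, 144), (800, 25), (213, 125), (185, 66), (87, 54), (238, 28), (841, 76), (166, 189), (252, 92), (759, 25), (459, 50), (475, 0), (842, 170), (397, 8), (491, 12), (679, 12), (845, 104), (192, 10), (525, 6), (393, 122), (187, 15), (208, 42), (533, 23)]⟩,
  ⟨[(1, 2), (2, 7), (6, 7), (7, 8)], 0, 1, [(639, 21), (275, 74), (325, 87), (756, 77), (697, 131), (399, 131), (165, 154), (422, 160), (49, 29), (12, 29), (705, 11), (543, 45), (81, 29), (746, 132), (706, 9), (243, 163), (342, 90), (117, 2), (932, 4), (866, 14), (906, 133), (942, 32), (461, 144), (228, 28), (377, 17), (586, 95), (302, 8), (782, 45), (571, 108), (916, 29)]⟩,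
  ⟨[(1, 3), (2, 3), (3, 4), (4, 6), (5, 7), (6, 8)], 1, 1, [(251, 63), (199, 29), (55, 110), (173, 161), (298, 94), (392, 95), (432, 95), (21, 191), (763, 153), (598, 118), (302, 189), (124, 134), (218, 182), (725, 145), (39, 88), (274, 129), (931, 175), (744, 124), (819, 134), (499, 106), (939, 117), (847, 81), (843, 1), (45, 105), (257, 126), (452, 180), (502, 83), (33, 124), (754, 174), (443, 63)]⟩,
  ⟨[(0, 7), (1, 3), (2, 8), (4, 8), (5, 8), (6, 7)], 0, 1, [(344, 3), (565, 3), (425, 107), (84, 138), (265, 87), (485, 95), (556, 33), (323, 126), (220, 158), (861, 95), (131, 44), (816, 77), (604, 95), (150, 58), (212, 58), (133, 21), (91, 17), (880, 106), (197, 126), (918, 159), (532, 100), (847, 130), (284, 30), (736, 159), (509, 163), (797, 177), (562, 44), (682, 99), (750, 131), (691, 100)]⟩,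
  ⟨[(0, 1), (1, 4), (2, 4), (3, 5), (4, 5), (5, 6), (6, 8), (7, 8)], 1, 1, [(545, 151), (618, 84), (744, 151), (932, 117), (743, 157), (783, 26), (638, 87), (728, 44), (927, 120), (629, 2), (680, 178), (399, 44), (748, 139), (733, 166), (243, 42), (763, 166), (761, 176), (411, 109), (795, 106), (899, 66), (937, 137), (478, 50), (573, 8), (260, 114), (504, 30), (779, 33), (705, 22), (540, 93), (311, 160), (187, 16)]⟩,
  ⟨[(0, 8), (1, 6), (2, 8), (3, 8), (4, 6), (7, 8)], 1, 1, [(370, 39), (129, 134), (385, 132), (715, 50), (86, 161), (390, 156), (142, 115), (683, 80), (732, 5), (503, 136), (118, 51), (899, 112), (214, 92), (474, 99), (889, 97), (746, 61), (217, 7), (906, 122), (115, 1), (777, 0), (660, 98), (138, 147), (389, 135), (903, 75), (868, 140), (844, 115), (471, 89), (773, 139), (808, 51), (894, 87)]⟩,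
  ⟨[(0, 3), (1, 4), (3, 5), (4, 6), (5, 7), (7, 8)], 0, 1, [(50, 25), (30, 25), (97, 34), (56, 25), (45, 34), (135, 34), (71, 34), (187, 34), (54, 34), (60, 34), (124, 18), (260, 34), (128, 34), (232, 1), (208, 31), (244, 92), (280, 8), (211, 8), (229, 142), (384, 31), (540, 2), (339, 18), (436, 31), (356, 50), (690, 2), (333, 92), (614, 93), (399, 28), (817, 28), (533, 28)]⟩,
  ⟨[(0, 2), (1, 3), (2, 4), (3, 5), (4, 6), (5, 7)], 0, 1, [(19, 73), (56, 73), (87, 7), (22, 73), (37, 7), (128, 7), (60, 7), (71, 7), (75, 7), (187, 7), (178, 51), (103, 7), (151, 7), (232, 65), (175, 2), (182, 7), (244, 17), (360, 8), (229, 54), (384, 1), (506, 1), (290, 13), (320, 33), (333, 2), (657, 1), (443, 33), (435, 17), (614, 50), (606, 2), (817, 1)]⟩,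
  ⟨[(0, 7), (1, 3), (2, 7), (3, 4), (4, 5), (5, 6), (6, 7), (7, 8)], 1, 1, [(150, 13), (39, 151), (453, 124), (184, 144), (295, 168), (231, 168), (678, 37), (598, 176), (117, 122), (164, 41), (279, 128), (507, 1), (443, 49), (304, 102), (911, 80), (395, 116), (55, 53), (461, 38), (571, 29), (306, 11), (506, 162), (505, 55), (246, 40), (705, 102), (626, 54), (673, 32), (742, 62), (893, 56), (725, 178), (767, 121)]⟩,
  ⟨[(0, 8), (1, 4), (2, 8), (3, 4), (4, 8), (7, 8)], 1, 1, [(871, 104), (44, 90), (191, 90), (820, 53), (93, 90), (416, 26), (106, 90), (666, 107), (857, 66), (658, 65), (610, 170), (815, 174), (468, 183), (349, 165), (642, 25), (829, 136), (865, 140), (850, 168), (569, 168), (480, 92), (700, 137), (188, 85), (328, 17), (894, 86), (868, 141), (712, 95), (705, 28), (887, 139), (835, 180), (903, 154)]⟩,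
  ⟨[(1, 5), (2, 5), (5, 6), (6, 7)], 1, 1, [(896, 81), (26, 90), (185, 34), (801, 66), (60, 90), (120, 6), (46, 34), (796, 86), (616, 18), (456, 89), (440, 31), (934, 83), (523, 2), (634, 165), (904, 29), (588, 64), (467, 93), (663, 92), (837, 106), (781, 92), (342, 1), (168, 11), (115, 82), (940, 148), (912, 164), (715, 90), (366, 141), (557, 43), (809, 106), (928, 170)]⟩,
  ⟨[(0, 5), (1, 6), (2, 8), (3, 6), (4, 8), (5, 8), (6, 8), (7, 8)], 0, 1, [(402, 34), (667, 34), (578, 145), (441, 34), (660, 69), (850, 21), (570, 42), (271, 140), (286, 110), (200, 131), (820, 8), (715, 91), (61, 36), (805, 121), (769, 102), (700, 11), (609, 45), (134, 179), (810, 13), (620, 102), (547, 10), (553, 43), (906, 77), (70, 124), (416, 36), (917, 184), (390, 61), (830, 43), (766, 128), (546, 43)]⟩,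
  ⟨[(0, 8), (1, 2), (2, 3), (4, 6), (6, 7), (7, 8)], 0, 1, [(481, 57), (663, 15), (925, 119), (854, 15), (688, 186), (655, 105), (393, 186), (424, 60), (563, 49), (756, 97), (644, 176), (727, 97), (810, 167), (261, 104), (774, 183), (315, 18), (627, 190), (468, 170), (726, 159), (707, 90), (840, 114), (731, 124), (173, 64), (441, 186), (831, 32), (775, 40), (864, 156), (600, 98), (378, 40), (785, 94)]⟩,
  ⟨[(0, 6), (1, 6), (2, 8), (3, 6)], 1, 1, [(838, 48), (40, 151), (668, 168), (90, 150), (204, 60), (254, 106), (429, 187), (403, 98), (87, 17), (135, 28), (411, 78), (623, 176), (318, 162), (826, 16), (713, 88), (319, 49), (499, 35), (661, 49), (420, 38), (486, 21), (602, 20), (447, 160), (247, 40), (754, 105), (545, 144), (652, 162), (758, 65), (633, 178), (421, 60), (828, 41)]⟩,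
  ⟨[(0, 1), (1, 7), (3, 4), (4, 5), (5, 6), (6, 8)], 1, 1, [(770, 74), (47, 25), (379, 50), (767, 148), (95, 25), (14, 87), (27, 26), (729, 86), (439, 147), (291, 177), (546, 18), (402, 54), (626, 93), (780, 174), (617, 81), (216, 85), (681, 2), (242, 182), (917, 125), (846, 104), (508, 129), (287, 111), (205, 85), (127, 75), (181, 10), (906, 136), (417, 5), (234, 15), (613, 136), (355, 95)]⟩,
  ⟨[(0, 1), (1, 4), (2, 8), (4, 6), (5, 7), (6, 7)], 1, 1, [(148, 58), (54, 152), (79, 48), (456, 42), (409, 75), (64, 13), (3, 82), (5, 97), (403, 108), (524, 108), (645, 94), (216, 54), (322, 35), (640, 94), (460, 145), (358, 143), (544, 126), (35, 166), (652, 108), (784, 73), (126, 139), (349, 122), (662, 9), (908, 8), (414, 24), (777, 73), (699, 135), (242, 76), (450, 148), (547, 23)]⟩,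
  ⟨[(0, 1), (1, 3), (2, 3), (4, 6), (5, 7), (6, 8)], 1, 1, [(28, 131), (370, 19), (20, 110), (181, 52), (321, 38), (432, 29), (392, 29), (9, 191), (487, 190), (358, 181), (281, 97), (178, 117), (234, 124), (463, 98), (13, 36), (304, 180), (804, 106), (854, 124), (513, 97), (64, 187), (543, 179), (142, 10), (157, 88), (78, 105), (357, 58), (53, 15), (59, 25), (50, 98), (670, 162), (486, 52)]⟩,
  ⟨[(0, 1), (1, 2), (2, 4), (3, 5), (4, 6), (5, 7), (6, 7), (7, 8)], 1, 1, [(92, 1), (192, 8), (690, 119), (456, 165), (333, 174), (845, 95), (533, 137), (576, 179), (149, 73), (202, 73), (211, 80), (591, 185), (386, 102), (63, 100), (467, 3), (374, 40), (13, 68), (315, 103), (126, 23), (15, 1), (688, 142), (435, 72), (894, 167), (101, 87), (220, 11), (585, 70), (903, 124), (755, 2), (171, 26), (112, 5)]⟩,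
  ⟨[(0, 2), (1, 5), (2, 4), (3, 6), (4, 7), (5, 7), (6, 7), (7, 8)], 0, 1, [(100, 79), (87, 7), (937, 167), (135, 7), (193, 35), (644, 39), (76, 35), (840, 27), (236, 17), (650, 12), (257, 7), (775, 108), (826, 53), (138, 5), (670, 7), (120, 113), (673, 1), (499, 155), (443, 70), (377, 150), (332, 123), (279, 61), (361, 10), (598, 73), (913, 70), (548, 10), (191, 138), (131, 141), (876, 164), (627, 73)]⟩,
  ⟨[(0, 2), (1, 3), (2, 3), (3, 4), (4, 5), (5, 6), (6, 7), (7, 8)], 0, 1, [(11, 0), (6, 0), (44, 0), (48, 0), (52, 0), (67, 0), (63, 21), (93, 0), (19, 0), (22, 0), (122, 0), (134, 0), (56, 0), (112, 7), (119, 7), (253, 0), (256, 0), (178, 93), (176, 22), (315, 0), (313, 6), (206, 34), (354, 0), (229, 1), (452, 0), (371, 50), (538, 0), (240, 6), (688, 0), (331, 6)]⟩,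
  ⟨[(1, 6), (2, 6), (3, 6), (7, 8)], 0, 1, [(601, 21), (732, 21), (530, 74), (217, 67), (256, 158), (70, 163), (61, 117), (501, 148), (138, 117), (279, 5), (865, 11), (370, 148), (74, 163), (694, 132), (534, 44), (371, 21), (99, 17), (394, 151), (857, 175), (269, 98), (215, 1), (919, 36), (102, 191), (150, 187), (263, 124), (199, 18), (871, 60), (751, 45), (188, 190), (412, 1)]⟩,
  ⟨[(1, 7), (2, 7), (3, 7), (4, 7)], 0, 1, [(478, 0), (553, 7), (169, 20), (488, 30), (273, 87), (858, 0), (894, 1), (334, 20), (782, 22), (302, 5), (827, 86), (239, 20), (906, 0), (587, 5), (766, 26), (868, 113), (73, 12), (746, 5), (703, 141), (922, 143), (612, 157), (875, 126), (921, 5), (942, 143), (850, 44), (170, 1), (836, 83), (711, 87), (835, 87), (510, 2)]⟩,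
  ⟨[(0, 5), (1, 2), (2, 6), (3, 7), (4, 8), (6, 7)], 6, 1, [(45, 21), (140, 33), (112, 72), (70, 26), (404, 33), (281, 2), (546, 50), (447, 1), (477, 34), (120, 11), (136, 87), (488, 50), (483, 33), (908, 90), (615, 147), (734, 0), (511, 186), (369, 140), (8, 12), (385, 66), (345, 22), (885, 55), (41, 25), (392, 16), (161, 113), (890, 73), (505, 27), (22, 33), (728, 27), (872, 147), (739, 153), (705, 155), (276, 111), (143, 34), (865, 121), (503, 87), (847, 11), (563, 134), (227, 141), (935, 87), (808, 107), (543, 81), (800, 10), (29, 60), (68, 25), (565, 75), (356, 154), (611, 138), (858, 86), (290, 83), (366, 182), (714, 144), (852, 83), (775, 78), (497, 133), (231, 141), (249, 134), (798, 26), (618, 14), (116, 47), (668, 36), (776, 127), (174, 12)]⟩,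
  ⟨[(0, 7), (1, 8), (2, 7), (3, 8), (4, 7), (5, 7), (6, 7), (7, 8)], 6, 1, [(149, 73), (255, 0), (551, 0), (518, 81), (754, 0), (168, 26), (51, 1), (614, 37), (790, 0), (924, 0), (561, 15), (784, 104), (67, 7), (192, 0), (355, 5), (381, 114), (797, 140), (498, 140), (743, 5), (517, 67), (875, 103), (627, 108), (198, 17), (226, 72), (217, 0), (704, 90), (880, 5), (122, 4), (55, 5), (817, 68), (700, 133), (626, 15), (16, 23), (745, 163), (802, 115), (301, 72), (393, 0), (70, 45), (404, 2), (440, 167), (289, 169), (136, 1), (247, 21), (1, 2), (595, 16), (786, 140), (329, 54), (106, 45), (636, 7), (275, 79), (651, 7), (584, 0), (420, 30), (782, 172), (268, 21), (433, 33), (157, 45), (415, 29), (598, 31), (610, 43), (62, 110), (729, 145), (649, 78)]⟩,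
  ⟨[(0, 4), (3, 5), (4, 6), (5, 7), (6, 8), (7, 8)], 6, 1, [(48, 0), (102, 0), (100, 0), (8, 67), (111, 4), (496, 0), (372, 7), (146, 34), (181, 2), (202, 31), (251, 89), (252, 89), (350, 0), (421, 105), (390, 6), (63, 87), (487, 34), (728, 6), (106, 45), (788, 0), (471, 12), (647, 28), (500, 130), (379, 118), (187, 45), (649, 2), (489, 55), (556, 128), (51, 95), (654, 147), (491, 2), (434, 187), (826, 126), (677, 27), (764, 33), (886, 70), (482, 144), (153, 185), (85, 20), (663, 125), (414, 182), (349, 56), (896, 181), (901, 10), (691, 22), (384, 168), (821, 90), (237, 138), (872, 121), (911, 150), (400, 140), (782, 178), (891, 125), (903, 122), (401, 153), (271, 188), (534, 154), (714, 7), (943, 26), (378, 42), (612, 102), (706, 128), (689, 75)]⟩,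
  ⟨[(0, 6), (1, 4), (2, 5), (3, 7), (4, 8), (5, 6)], 6, 1, [(88, 0), (137, 73), (80, 7), (67, 67), (233, 0), (374, 7), (767, 0), (352, 0), (579, 129), (391, 155), (456, 0), (221, 191), (478, 51), (916, 0), (287, 159), (228, 191), (791, 92), (133, 167), (121, 5), (521, 86), (410, 70), (736, 0), (393, 132), (793, 18), (538, 11), (878, 0), (392, 67), (70, 64), (759, 86), (506, 121), (580, 56), (727, 187), (669, 11), (97, 90), (57, 0), (385, 68), (59, 69), (283, 185), (124, 5), (780, 56), (673, 150), (757, 145), (819, 131), (905, 74), (901, 22), (560, 162), (373, 90), (92, 21), (657, 115), (680, 5), (826, 162), (930, 28), (769, 26), (867, 44), (749, 4), (357, 137), (612, 146), (765, 86), (523, 168), (696, 96), (569, 20), (387, 3), (394, 31)]⟩,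
  ⟨[(0, 6), (1, 7), (2, 4), (3, 8), (4, 6), (5, 6), (6, 7), (7, 8)], 6, 1, [(73, 33), (119, 6), (699, 0), (211, 104), (294, 104), (515, 6), (133, 140), (449, 7), (551, 17), (730, 7), (403, 50), (529, 4), (840, 30), (740, 75), (15, 0), (196, 160), (51, 0), (419, 5), (939, 12), (39, 0), (782, 102), (732, 189), (35, 17), (75, 32), (213, 21), (543, 166), (702, 114), (88, 50), (109, 29), (532, 86), (240, 16), (319, 100), (391, 95), (783, 86), (339, 16), (443, 59), (822, 119), (654, 56), (591, 167), (774, 88), (29, 13), (837, 23), (507, 115), (558, 6), (238, 120), (106, 17), (805, 27), (160, 33), (497, 106), (201, 134), (536, 168), (904, 60), (635, 101), (466, 33), (490, 154), (648, 16), (578, 12), (508, 134), (412, 48), (899, 87), (938, 57), (303, 3), (825, 108)]⟩,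
  ⟨[(0, 5), (1, 6), (3, 7), (4, 8), (5, 6), (7, 8)], 6, 1, [(107, 33), (110, 3), (582, 33), (178, 9), (246, 9), (282, 50), (852, 6), (599, 7), (294, 17), (819, 170), (339, 12), (749, 7), (810, 51), (668, 42), (2, 1), (217, 26), (473, 70), (611, 22), (400, 81), (17, 0), (511, 84), (426, 189), (251, 59), (41, 32), (42, 21), (935, 152), (676, 121), (678, 111), (43, 29), (911, 122), (520, 132), (877, 9), (425, 66), (670, 86), (397, 133), (315, 176), (102, 2), (389, 16), (332, 165), (804, 26), (485, 31), (781, 41), (932, 116), (291, 28), (116, 120), (791, 14), (906, 123), (71, 33), (588, 161), (366, 30), (618, 141), (887, 26), (522, 152), (842, 86), (322, 84), (716, 124), (488, 83), (472, 143), (104, 48), (113, 98), (813, 87), (274, 72), (938, 102)]⟩]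

/-- A part of a certificate. -/
def aCert7 : List Inst := [
  ⟨[(0, 5), (1, 6), (2, 4), (3, 7), (4, 8), (5, 8)], 6, 1, [(108, 33), (111, 3), (340, 7), (181, 9), (249, 9), (510, 7), (887, 0), (600, 7), (570, 164), (876, 168), (342, 12), (299, 191), (620, 51), (895, 71), (8, 8), (112, 191), (410, 142), (436, 55), (760, 8), (251, 5), (477, 54), (643, 56), (125, 17), (689, 140), (739, 67), (939, 153), (859, 70), (263, 50), (159, 29), (896, 71), (28, 134), (719, 97), (509, 143), (542, 140), (505, 60), (503, 175), (22, 54), (326, 179), (318, 39), (782, 41), (277, 149), (783, 41), (552, 81), (298, 6), (330, 120), (677, 132), (935, 5), (60, 77), (535, 95), (664, 95), (545, 162), (925, 131), (626, 140), (937, 176), (682, 86), (358, 176), (645, 66), (772, 102), (192, 47), (531, 36), (798, 138), (202, 3), (102, 169)]⟩,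
  ⟨[(0, 2), (1, 5), (2, 6), (3, 7), (4, 8), (5, 6)], 6, 1, [(45, 0), (10, 5), (180, 12), (295, 79), (211, 2), (156, 73), (471, 0), (3, 0), (560, 0), (574, 0), (606, 0), (510, 186), (634, 0), (485, 2), (462, 189), (521, 186), (420, 191), (650, 20), (125, 25), (216, 167), (381, 23), (662, 188), (313, 5), (32, 21), (161, 86), (764, 180), (142, 34), (61, 33), (506, 26), (189, 175), (528, 0), (935, 136), (430, 86), (845, 76), (91, 90), (96, 0), (656, 140), (498, 140), (688, 67), (705, 142), (638, 131), (713, 144), (608, 76), (77, 21), (910, 122), (636, 96), (747, 26), (504, 140), (868, 53), (803, 26), (821, 13), (864, 36), (402, 44), (588, 133), (377, 67), (525, 68), (709, 115), (185, 30), (936, 107), (205, 108), (190, 34), (559, 6), (215, 25)]⟩]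

/-- A certificate. -/
def aCert : List Inst := aCert0 ++ aCert1 ++ aCert2 ++ aCert3 ++ aCert4 ++ aCert5 ++ aCert6 ++ aCert7

theorem a_final : finalOK aSpec 2 aSeeds aCert 1 = true := by decide +kernel

end Cfsg.Agent.Solv.AltSec.Two
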