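import Cfsg.Agent.Lib.Solv.AltSec.Two.DataFam

/-!
Certificate data.
-/

set_option autoImplicit false

namespace Cfsg.Agent.Solv.AltSec.Two

/-- The data of the space. -/
def cSpec : Spec where
  n := 9
  N := 315
  T := 0x847531026815420763806524137813604725874130625874203615873042516805413726860513742801654273806413752847053162836140752863421507864510273816423075847530216847153026847250316846520173836502174805412763826514037816250347873540216873042165874532160801654732827540631837504621806413527847053621826543701875302614810643725872503614862410573873542610874032615863102574865021473861302475862031475825403716862503741852410637807543162816430752826403751836042751870532461861402357860321547851027436852317406842076315865310274865023174862531074873604215860513274863520174851430762864502173853412760875043216864130275864203175826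43107583750421680641327583642017584705321683614027583541076280654217381543276082540176381650423787542013681605324787514023687524310687530214686401273581064325787354210687403215686310274586130275486203175486342175080754362181643052782640351783604251782301746581654372086420157387053261486140257386243157086302157485401736286032147585102736484207615381430267583201756485140263785243160784230751680643275181530264782503164783542160786042135785201734685402731684307612585021743684127630586542017386514027386530217485401276387064321586153027486250317485241076385043276185340176286403217585310276480754321681643027582640317582531076483604217583540276180543176281430765287543021687540312686431072587504213686413270586420173587053214686140273586243170586302174586032175485102764385231764084207653180643251781530247682503147680231746581207635487543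26108531074628604215738513274608520174638653210748430762518502173648412760538043216758203175648210764538431075268504216378413275068420175368053216478140275368243175068230764158643210578503172468410762358542173068432760158401763258543107628650421738541327608542017638605321748514027638524317608423076518530217648064321758153027648250317648354217608043276518754321068643027158640317258531076248604217358513276048520176348430765128502176438412765308420173658053214768140273658230761548302174658012763548643215708530274618503174628410763528542170638432761508401762538032175648102764538543216078430275168403175268310764258042175368132764058532170468402761358431762058307652148654321708543027618540317628431076528504217638413276508420176538053217648140276538243176508230765418643217058530276148503176248410765238432765018401765328102765348310762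54804217365813276054820176354853217460840276351843176052830765142802176453843217506830276415803176425842176035832765104854321760843027651840317652831076542804217653813276540853217604840276513843176520830765421802176534830276154803176254810765243842176350832765041801765342832176405802765314831765024807654123843217650830276541803176542842176503832765410801765423832176054802765143831765240807654231821765304827654013832176540802765431831765402807654312821765043827654130817654203821765430827654301817654032876543102817654320876543021876543210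
  K := [
  (36344967696, 1), (36344963841, 1), (36344959026, 1), (36092326416, 1), (35776770576, 1),
  (35199678036, 1), (36343984641, 1), (36344955171, 1), (36092322561, 1), (35776766721, 1),
  (35199674181, 1), (36343980816, 1), (36092317746, 1), (35776761906, 1), (35199669366, 1),
  (36343972146, 1), (35524129296, 1), (34947036756, 1), (36093309441, 1), (34631480916, 1),
  (35525112321, 1), (35198694981, 1), (36343975971, 1), (35775787521, 1), (36092313891, 1),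
  (35776758051, 1), (35199665511, 1), (35524125441, 1), (34947032901, 1), (36093305616, 1),
  (34631477061, 1), (35525108496, 1), (35198691156, 1), (35775783696, 1), (35524120626, 1),
  (34947028086, 1), (36093296946, 1), (34631472246, 1), (35525099826, 1), (35198682486, 1),
  (35775775026, 1), (34378839636, 1), (34948019781, 1), (36093300771, 1), (34379822661, 1),
  (35525103651, 1), (34630497861, 1), (35198686311, 1), (35775778851, 1), (35524116771, 1),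
  (34947024231, 1), (34631468391, 1), (34378835781, 1), (34948015956, 1), (34379818836, 1),
  (34630494036, 1), (34378830966, 1), (34948007286, 1), (34379810166, 1), (34630485366, 1),
  (34948011111, 1), (34379813991, 1), (34630489191, 1), (34378827111, 1)]

/-- Generators of the subgroup. -/
def cGens : List (List (ℕ × ℕ) × ℤ) := [
  ([(0, 1), (2, 3)], 1), ([(0, 2), (1, 3)], 1), ([(4, 5), (6, 7)], 1), ([(4, 6), (5, 7)], 1),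
  ([(0, 4), (1, 5), (2, 6), (3, 7)], 1), ([(0, 1), (4, 5)], 1)]

/-- The enumeration of the subgroup. -/
def cSteps : List (ℕ × ℕ) := [
  (0, 0), (1, 0), (2, 0), (3, 0), (4, 0), (5, 0), (1, 1), (2, 1), (3, 1), (4, 1), (5, 1),
  (2, 2), (3, 2), (4, 2), (5, 2), (3, 3), (4, 3), (5, 3), (4, 4), (5, 4), (5, 5), (1, 6),
  (3, 6), (2, 7), (3, 7), (4, 7), (3, 8), (4, 8), (5, 8), (4, 9), (5, 9), (5, 10), (3, 11),
  (3, 12), (4, 12), (5, 12), (4, 13), (5, 13), (5, 14), (3, 15), (4, 16), (5, 17), (1, 18),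
  (5, 19), (1, 20), (1, 21), (3, 21), (3, 22), (3, 24), (4, 24), (4, 25), (4, 27), (5, 28),
  (5, 30), (1, 32), (4, 34), (5, 35), (5, 37), (1, 39), (3, 42), (3, 44), (3, 46), (4, 49)]

/-- Words for the representatives. -/
def cWords : List (List (ℕ × ℕ)) := [
  [], [(0, 1), (1, 2)], [(1, 2), (2, 3), (3, 4), (4, 5), (5, 6), (6, 7)], [(0, 2), (1, 2)],
  [(0, 2), (1, 3), (3, 4), (4, 5), (5, 6), (6, 7)],
  [(0, 1), (2, 3), (3, 4), (4, 5), (5, 6), (6, 7)],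
  [(1, 3), (2, 4), (3, 5), (4, 6), (5, 7), (6, 7)],
  [(0, 3), (1, 3), (3, 4), (4, 5), (5, 6), (6, 7)],
  [(1, 3), (2, 3), (3, 4), (4, 5), (5, 6), (6, 7)],
  [(0, 3), (1, 4), (2, 3), (3, 5), (4, 6), (5, 7)],
  [(0, 2), (2, 3), (3, 4), (4, 5), (5, 6), (6, 7)],
  [(0, 2), (1, 2), (2, 4), (3, 5), (4, 6), (5, 7)],
  [(0, 1), (1, 3), (2, 4), (3, 5), (4, 6), (5, 7)],
  [(1, 4), (2, 5), (3, 6), (4, 7), (5, 7), (6, 7)],
  [(0, 3), (2, 3), (3, 4), (4, 5), (5, 6), (6, 7)],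
  [(0, 4), (1, 4), (2, 3), (3, 5), (4, 6), (5, 7)],
  [(0, 1), (1, 3), (3, 4), (4, 5), (5, 6), (6, 7)], [(1, 4), (3, 5), (4, 6), (5, 7)],
  [(0, 3), (1, 4), (2, 4), (3, 5), (4, 6), (5, 7)],
  [(0, 4), (1, 5), (2, 4), (3, 6), (4, 7), (6, 7)],
  [(0, 3), (1, 2), (2, 4), (3, 5), (4, 6), (5, 7)], [(2, 4), (3, 5), (4, 6), (5, 7)],
  [(0, 3), (1, 3), (2, 5), (3, 6), (4, 7), (5, 6)],
  [(0, 2), (1, 4), (2, 5), (3, 6), (4, 7), (5, 7)],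
  [(0, 1), (1, 4), (2, 5), (3, 6), (4, 7), (6, 7)],
  [(1, 5), (2, 6), (3, 7), (4, 5), (5, 6), (6, 7)],
  [(0, 3), (1, 2), (3, 4), (4, 5), (5, 6), (6, 7)],
  [(0, 4), (1, 2), (2, 4), (3, 5), (4, 6), (5, 7)],
  [(0, 4), (2, 3), (3, 5), (4, 6), (5, 7), (6, 7)],
  [(0, 5), (1, 5), (2, 4), (3, 6), (4, 7), (6, 7)],
  [(0, 2), (1, 4), (2, 3), (3, 5), (4, 6), (5, 7)],
  [(0, 1), (1, 4), (2, 4), (3, 5), (4, 6), (5, 7)], [(1, 5), (2, 3), (3, 6), (4, 7)],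
  [(0, 3), (1, 4), (3, 5), (4, 6), (5, 7), (6, 7)], [(0, 4), (1, 5), (3, 6), (4, 7)],
  [(0, 4), (1, 5), (2, 5), (3, 6), (4, 7), (6, 7)],
  [(0, 4), (1, 3), (2, 5), (3, 6), (4, 7), (5, 6)],
  [(0, 1), (1, 2), (2, 4), (3, 5), (4, 6), (5, 7)], [(1, 2), (2, 5), (3, 6), (4, 7)],
  [(0, 3), (2, 5), (3, 6), (4, 7)], [(0, 4), (1, 4), (2, 6), (3, 7), (5, 6), (6, 7)],
  [(1, 4), (2, 5), (3, 6), (4, 7)], [(0, 3), (1, 5), (2, 6), (3, 7), (4, 5), (5, 6)],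
  [(0, 2), (1, 4), (2, 5), (3, 6), (4, 7), (6, 7)],
  [(0, 2), (1, 5), (2, 6), (3, 7), (4, 5), (5, 7)],
  [(0, 1), (1, 5), (2, 6), (3, 7), (4, 6), (6, 7)],
  [(1, 6), (2, 7), (3, 6), (4, 7), (5, 6), (6, 7)],
  [(0, 4), (1, 4), (2, 4), (3, 5), (4, 6), (5, 7)],
  [(0, 5), (1, 3), (2, 5), (3, 6), (4, 7), (5, 6)],
  [(0, 5), (1, 2), (2, 4), (3, 6), (4, 7), (5, 7)],
  [(0, 5), (2, 4), (3, 6), (4, 7), (5, 7), (6, 7)],
  [(0, 6), (1, 6), (2, 5), (3, 7), (4, 6), (6, 7)],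
  [(0, 3), (1, 5), (2, 4), (3, 6), (4, 7), (6, 7)],
  [(0, 2), (1, 4), (2, 4), (3, 5), (4, 6), (5, 7)], [(0, 2), (1, 5), (3, 6), (4, 7)],
  [(0, 1), (1, 5), (2, 3), (3, 6), (4, 7), (5, 6)],
  [(1, 6), (2, 4), (3, 7), (4, 6), (5, 6), (6, 7)],
  [(0, 4), (1, 5), (2, 3), (3, 6), (4, 7), (6, 7)],
  [(0, 4), (1, 5), (2, 4), (3, 6), (4, 7), (5, 7)],
  [(0, 5), (1, 6), (2, 3), (3, 7), (4, 6), (5, 7)],
  [(0, 4), (1, 5), (3, 6), (4, 7), (5, 7), (6, 7)],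
  [(0, 4), (1, 3), (2, 5), (3, 6), (4, 7), (6, 7)],
  [(0, 2), (1, 3), (2, 5), (3, 6), (4, 7), (5, 6)], [(0, 1), (2, 5), (3, 6), (4, 7)],
  [(0, 3), (1, 2), (2, 5), (3, 6), (4, 7), (5, 6)],
  [(0, 4), (1, 2), (2, 6), (3, 7), (4, 6), (5, 7)],
  [(0, 4), (2, 6), (3, 7), (4, 6), (5, 6), (6, 7)],
  [(0, 5), (1, 5), (2, 7), (3, 5), (4, 7), (6, 7)],
  [(0, 1), (1, 4), (2, 5), (3, 6), (4, 7), (5, 7)],
  [(1, 5), (2, 6), (3, 7), (4, 5), (5, 7), (6, 7)],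
  [(0, 3), (1, 5), (2, 6), (3, 7), (4, 6), (5, 7)],
  [(0, 4), (1, 6), (2, 7), (3, 6), (4, 7), (5, 6)],
  [(0, 3), (1, 5), (2, 6), (3, 7), (4, 5), (5, 7)],
  [(1, 5), (2, 6), (3, 7), (4, 6), (5, 7), (6, 7)],
  [(0, 3), (1, 6), (2, 7), (3, 6), (4, 7), (5, 7)],
  [(0, 2), (1, 5), (2, 6), (3, 7), (4, 6), (6, 7)],
  [(0, 2), (1, 6), (2, 7), (3, 6), (4, 6), (5, 7)],
  [(0, 1), (1, 6), (2, 7), (3, 7), (4, 6), (5, 7)],
  [(1, 7), (2, 7), (3, 7), (4, 7), (5, 7), (6, 7)], [(0, 4), (3, 5), (4, 6), (5, 7)],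
  [(0, 5), (1, 5), (3, 6), (4, 7)], [(0, 5), (1, 3), (2, 3), (3, 6), (4, 7), (5, 6)],
  [(0, 6), (1, 4), (2, 6), (3, 7), (5, 6), (6, 7)],
  [(0, 5), (1, 5), (2, 4), (3, 6), (4, 7), (5, 7)],
  [(0, 6), (1, 3), (2, 5), (3, 7), (4, 7), (6, 7)],
  [(0, 5), (1, 2), (2, 4), (3, 6), (4, 7), (6, 7)],
  [(0, 6), (1, 2), (2, 5), (3, 7), (4, 5), (5, 7)],
  [(0, 6), (2, 5), (3, 7), (4, 5), (5, 6), (6, 7)],
  [(0, 7), (1, 7), (2, 6), (3, 7), (4, 6), (5, 7)],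
  [(0, 3), (1, 5), (2, 4), (3, 6), (4, 7), (5, 7)],
  [(0, 4), (1, 6), (2, 5), (3, 7), (4, 6), (6, 7)], [(0, 3), (1, 5), (3, 6), (4, 7)],
  [(1, 5), (2, 5), (3, 6), (4, 7)], [(0, 3), (1, 6), (2, 3), (3, 7), (4, 6), (5, 7)],
  [(0, 2), (1, 5), (2, 3), (3, 6), (4, 7), (5, 6)],
  [(0, 2), (1, 6), (2, 4), (3, 7), (4, 6), (5, 7)],
  [(0, 1), (1, 6), (2, 4), (3, 7), (5, 6), (6, 7)],
  [(1, 7), (2, 5), (3, 7), (4, 5), (5, 7), (6, 7)],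
  [(0, 4), (1, 5), (2, 3), (3, 6), (4, 7), (5, 6)],
  [(0, 5), (1, 6), (2, 4), (3, 7), (4, 6), (5, 6)],
  [(0, 4), (1, 5), (2, 5), (3, 6), (4, 7), (5, 7)],
  [(0, 5), (1, 6), (2, 3), (3, 7), (4, 7), (6, 7)],
  [(0, 6), (1, 7), (2, 4), (3, 7), (5, 7), (6, 7)],
  [(0, 5), (1, 6), (2, 3), (3, 7), (4, 6), (6, 7)], [(1, 3), (2, 5), (3, 6), (4, 7)],
  [(0, 3), (1, 4), (2, 6), (3, 7), (5, 6), (6, 7)], [(0, 2), (2, 5), (3, 6), (4, 7)],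
  [(0, 4), (1, 3), (2, 6), (3, 7), (4, 7), (5, 7)],
  [(0, 4), (1, 4), (2, 6), (3, 7), (4, 6), (5, 7)],
  [(0, 5), (1, 3), (2, 7), (4, 7), (5, 7), (6, 7)],
  [(0, 4), (1, 2), (2, 6), (3, 7), (5, 6), (6, 7)],
  [(0, 5), (1, 2), (2, 7), (3, 7), (4, 7), (6, 7)],
  [(0, 5), (2, 7), (3, 7), (4, 5), (5, 7), (6, 7)],
  [(0, 6), (1, 6), (2, 6), (3, 6), (4, 6), (5, 6)],
  [(0, 1), (1, 5), (2, 6), (3, 7), (4, 6), (5, 7)],
  [(1, 6), (2, 7), (3, 6), (4, 7), (5, 7), (6, 7)],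
  [(0, 4), (1, 6), (2, 7), (3, 6), (4, 6), (5, 6)],
  [(0, 4), (1, 6), (2, 7), (3, 7), (5, 7), (6, 7)],
  [(0, 5), (1, 7), (2, 7), (3, 7), (4, 7), (5, 7)],
  [(0, 4), (1, 6), (2, 7), (3, 6), (4, 7), (5, 7)],
  [(0, 1), (1, 5), (2, 6), (3, 7), (4, 5), (5, 7)],
  [(1, 6), (2, 7), (3, 6), (4, 6), (5, 6), (6, 7)],
  [(0, 3), (1, 6), (2, 7), (3, 7), (4, 7), (5, 7)],
  [(0, 4), (1, 7), (2, 7), (3, 7), (4, 7), (6, 7)],
  [(0, 3), (1, 6), (2, 7), (3, 6), (4, 6), (5, 7)],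
  [(1, 6), (2, 7), (3, 7), (4, 7), (5, 6), (6, 7)],
  [(0, 3), (1, 7), (2, 7), (3, 7), (5, 7), (6, 7)],
  [(0, 2), (1, 6), (2, 7), (3, 7), (4, 6), (5, 7)],
  [(0, 5), (1, 2), (2, 3), (3, 6), (4, 7), (5, 6)], [(0, 5), (2, 5), (3, 6), (4, 7)],
  [(0, 6), (1, 6), (2, 3), (3, 7), (4, 6), (5, 7)], [(0, 5), (1, 3), (3, 6), (4, 7)],
  [(0, 6), (1, 4), (3, 7), (5, 7)], [(0, 7), (1, 5), (2, 7), (3, 5), (4, 7), (6, 7)],
  [(0, 5), (2, 4), (3, 6), (4, 7)], [(0, 6), (1, 6), (2, 5), (3, 7), (4, 6), (5, 7)],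
  [(0, 6), (1, 3), (2, 5), (3, 7), (4, 5), (5, 6)],
  [(0, 7), (1, 4), (2, 6), (3, 4), (4, 6), (5, 6)],
  [(0, 6), (1, 3), (2, 5), (3, 7), (4, 7), (5, 6)],
  [(0, 6), (1, 6), (2, 5), (3, 7), (4, 5), (5, 7)],
  [(0, 7), (1, 3), (2, 6), (4, 6), (5, 6), (6, 7)],
  [(0, 6), (1, 2), (2, 5), (3, 7), (4, 6), (6, 7)],
  [(0, 3), (1, 5), (2, 4), (3, 6), (4, 7), (5, 6)],
  [(0, 4), (1, 6), (2, 5), (3, 7), (4, 6), (5, 7)],
  [(0, 5), (1, 7), (2, 6), (3, 7), (4, 6), (5, 7)],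
  [(0, 3), (1, 5), (2, 3), (3, 6), (4, 7), (5, 6)],
  [(0, 4), (1, 6), (2, 3), (3, 7), (4, 6), (5, 7)], [(0, 1), (1, 5), (3, 6), (4, 7)],
  [(0, 4), (1, 7), (2, 4), (3, 7), (5, 7), (6, 7)],
  [(0, 3), (1, 6), (2, 4), (3, 7), (4, 6), (5, 7)], [(1, 6), (2, 4), (3, 7), (5, 7)],
  [(0, 3), (1, 7), (2, 5), (3, 7), (4, 5), (6, 7)],
  [(0, 2), (1, 6), (2, 4), (3, 7), (5, 6), (6, 7)], [(2, 6), (3, 6), (4, 6), (5, 6)],
  [(0, 4), (1, 5), (2, 3), (3, 6), (4, 7), (5, 7)],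
  [(0, 5), (1, 6), (2, 4), (3, 7), (4, 6), (5, 7)],
  [(0, 6), (1, 7), (2, 4), (3, 7), (4, 7), (5, 6)],
  [(0, 6), (1, 7), (2, 4), (3, 4), (4, 6), (5, 6)], [(0, 7), (2, 5), (3, 5), (4, 5)],
  [(0, 1), (1, 3), (2, 5), (3, 6), (4, 7), (5, 6)], [(1, 4), (2, 6), (3, 7), (5, 7)],
  [(0, 3), (1, 4), (2, 6), (3, 7), (4, 6), (5, 7)],
  [(0, 4), (1, 5), (2, 7), (3, 5), (4, 7), (6, 7)],
  [(0, 5), (1, 4), (2, 7), (3, 4), (4, 7), (6, 7)],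
  [(0, 5), (1, 5), (2, 7), (3, 5), (4, 5), (6, 7)],
  [(0, 5), (1, 3), (2, 7), (3, 7), (4, 5), (6, 7)], [(0, 6), (1, 4), (2, 4), (3, 4)],
  [(0, 5), (1, 3), (2, 7), (4, 5), (5, 7), (6, 7)],
  [(0, 5), (1, 5), (2, 7), (3, 7), (4, 7), (6, 7)], [(0, 6), (1, 3), (2, 3), (5, 6)],
  [(0, 5), (1, 2), (2, 7), (3, 5), (4, 7), (6, 7)], [(0, 6), (1, 2), (4, 6), (5, 6)],
  [(0, 6), (3, 6), (4, 6), (5, 6)], [(0, 2), (1, 5), (2, 6), (3, 7), (4, 6), (5, 7)],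
  [(0, 2), (1, 6), (2, 7), (3, 6), (4, 6), (5, 6)],
  [(0, 1), (1, 6), (2, 7), (3, 7), (4, 6), (5, 6)], [(0, 5), (1, 7), (2, 7), (3, 7)],
  [(0, 4), (1, 6), (2, 7), (3, 4), (4, 6), (5, 6)], [(0, 5), (1, 7), (2, 7), (4, 5)],
  [(0, 5), (1, 7), (3, 5), (4, 5)], [(0, 6), (6, 7)],
  [(0, 4), (1, 6), (2, 7), (3, 7), (5, 6), (6, 7)],
  [(0, 5), (1, 7), (2, 7), (3, 7), (4, 7), (6, 7)],
  [(0, 2), (1, 6), (2, 7), (3, 6), (4, 7), (5, 7)],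
  [(0, 1), (1, 6), (2, 7), (3, 7), (4, 7), (5, 7)],
  [(0, 3), (1, 6), (2, 7), (4, 6), (5, 6), (6, 7)], [(0, 4), (1, 7), (2, 7), (6, 7)],
  [(0, 4), (1, 7), (3, 4), (6, 7)], [(0, 5), (5, 6)],
  [(0, 3), (1, 6), (2, 7), (3, 7), (4, 6), (5, 7)],
  [(0, 4), (1, 7), (2, 7), (3, 7), (5, 7), (6, 7)], [(0, 3), (1, 7), (5, 7), (6, 7)],
  [(0, 3), (1, 7), (2, 7), (4, 7), (5, 7), (6, 7)],
  [(0, 5), (1, 5), (2, 3), (3, 6), (4, 7), (5, 6)],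
  [(0, 6), (1, 3), (2, 4), (3, 7), (4, 7), (5, 7)], [(0, 5), (1, 2), (3, 6), (4, 7)],
  [(0, 6), (2, 3), (3, 7), (4, 7), (5, 6), (6, 7)],
  [(0, 6), (1, 4), (2, 3), (3, 7), (5, 6), (6, 7)],
  [(0, 7), (1, 5), (2, 3), (3, 5), (4, 5), (6, 7)],
  [(0, 7), (1, 7), (2, 6), (3, 7), (4, 6), (5, 6)],
  [(0, 7), (1, 4), (2, 6), (3, 4), (5, 7), (6, 7)],
  [(0, 7), (1, 4), (2, 6), (3, 6), (4, 7), (5, 6)],
  [(0, 1), (1, 5), (2, 7), (3, 7), (4, 7), (5, 7)],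
  [(0, 6), (2, 5), (3, 7), (4, 6), (5, 7), (6, 7)],
  [(0, 7), (1, 7), (2, 6), (3, 7), (4, 7), (5, 7)],
  [(0, 7), (1, 3), (2, 6), (3, 6), (4, 7), (5, 7)],
  [(0, 4), (1, 6), (2, 5), (3, 7), (4, 6), (5, 6)],
  [(0, 5), (1, 7), (2, 6), (3, 6), (4, 5), (5, 6)],
  [(0, 3), (1, 5), (2, 5), (3, 6), (4, 7), (5, 6)],
  [(0, 4), (1, 6), (2, 3), (3, 7), (4, 7), (5, 7)],
  [(0, 5), (1, 7), (2, 4), (3, 7), (5, 7), (6, 7)],
  [(0, 2), (1, 6), (2, 3), (3, 7), (4, 6), (5, 7)],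
  [(0, 4), (1, 7), (2, 5), (3, 7), (4, 5), (6, 7)],
  [(1, 7), (2, 5), (3, 7), (4, 7), (5, 7), (6, 7)],
  [(0, 3), (1, 7), (2, 5), (3, 5), (4, 5), (6, 7)], [(0, 4), (2, 6), (3, 6), (4, 6)],
  [(0, 3), (1, 7), (2, 5), (3, 7), (4, 7), (6, 7)], [(1, 2), (2, 7)],
  [(0, 5), (1, 6), (2, 4), (3, 7), (4, 6), (6, 7)], [(0, 7), (2, 5), (3, 5), (5, 7)],
  [(0, 7), (2, 5), (4, 7), (5, 7)], [(0, 7), (1, 2), (2, 5), (3, 7), (4, 7), (5, 7)],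
  [(0, 1), (1, 2), (2, 6), (6, 7)], [(1, 5), (2, 7), (3, 5), (4, 7), (5, 7), (6, 7)],
  [(0, 4), (1, 5), (2, 7), (3, 5), (4, 5), (6, 7)],
  [(0, 4), (1, 5), (2, 7), (3, 7), (5, 7), (6, 7)],
  [(0, 5), (1, 4), (2, 7), (3, 7), (4, 5), (6, 7)],
  [(0, 6), (1, 5), (2, 5), (3, 5), (4, 5), (5, 6)], [(0, 6), (1, 6), (2, 6), (3, 6)],
  [(0, 7), (1, 5), (5, 6), (6, 7)], [(0, 5), (1, 3), (2, 7), (3, 7), (4, 7), (6, 7)],
  [(0, 6), (1, 4), (2, 4), (3, 4), (4, 6), (5, 6)], [(0, 6), (1, 6), (2, 6), (5, 6)],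
  [(0, 6), (1, 3), (3, 6), (5, 6)], [(0, 7), (1, 4), (4, 5), (5, 7)],
  [(0, 6), (1, 3), (2, 3), (3, 6), (4, 6), (5, 6)], [(0, 7), (1, 3), (3, 4), (4, 7)],
  [(0, 3), (1, 6), (2, 7), (3, 6), (4, 6), (5, 6)],
  [(1, 6), (2, 7), (3, 7), (4, 7), (5, 7), (6, 7)], [(0, 3), (1, 7), (2, 7), (3, 7)],
  [(0, 2), (1, 6), (2, 7), (3, 7), (4, 6), (5, 6)], [(0, 5), (1, 7), (3, 5), (5, 7)],
  [(0, 6), (4, 5), (5, 6), (6, 7)], [(0, 5), (1, 7), (2, 7), (3, 5), (4, 7), (5, 7)],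
  [(0, 5), (1, 7), (4, 7), (5, 7)], [(0, 6), (3, 4), (4, 6), (6, 7)],
  [(0, 5), (1, 7), (2, 5), (3, 7), (4, 7), (5, 7)],
  [(0, 5), (1, 7), (2, 7), (4, 5), (5, 7), (6, 7)],
  [(0, 5), (1, 7), (3, 5), (4, 5), (5, 7), (6, 7)], [(0, 6), (5, 6)],
  [(1, 6), (2, 7), (3, 7), (4, 6), (5, 6), (6, 7)],
  [(0, 3), (1, 7), (2, 7), (3, 7), (4, 7), (6, 7)],
  [(0, 2), (1, 6), (2, 7), (3, 7), (4, 7), (5, 7)],
  [(0, 4), (1, 7), (2, 7), (3, 4), (4, 7), (6, 7)], [(0, 4), (1, 7), (4, 7), (6, 7)],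
  [(0, 5), (3, 4), (4, 5), (5, 6)], [(0, 4), (1, 7), (2, 4), (3, 7), (4, 7), (6, 7)],
  [(0, 4), (1, 7), (2, 7), (4, 7), (5, 7), (6, 7)],
  [(0, 4), (1, 7), (3, 4), (4, 7), (5, 7), (6, 7)], [(0, 5), (2, 3), (3, 6), (4, 7)],
  [(0, 6), (1, 6), (2, 4), (3, 7), (4, 6), (5, 7)],
  [(0, 6), (1, 3), (2, 4), (3, 7), (5, 6), (6, 7)],
  [(0, 7), (1, 4), (2, 5), (3, 4), (4, 5), (6, 7)],
  [(0, 7), (1, 5), (2, 3), (4, 7), (5, 7), (6, 7)], [(0, 1), (1, 6), (2, 4), (3, 4)],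
  [(0, 1), (1, 5), (2, 7), (3, 7)], [(0, 1), (1, 5), (2, 7), (4, 5)],
  [(0, 2), (1, 5), (2, 7), (3, 7), (4, 7), (5, 7)], [(0, 2), (1, 6), (2, 6), (6, 7)],
  [(0, 7), (1, 3), (2, 6), (3, 7), (4, 7), (5, 7)], [(0, 1), (1, 4), (2, 7), (6, 7)],
  [(0, 6), (2, 7), (4, 6), (5, 6)], [(0, 5), (1, 7), (2, 4), (3, 7), (4, 7), (6, 7)],
  [(0, 5), (1, 7), (2, 4), (3, 4), (4, 5), (6, 7)],
  [(0, 3), (1, 7), (2, 4), (3, 7), (5, 7), (6, 7)],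
  [(0, 4), (1, 7), (2, 5), (3, 5), (5, 7), (6, 7)], [(0, 5), (2, 6), (3, 6), (4, 6)],
  [(2, 6), (3, 6)], [(0, 3), (1, 7), (2, 5), (4, 7), (5, 7), (6, 7)], [(0, 4), (2, 6)],
  [(0, 5), (1, 2), (2, 7), (5, 6)], [(0, 4), (2, 6), (3, 6), (5, 6)], [(0, 1), (2, 7)],
  [(0, 1), (1, 2), (2, 6), (4, 5), (5, 6), (6, 7)], [(0, 7), (1, 2), (2, 5), (4, 5)],
  [(0, 1), (1, 2), (2, 6), (3, 4), (4, 6), (6, 7)], [(0, 1), (1, 3), (2, 6), (6, 7)],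
  [(0, 2), (1, 3), (2, 7), (3, 4), (4, 5), (5, 6)], [(1, 6), (2, 6), (3, 6), (4, 6)],
  [(0, 5), (1, 6), (2, 6), (3, 6)], [(0, 6), (3, 6)],
  [(0, 7), (1, 4), (2, 3), (3, 7), (4, 5), (5, 7)], [(0, 7), (1, 3), (2, 7), (3, 4)],
  [(0, 3), (1, 6), (2, 7), (3, 7), (4, 6), (5, 6)], [(0, 4), (1, 7), (2, 7), (3, 7)],
  [(0, 3), (1, 7), (2, 7), (4, 7)], [(0, 6), (2, 3), (3, 6), (4, 5), (5, 6), (6, 7)],
  [(0, 6), (1, 2), (2, 6), (4, 5), (5, 6), (6, 7)], [(0, 6), (3, 6), (4, 6), (6, 7)],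
  [(0, 5), (1, 7), (2, 5), (4, 5)], [(0, 3), (1, 7), (4, 7), (6, 7)],
  [(0, 7), (1, 7), (2, 5), (3, 7), (4, 5), (6, 7)], [(0, 2), (1, 5), (2, 7), (3, 7)],
  [(0, 2), (1, 6), (2, 6), (4, 5), (5, 6), (6, 7)], [(0, 2), (1, 5), (2, 7), (4, 5)],
  [(0, 3), (1, 7), (3, 4), (4, 5), (5, 6), (6, 7)], [(0, 2), (1, 4), (2, 7), (6, 7)],
  [(0, 6), (1, 2), (2, 7), (4, 7), (5, 7), (6, 7)], [(0, 6), (2, 5), (3, 5), (5, 6)],
  [(0, 5), (2, 6), (4, 5), (5, 6)], [(0, 5), (1, 2), (2, 6), (3, 5), (4, 5), (5, 6)],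
  [(0, 5), (1, 2), (2, 7), (3, 4), (4, 5), (5, 6)], [(0, 7), (1, 3), (2, 3), (3, 4)],
  [(0, 3), (1, 6), (2, 7), (4, 7), (5, 7), (6, 7)],
  [(0, 6), (1, 2), (2, 6), (3, 6), (4, 6), (6, 7)]]

theorem c_K : cSpec.K = closeK 9 cGens cSteps [(idCode 9, 1)] := by decide +kernel

theorem c_tbl : cSpec.tblOK cWords = true := by decide +kernel

theorem c_gens : cGens.all (fun g => wordOK 9 g.1) = true := by decide +kernel

/-- Seed relations. -/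
def cSeeds : List (List (ℕ × ℤ)) := [
  [(0, 1), (99, 1), (143, 1)], [(0, 1), (90, 1), (155, 1)],
  [(0, 1), (1, 1), (3, 1), (25, 1), (42, 1), (44, 1), (45, 1), (69, 1), (70, 1), (72, 1), (73, 1), (75, 1), (114, 1), (120, 1), (173, 1)],
  [(1, 1), (6, 1), (17, 1), (18, 1), (30, 1), (31, 1), (37, 1), (44, 1), (45, 1), (72, 1), (73, 1), (102, 1), (110, 1), (160, 1), (161, 1)]]

/-- Invariance data. -/
def cYaFix : List (List (ℕ × ℕ) × List (ℕ × ℕ) × List Inst) := [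
  ([(0, 1), (2, 3)], [(0, 1), (99, 4), (143, 4)], []),
  ([(0, 2), (1, 3)], [(0, 2), (99, 16), (143, 3)], []),
  ([(4, 5), (6, 7)], [(0, 3), (99, 2), (143, 2)], []),
  ([(4, 6), (5, 7)], [(0, 4), (99, 7), (143, 1)], []),
  ([(0, 4), (1, 5), (2, 6), (3, 7)], [(0, 5), (99, 5), (143, 37)], []),
  ([(0, 1), (4, 5)], [(0, 6), (143, 4), (99, 4)], []),
  ([(0, 1), (1, 2), (4, 5), (5, 6)], [(99, 5), (143, 23), (0, 44)], [])]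

theorem c_ya : fixOK cSpec 2 [] (cSeeds.getD 0 []) cYaFix = true := by decide +kernel

/-- Invariance data. -/
def cYbFix : List (List (ℕ × ℕ) × List (ℕ × ℕ) × List Inst) := [
  ([(0, 1), (2, 3)], [(0, 1), (90, 16), (155, 16)], []),
  ([(0, 2), (1, 3)], [(0, 2), (90, 4), (155, 3)], []),
  ([(4, 5), (6, 7)], [(0, 3), (90, 2), (155, 2)], []),
  ([(4, 7), (5, 6)], [(0, 16), (90, 7), (155, 1)], []),
  ([(0, 5), (1, 4), (2, 6), (3, 7)], [(0, 21), (90, 53), (155, 61)], []),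
  ([(0, 1), (4, 5)], [(0, 6), (155, 16), (90, 16)], []),
  ([(0, 1), (1, 2), (4, 6), (5, 6)], [(90, 32), (155, 20), (0, 19)], [])]

theorem c_yb : fixOK cSpec 2 [] (cSeeds.getD 1 []) cYbFix = true := by decide +kernel

/-- Invariance data. -/
def cFix2 : List (List (ℕ × ℕ) × List (ℕ × ℕ) × List Inst) := [
  ([(0, 1), (1, 2)], [(1, 0), (3, 0), (0, 0), (45, 0), (70, 0), (73, 0), (75, 0), (114, 0), (72, 3), (42, 3), (120, 0), (25, 0), (173, 0), (44, 0), (69, 0)], []),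
  ([(0, 1), (1, 2), (2, 3), (3, 4)], [(25, 5), (73, 5), (69, 10), (114, 0), (0, 19), (72, 4), (44, 3), (120, 4), (3, 41), (1, 17), (45, 4), (42, 0), (75, 4), (173, 16), (70, 16)], [])]

theorem c_fix2 :
    fixOK cSpec 2 [] (cSeeds.getD 2 []) cFix2 = true ∧
      cFix2.map Prod.fst = famA5n := by decide +kernel

/-- Invariance data. -/
def cFix3 : List (List (ℕ × ℕ) × List (ℕ × ℕ) × List Inst) := [
  ([(0, 1), (1, 2), (2, 3), (3, 4)], [(73, 5), (31, 0), (110, 44), (17, 18), (6, 18), (161, 19), (102, 53), (72, 4), (44, 3), (1, 17), (45, 4), (18, 53), (37, 14), (30, 14), (160, 6)], []),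
  ([(0, 5), (1, 4)], [(30, 9), (110, 51), (161, 61), (44, 30), (1, 9), (31, 1), (72, 61), (18, 35), (160, 20), (37, 61), (73, 18), (102, 29), (6, 56), (45, 23), (17, 61)], [])]

theorem c_fix3 :
    fixOK cSpec 2 [] (cSeeds.getD 3 []) cFix3 = true ∧
      cFix3.map Prod.fst = famA5t := by decide +kernel

/-- A part of a certificate. -/
def cLiftCert00 : List Inst := [
  ⟨[(0, 4), (1, 5), (2, 7), (3, 7), (5, 7), (6, 7)], 1, 1, [(225, 0), (235, 25), (311, 14)]⟩,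
  ⟨[(0, 5), (1, 3), (2, 3), (3, 6), (4, 7), (5, 6)], 0, 1, [(81, 0), (258, 15), (259, 19)]⟩,
  ⟨[(0, 5), (1, 2), (2, 7), (3, 5), (4, 7), (6, 7)], 1, 1, [(170, 0), (279, 9), (179, 54)]⟩,
  ⟨[(1, 2), (2, 5), (3, 6), (4, 7)], 0, 1, [(38, 0), (310, 28), (270, 13)]⟩,
  ⟨[(0, 4), (1, 4), (2, 6), (3, 7), (5, 6), (6, 7)], 1, 1, [(40, 0), (260, 17), (188, 38)]⟩,
  ⟨[(0, 4), (1, 3), (2, 6), (3, 7), (4, 7), (5, 7)], 1, 1, [(107, 0), (194, 17), (209, 44)]⟩,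
  ⟨[(0, 5), (2, 7), (3, 7), (4, 5), (5, 7), (6, 7)], 0, 1, [(112, 0), (158, 32), (176, 30)]⟩,
  ⟨[(0, 6), (1, 4), (2, 4), (3, 4), (4, 6), (5, 6)], 1, 1, [(231, 0), (278, 22), (264, 19)]⟩,
  ⟨[(0, 1), (1, 3), (2, 4), (3, 5), (4, 6), (5, 7)], 0, 1, [(12, 0), (238, 36), (240, 23)]⟩,
  ⟨[(2, 4), (3, 5), (4, 6), (5, 7)], 0, 1, [(21, 0), (293, 36), (205, 13)]⟩,
  ⟨[(0, 7), (1, 5), (2, 3), (4, 7), (5, 7), (6, 7)], 0, 1, [(263, 0), (284, 30), (280, 14)]⟩,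
  ⟨[(0, 2), (1, 3), (2, 5), (3, 6), (4, 7), (5, 6)], 1, 1, [(62, 0), (131, 17), (253, 38)]⟩,
  ⟨[(2, 4), (3, 5), (4, 6), (5, 7)], 1, 1, [(21, 0), (307, 0), (122, 38)]⟩,
  ⟨[(0, 2), (1, 2)], 1, 1, [(3, 0), (206, 3), (99, 4)]⟩,
  ⟨[(0, 5), (1, 4), (2, 7), (3, 7), (4, 5), (6, 7)], 1, 1, [(226, 0), (296, 49), (232, 36)]⟩,
  ⟨[(0, 1), (1, 6), (2, 4), (3, 7), (5, 6), (6, 7)], 0, 1, [(96, 0), (116, 28), (102, 53)]⟩,
  ⟨[(0, 6), (1, 4), (2, 4), (3, 4)], 0, 1, [(166, 0), (278, 12), (299, 22)]⟩,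
  ⟨[(1, 5), (2, 3), (3, 6), (4, 7)], 0, 1, [(32, 0), (123, 15), (104, 19)]⟩,
  ⟨[(0, 1), (1, 2)], 0, 1, [(1, 0), (155, 4), (206, 4)]⟩,
  ⟨[(0, 4), (1, 6), (2, 3), (3, 7), (4, 6), (5, 7)], 1, 1, [(146, 0), (149, 17), (161, 19)]⟩,
  ⟨[(0, 1), (1, 2), (2, 4), (3, 5), (4, 6), (5, 7)], 1, 1, [(37, 0), (255, 30), (185, 38)]⟩,
  ⟨[(0, 3), (1, 2), (2, 5), (3, 6), (4, 7), (5, 6)], 0, 1, [(64, 0), (253, 7), (91, 19)]⟩,
  ⟨[(0, 4), (2, 6), (3, 7), (4, 6), (5, 6), (6, 7)], 0, 1, [(66, 0), (200, 52), (71, 55)]⟩,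
  ⟨[(0, 2), (1, 2), (2, 4), (3, 5), (4, 6), (5, 7)], 1, 1, [(11, 0), (271, 0), (74, 38)]⟩,
  ⟨[(0, 4), (1, 3), (2, 6), (3, 7), (4, 7), (5, 7)], 0, 1, [(107, 0), (261, 21), (146, 19)]⟩,
  ⟨[(0, 3), (1, 3), (3, 4), (4, 5), (5, 6), (6, 7)], 1, 1, [(7, 0), (87, 12), (114, 40)]⟩,
  ⟨[(0, 3), (1, 4), (2, 6), (3, 7), (4, 6), (5, 7)], 0, 1, [(161, 0), (197, 21), (194, 44)]⟩,
  ⟨[(0, 5), (1, 3), (2, 7), (3, 7), (4, 5), (6, 7)], 0, 1, [(165, 0), (304, 52), (229, 56)]⟩,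
  ⟨[(1, 3), (2, 3), (3, 4), (4, 5), (5, 6), (6, 7)], 0, 1, [(8, 0), (44, 15), (141, 13)]⟩,
  ⟨[(0, 1), (1, 6), (2, 4), (3, 4)], 0, 1, [(264, 0), (285, 30), (281, 44)]⟩,
  ⟨[(0, 5), (1, 3), (2, 5), (3, 6), (4, 7), (5, 6)], 1, 1, [(48, 0), (104, 17), (294, 40)]⟩,
  ⟨[(0, 5), (1, 5), (2, 7), (3, 7), (4, 7), (6, 7)], 0, 1, [(168, 0), (302, 52), (179, 55)]⟩,
  ⟨[(0, 3), (2, 3), (3, 4), (4, 5), (5, 6), (6, 7)], 0, 1, [(14, 0), (75, 15), (207, 16)]⟩,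
  ⟨[(0, 1), (2, 5), (3, 6), (4, 7)], 1, 1, [(63, 0), (236, 0), (254, 38)]⟩,
  ⟨[(0, 6), (1, 7), (2, 4), (3, 7), (5, 7), (6, 7)], 1, 1, [(102, 0), (200, 60), (119, 37)]⟩,
  ⟨[(0, 5), (2, 5), (3, 6), (4, 7)], 0, 1, [(129, 0), (287, 4), (236, 16)]⟩,
  ⟨[(0, 6), (1, 2), (4, 6), (5, 6)], 0, 1, [(171, 0), (222, 32), (242, 30)]⟩,
  ⟨[(0, 6), (1, 3), (2, 3), (5, 6)], 1, 1, [(169, 0), (268, 55), (242, 52)]⟩,
  ⟨[(2, 6), (3, 6), (4, 6), (5, 6)], 1, 1, [(153, 0), (298, 32), (228, 19)]⟩,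
  ⟨[(0, 4), (2, 3), (3, 5), (4, 6), (5, 7), (6, 7)], 0, 1, [(28, 0), (125, 15), (252, 20)]⟩,
  ⟨[(0, 4), (3, 5), (4, 6), (5, 7)], 0, 1, [(79, 0), (93, 7), (255, 28)]⟩,
  ⟨[(0, 2), (1, 6), (2, 4), (3, 7), (4, 6), (5, 7)], 1, 1, [(95, 0), (181, 21), (157, 10)]⟩,
  ⟨[(0, 5), (1, 7), (2, 4), (3, 7), (5, 7), (6, 7)], 1, 1, [(210, 0), (212, 17), (224, 19)]⟩,
  ⟨[(0, 5), (1, 5), (3, 6), (4, 7)], 0, 1, [(80, 0), (257, 15), (312, 16)]⟩,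
  ⟨[(0, 5), (2, 4), (3, 6), (4, 7), (5, 7), (6, 7)], 0, 1, [(50, 0), (191, 15), (100, 54)]⟩,
  ⟨[(0, 1), (1, 3), (3, 4), (4, 5), (5, 6), (6, 7)], 0, 1, [(16, 0), (73, 15), (51, 13)]⟩,
  ⟨[(0, 6), (1, 3), (2, 3), (5, 6)], 0, 1, [(169, 0), (303, 52), (180, 55)]⟩,
  ⟨[(0, 1), (2, 3), (3, 4), (4, 5), (5, 6), (6, 7)], 1, 1, [(5, 0), (207, 0), (44, 38)]⟩,
  ⟨[(0, 4), (1, 4), (2, 4), (3, 5), (4, 6), (5, 7)], 1, 1, [(47, 0), (211, 8), (293, 40)]⟩,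
  ⟨[(0, 5), (1, 3), (2, 5), (3, 6), (4, 7), (5, 6)], 0, 1, [(48, 0), (190, 15), (193, 19)]⟩,
  ⟨[(0, 6), (5, 6)], 0, 1, [(249, 0), (283, 10), (268, 54)]⟩,
  ⟨[(1, 2), (2, 3), (3, 4), (4, 5), (5, 6), (6, 7)], 0, 1, [(2, 0), (114, 36), (203, 13)]⟩,
  ⟨[(0, 2), (1, 4), (2, 5), (3, 6), (4, 7), (6, 7)], 0, 1, [(43, 0), (282, 18), (49, 54)]⟩,
  ⟨[(0, 3), (2, 5), (3, 6), (4, 7)], 1, 1, [(39, 0), (259, 17), (187, 38)]⟩,
  ⟨[(0, 2), (1, 4), (2, 3), (3, 5), (4, 6), (5, 7)], 1, 1, [(30, 0), (204, 12), (46, 38)]⟩,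
  ⟨[(0, 3), (1, 5), (3, 6), (4, 7)], 1, 1, [(91, 0), (94, 17), (148, 25)]⟩,
  ⟨[(0, 3), (2, 5), (3, 6), (4, 7)], 0, 1, [(39, 0), (309, 28), (208, 19)]⟩,
  ⟨[(0, 3), (1, 4), (2, 4), (3, 5), (4, 6), (5, 7)], 1, 1, [(18, 0), (240, 6), (125, 38)]⟩,
  ⟨[(0, 6), (1, 6), (2, 6), (3, 6), (4, 6), (5, 6)], 1, 1, [(113, 0), (314, 54), (290, 41)]⟩,
  ⟨[(0, 3), (2, 3), (3, 4), (4, 5), (5, 6), (6, 7)], 1, 1, [(14, 0), (141, 12), (173, 40)]⟩]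

/-- A part of a certificate. -/
def cLiftCert01 : List Inst := [
  ⟨[(0, 4), (3, 5), (4, 6), (5, 7)], 1, 1, [(79, 0), (130, 29), (313, 40)]⟩,
  ⟨[(0, 5), (1, 2), (3, 6), (4, 7)], 0, 1, [(195, 0), (227, 52), (292, 16)]⟩,
  ⟨[(1, 5), (2, 6), (3, 7), (4, 5), (5, 6), (6, 7)], 0, 1, [(25, 0), (26, 18), (135, 54)]⟩,
  ⟨[(0, 5), (1, 3), (2, 7), (4, 5), (5, 7), (6, 7)], 1, 1, [(167, 0), (266, 55), (198, 19)]⟩,
  ⟨[(0, 4), (1, 5), (2, 4), (3, 6), (4, 7), (6, 7)], 0, 1, [(19, 0), (251, 15), (41, 54)]⟩,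
  ⟨[(0, 3), (1, 2), (2, 4), (3, 5), (4, 6), (5, 7)], 0, 1, [(20, 0), (115, 36), (204, 13)]⟩,
  ⟨[(0, 5), (1, 7), (2, 4), (3, 4), (4, 5), (6, 7)], 1, 1, [(273, 0), (275, 17), (286, 9)]⟩,
  ⟨[(0, 3), (1, 4), (3, 5), (4, 6), (5, 7), (6, 7)], 0, 1, [(33, 0), (199, 3), (46, 20)]⟩,
  ⟨[(0, 4), (1, 5), (2, 3), (3, 6), (4, 7), (6, 7)], 0, 1, [(57, 0), (89, 47), (78, 20)]⟩,
  ⟨[(0, 5), (1, 2), (2, 3), (3, 6), (4, 7), (5, 6)], 0, 1, [(128, 0), (148, 7), (131, 19)]⟩,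
  ⟨[(0, 5), (1, 2), (2, 7), (3, 7), (4, 7), (6, 7)], 1, 1, [(111, 0), (202, 55), (176, 52)]⟩,
  ⟨[(0, 1), (1, 5), (3, 6), (4, 7)], 1, 1, [(147, 0), (308, 51), (227, 28)]⟩,
  ⟨[(0, 5), (1, 5), (2, 7), (3, 7), (4, 7), (6, 7)], 1, 1, [(168, 0), (267, 55), (241, 52)]⟩,
  ⟨[(2, 6), (3, 6), (4, 6), (5, 6)], 0, 1, [(153, 0), (290, 17), (288, 19)]⟩,
  ⟨[(0, 4), (1, 5), (2, 3), (3, 6), (4, 7), (6, 7)], 1, 1, [(57, 0), (142, 17), (61, 61)]⟩,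
  ⟨[(1, 7), (2, 5), (3, 7), (4, 5), (5, 7), (6, 7)], 1, 1, [(97, 0), (243, 32), (164, 19)]⟩,
  ⟨[(0, 4), (1, 2), (2, 6), (3, 7), (4, 6), (5, 7)], 1, 1, [(65, 0), (152, 42), (117, 52)]⟩,
  ⟨[(0, 3), (1, 2), (2, 5), (3, 6), (4, 7), (5, 6)], 1, 1, [(64, 0), (128, 17), (256, 38)]⟩,
  ⟨[(0, 3), (1, 5), (2, 4), (3, 6), (4, 7), (6, 7)], 0, 1, [(52, 0), (154, 47), (61, 54)]⟩,
  ⟨[(0, 1), (1, 5), (2, 3), (3, 6), (4, 7), (5, 6)], 0, 1, [(55, 0), (187, 15), (159, 19)]⟩,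
  ⟨[(0, 5), (1, 4), (2, 7), (3, 4), (4, 7), (6, 7)], 0, 1, [(163, 0), (297, 40), (210, 19)]⟩,
  ⟨[(0, 1), (1, 4), (2, 4), (3, 5), (4, 6), (5, 7)], 1, 1, [(31, 0), (205, 12), (189, 38)]⟩,
  ⟨[(0, 2), (1, 2)], 0, 1, [(3, 0), (218, 3), (90, 16)]⟩,
  ⟨[(0, 1), (1, 2)], 1, 1, [(1, 0), (143, 16), (218, 16)]⟩,
  ⟨[(0, 2), (1, 4), (2, 5), (3, 6), (4, 7), (5, 7)], 1, 1, [(23, 0), (282, 2), (85, 37)]⟩,
  ⟨[(0, 5), (1, 5), (2, 4), (3, 6), (4, 7), (6, 7)], 1, 1, [(29, 0), (41, 53), (239, 40)]⟩,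
  ⟨[(0, 6), (1, 5), (2, 7), (3, 7), (4, 6), (5, 6)], 2, 1, [(14, 44), (86, 13), (44, 25), (248, 26), (135, 61), (310, 26), (12, 22), (170, 60), (69, 62), (16, 2), (168, 51), (257, 23), (125, 51), (127, 47), (186, 23)]⟩,
  ⟨[(1, 5), (2, 6), (3, 7), (4, 6), (5, 7), (6, 7)], 2, 1, [(73, 0), (26, 32), (139, 0), (8, 0), (274, 9), (241, 57), (250, 47), (207, 53), (312, 4), (270, 12), (173, 54), (279, 36), (28, 7), (240, 56), (302, 59)]⟩,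
  ⟨[(0, 5), (5, 6)], 3, 1, [(82, 32), (142, 6), (60, 6), (267, 55), (301, 17), (68, 3), (166, 38), (127, 29), (204, 25), (313, 33), (26, 32), (64, 28), (259, 26), (268, 30), (195, 39)]⟩,
  ⟨[(0, 1), (1, 5), (2, 6), (3, 7), (4, 6), (6, 7)], 2, 1, [(45, 0), (2, 32), (87, 0), (5, 0), (106, 19), (118, 14), (184, 47), (141, 44), (195, 41), (147, 17), (75, 44), (202, 14), (9, 43), (174, 56), (158, 35)]⟩,
  ⟨[(0, 4), (1, 4), (2, 6), (3, 7), (5, 6), (6, 7)], 3, 1, [(56, 0), (123, 0), (215, 0), (52, 53), (175, 23), (72, 10), (288, 0), (131, 24), (119, 21), (165, 36), (30, 18), (110, 58), (81, 40), (240, 52), (167, 40)]⟩,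
  ⟨[(0, 6), (1, 5), (2, 5), (3, 5), (4, 5), (5, 6)], 3, 1, [(276, 0), (297, 33), (275, 26), (137, 17), (155, 19), (123, 10), (201, 39), (253, 12), (242, 32), (258, 13), (56, 18), (288, 37), (257, 48), (149, 23), (234, 40)]⟩,
  ⟨[(0, 4), (1, 2), (2, 6), (3, 7), (4, 6), (5, 7)], 3, 1, [(95, 0), (186, 0), (279, 0), (29, 17), (140, 13), (25, 10), (303, 3), (193, 24), (71, 32), (245, 37), (9, 18), (105, 37), (236, 62), (293, 52), (67, 40)]⟩,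
  ⟨[(0, 5), (3, 4), (4, 5), (5, 6)], 3, 1, [(130, 32), (239, 10), (270, 46), (214, 42), (216, 42), (305, 14), (228, 38), (307, 1), (271, 27), (209, 4), (103, 4), (192, 29), (300, 22), (278, 2), (308, 41)]⟩,
  ⟨[(1, 5), (2, 5), (3, 5), (4, 5)], 2, 1, [(105, 14), (161, 26), (107, 32), (108, 23), (157, 45), (156, 45), (0, 21), (160, 16), (110, 6), (65, 23), (40, 18), (102, 48), (1, 42), (3, 21), (66, 6)]⟩,
  ⟨[(0, 6), (3, 6)], 3, 1, [(228, 2), (239, 14), (295, 14), (205, 17), (140, 17), (191, 10), (130, 19), (280, 27), (266, 33), (245, 32), (101, 18), (274, 0), (236, 25), (197, 0), (292, 40)]⟩,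
  ⟨[(0, 5), (1, 2), (2, 7), (3, 7), (4, 7), (6, 7)], 3, 1, [(112, 22), (117, 57), (166, 28), (143, 53), (295, 23), (71, 5), (50, 30), (82, 24), (247, 21), (280, 47), (29, 0), (67, 58), (197, 40), (142, 23), (248, 21)]⟩,
  ⟨[(0, 7), (1, 6), (2, 6), (4, 7)], 2, 1, [(27, 44), (140, 13), (74, 25), (273, 27), (199, 61), (313, 47), (23, 22), (235, 60), (115, 62), (30, 2), (232, 51), (53, 12), (43, 45), (192, 47), (255, 23)]⟩,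
  ⟨[(0, 6), (1, 7), (2, 6), (3, 7), (4, 6), (5, 7)], 3, 1, [(88, 0), (180, 0), (224, 26), (239, 36), (3, 18), (189, 38), (100, 53), (76, 44), (228, 47), (12, 3), (98, 48), (226, 1), (11, 0), (34, 43), (130, 17)]⟩,
  ⟨[(0, 3), (1, 5), (2, 6), (3, 7), (4, 5), (5, 7)], 2, 1, [(72, 0), (103, 0), (138, 0), (7, 0), (159, 19), (198, 47), (74, 47), (203, 44), (259, 41), (208, 17), (120, 44), (109, 47), (27, 7), (140, 47), (151, 60)]⟩,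
  ⟨[(0, 6), (1, 5), (2, 7), (3, 5), (4, 7), (5, 7)], 2, 1, [(7, 44), (203, 13), (120, 25), (182, 26), (207, 60), (276, 26), (6, 22), (112, 60), (173, 62), (8, 2), (111, 51), (227, 26), (76, 51), (77, 47), (291, 31)]⟩,
  ⟨[(0, 2), (1, 4), (2, 5), (3, 6), (4, 7), (6, 7)], 2, 1, [(43, 0), (60, 0), (85, 0), (3, 0), (286, 2), (132, 47), (44, 47), (143, 60), (311, 10), (232, 0), (155, 14), (65, 47), (14, 7), (86, 47), (95, 60)]⟩,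
  ⟨[(0, 2), (1, 2)], 3, 1, [(0, 0), (20, 18), (53, 0), (9, 0), (28, 18), (17, 0), (21, 0), (120, 0), (25, 0), (70, 3), (44, 0), (160, 36), (66, 0), (157, 43), (105, 0)]⟩,
  ⟨[(0, 5), (1, 6), (2, 6), (3, 6), (4, 6), (5, 6)], 2, 1, [(106, 38), (195, 45), (147, 31), (180, 10), (208, 59), (131, 59), (188, 21), (268, 28), (259, 39), (159, 59), (222, 10), (64, 58), (82, 0), (177, 9), (94, 39)]⟩,
  ⟨[(0, 2), (1, 3), (3, 4), (4, 5), (5, 6), (6, 7)], 3, 1, [(7, 0), (23, 0), (54, 0), (57, 0), (29, 18), (91, 0), (22, 0), (121, 0), (124, 0), (71, 3), (183, 0), (220, 0), (67, 0), (158, 43), (163, 6)]⟩,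
  ⟨[(0, 4), (1, 6), (2, 7), (3, 7), (5, 7), (6, 7)], 3, 1, [(157, 0), (120, 47), (292, 22), (212, 54), (134, 53), (202, 39), (53, 41), (266, 38), (309, 34), (188, 12), (238, 44), (129, 0), (97, 4), (205, 30), (261, 55)]⟩,
  ⟨[(1, 2), (2, 3), (3, 4), (4, 6), (5, 7), (6, 7)], 2, 1, [(45, 44), (114, 54), (120, 44), (97, 0), (262, 18), (151, 0), (112, 22), (301, 18), (297, 62), (212, 0), (213, 0), (216, 0), (202, 7), (265, 24), (266, 7)]⟩,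
  ⟨[(0, 5), (1, 3), (2, 5), (3, 6), (4, 7), (5, 6)], 3, 1, [(22, 0), (7, 19), (243, 29), (27, 32), (199, 18), (151, 0), (23, 14), (138, 21), (69, 10), (264, 1), (255, 0), (306, 4), (208, 17), (235, 35), (65, 38)]⟩,
  ⟨[(1, 6), (2, 7), (3, 6), (4, 6), (5, 6), (6, 7)], 3, 1, [(33, 5), (75, 5), (291, 22), (170, 32), (312, 0), (219, 59), (107, 38), (296, 57), (85, 7), (269, 19), (237, 54), (128, 18), (304, 48), (200, 30), (177, 54)]⟩,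
  ⟨[(0, 5), (1, 6), (2, 6), (3, 5), (4, 6), (5, 6)], 2, 1, [(305, 19), (236, 58), (306, 53), (290, 42), (308, 42), (312, 38), (209, 20), (228, 42), (292, 36), (289, 21), (277, 21), (274, 45), (197, 0), (146, 23), (270, 11)]⟩,
  ⟨[(1, 4), (2, 5), (3, 6), (4, 7)], 2, 1, [(41, 0), (58, 0), (83, 0), (3, 1), (268, 1), (177, 57), (69, 39), (143, 57), (303, 1), (171, 11), (155, 26), (160, 26), (16, 7), (135, 39), (260, 50)]⟩,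
  ⟨[(0, 5), (1, 6), (2, 6), (3, 6)], 3, 1, [(308, 0), (271, 59), (211, 61), (151, 53), (101, 61), (251, 26), (214, 26), (282, 31), (255, 21), (191, 34), (285, 10), (146, 2), (274, 13), (277, 44), (306, 29)]⟩,
  ⟨[(1, 2), (2, 3), (3, 4), (4, 5), (5, 7), (6, 7)], 2, 1, [(87, 44), (144, 53), (203, 44), (88, 1), (137, 1), (140, 1), (77, 22), (199, 1), (200, 1), (96, 2), (204, 1), (196, 15), (184, 43), (175, 43), (271, 7)]⟩,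
  ⟨[(1, 6), (6, 7)], 3, 1, [(224, 26), (76, 44), (237, 54), (36, 1), (115, 54), (29, 7), (34, 43), (219, 45), (2, 21), (109, 23), (67, 18), (71, 2), (48, 61), (128, 56), (38, 35)]⟩,
  ⟨[(0, 6), (1, 5), (2, 7), (3, 7), (4, 7), (5, 7)], 2, 1, [(5, 44), (141, 13), (75, 25), (229, 21), (138, 58), (253, 8), (21, 22), (280, 42), (72, 59), (103, 57), (230, 51), (148, 23), (189, 51), (211, 50), (256, 23)]⟩,
  ⟨[(1, 3), (2, 5), (3, 6), (4, 7)], 2, 1, [(104, 0), (145, 0), (193, 0), (70, 10), (215, 36), (185, 60), (73, 21), (136, 28), (278, 61), (281, 15), (101, 10), (79, 25), (26, 0), (139, 21), (269, 62)]⟩,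
  ⟨[(0, 5), (1, 3), (2, 5), (3, 4), (4, 6), (6, 7)], 2, 1, [(183, 47), (76, 32), (174, 47), (111, 0), (22, 60), (36, 47), (29, 47), (158, 2), (32, 60), (48, 47), (219, 12), (52, 47), (13, 60), (19, 47), (57, 35)]⟩,
  ⟨[(0, 1), (1, 5), (2, 6), (3, 7), (4, 6), (6, 7)], 3, 1, [(2, 32), (36, 21), (113, 2), (221, 0), (252, 18), (107, 47), (38, 38), (118, 14), (184, 47), (147, 17), (75, 44), (33, 0), (213, 56), (51, 19), (92, 41)]⟩,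
  ⟨[(0, 1), (2, 7), (3, 7), (4, 7), (5, 7), (6, 7)], 3, 1, [(78, 0), (10, 18), (257, 38), (4, 0), (305, 18), (8, 0), (106, 44), (155, 48), (13, 0), (192, 41), (24, 0), (104, 36), (103, 2), (258, 41), (62, 0)]⟩,
  ⟨[(0, 2), (2, 3), (4, 6), (5, 7)], 2, 1, [(1, 9), (3, 13), (0, 25), (286, 60), (268, 61), (277, 35), (162, 22), (226, 24), (180, 62), (222, 60), (225, 22), (228, 56), (224, 43), (163, 7), (290, 37)]⟩]

/-- A part of a certificate. -/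
def cLiftCert02 : List Inst := [
  ⟨[(0, 3), (1, 7), (5, 7), (6, 7)], 2, 1, [(191, 0), (24, 32), (68, 47), (39, 0), (63, 18), (106, 0), (4, 14), (159, 18), (287, 60), (305, 47), (258, 44), (289, 45), (2, 35), (7, 14), (227, 7)]⟩,
  ⟨[(0, 6), (1, 3), (2, 5), (3, 7), (4, 7), (5, 6)], 3, 1, [(72, 0), (30, 5), (236, 58), (23, 5), (301, 2), (232, 22), (110, 39), (140, 47), (7, 0), (259, 19), (198, 47), (135, 61), (313, 47), (245, 16), (22, 19)]⟩,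
  ⟨[(0, 1), (1, 2), (2, 4), (4, 5)], 3, 1, [(69, 47), (65, 54), (47, 2), (66, 37), (6, 36), (107, 37), (27, 1), (108, 0), (28, 14), (37, 47), (33, 47), (75, 40), (1, 42), (114, 0), (70, 4)]⟩,
  ⟨[(0, 6), (1, 5), (2, 5), (4, 6)], 2, 1, [(258, 62), (309, 0), (187, 59), (201, 38), (254, 22), (123, 12), (296, 32), (152, 23), (234, 49), (287, 1), (95, 18), (190, 34), (311, 33), (275, 34), (294, 13)]⟩,
  ⟨[(2, 4), (3, 5), (4, 6), (5, 7)], 3, 1, [(31, 0), (73, 0), (150, 0), (4, 53), (206, 4), (88, 7), (102, 43), (254, 0), (13, 21), (229, 23), (100, 10), (180, 2), (133, 61), (262, 56), (62, 34)]⟩,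
  ⟨[(1, 6), (2, 6), (3, 6), (4, 6)], 2, 1, [(288, 0), (298, 29), (314, 43), (242, 10), (296, 10), (297, 10), (218, 18), (303, 28), (275, 22), (311, 8), (283, 10), (262, 25), (99, 18), (155, 23), (212, 22)]⟩,
  ⟨[(0, 4), (4, 5)], 3, 1, [(25, 32), (9, 1), (11, 2), (110, 58), (156, 60), (47, 2), (105, 54), (12, 14), (30, 14), (79, 47), (108, 0), (114, 36), (173, 20), (3, 19), (72, 4)]⟩,
  ⟨[(1, 4), (2, 5), (3, 6), (4, 7), (5, 7), (6, 7)], 3, 1, [(19, 0), (46, 0), (97, 0), (102, 0), (144, 0), (148, 0), (162, 0), (188, 0), (73, 47), (249, 0), (218, 10), (287, 0), (263, 29), (134, 30), (31, 41)]⟩,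
  ⟨[(0, 2), (1, 6), (2, 7), (3, 6), (4, 6), (5, 7)], 3, 1, [(6, 32), (1, 1), (100, 60), (286, 0), (282, 2), (163, 47), (37, 54), (180, 14), (58, 43), (211, 17), (124, 44), (57, 0), (277, 56), (88, 19), (125, 44)]⟩,
  ⟨[(0, 2), (1, 7), (2, 5), (3, 7), (4, 7), (6, 7)], 3, 1, [(182, 1), (90, 42), (71, 5), (85, 37), (181, 26), (300, 20), (231, 50), (29, 0), (177, 13), (230, 19), (216, 44), (209, 16), (89, 3), (67, 19), (170, 5)]⟩,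
  ⟨[(0, 6), (1, 5), (2, 7), (3, 5), (4, 5), (6, 7)], 2, 1, [(2, 44), (87, 13), (45, 25), (247, 26), (136, 61), (309, 26), (11, 22), (216, 51), (70, 62), (101, 60), (167, 51), (258, 23), (124, 51), (196, 60), (187, 23)]⟩,
  ⟨[(0, 3), (1, 4), (2, 6), (3, 7), (4, 6), (5, 7)], 3, 1, [(209, 0), (300, 0), (262, 52), (55, 53), (252, 20), (120, 26), (216, 59), (254, 60), (122, 21), (213, 8), (157, 10), (53, 2), (147, 13), (150, 44), (265, 13)]⟩,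
  ⟨[], 3, 1, [(1, 0), (6, 0), (17, 0), (18, 0), (30, 0), (31, 0), (37, 0), (44, 0), (45, 0), (72, 0), (73, 0), (102, 0), (110, 0), (160, 0), (161, 0)]⟩,
  ⟨[(0, 5), (1, 2), (2, 4), (3, 5), (4, 6), (6, 7)], 2, 1, [(237, 39), (74, 32), (124, 39), (109, 0), (23, 60), (38, 47), (19, 14), (167, 3), (34, 60), (49, 47), (220, 12), (54, 47), (13, 35), (29, 14), (80, 60)]⟩,
  ⟨[(0, 7), (1, 6), (3, 7), (4, 7), (5, 7), (6, 7)], 3, 1, [(252, 18), (147, 17), (306, 12), (112, 53), (114, 32), (261, 33), (213, 61), (255, 12), (50, 22), (47, 1), (212, 18), (309, 11), (108, 52), (151, 23), (117, 41)]⟩,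
  ⟨[(0, 7), (2, 7), (4, 5), (5, 6)], 2, 1, [(23, 54), (192, 38), (43, 44), (110, 22), (243, 51), (198, 59), (264, 4), (65, 43), (301, 39), (223, 59), (157, 18), (109, 58), (299, 51), (245, 9), (151, 39)]⟩,
  ⟨[(0, 5), (1, 2), (2, 3), (3, 4), (4, 6), (6, 7)], 2, 1, [(121, 47), (46, 32), (115, 47), (67, 0), (62, 60), (23, 14), (52, 14), (223, 18), (91, 60), (128, 47), (164, 0), (49, 14), (36, 35), (57, 47), (34, 35)]⟩,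
  ⟨[(1, 5), (2, 7), (3, 5), (4, 7), (5, 7), (6, 7)], 3, 1, [(243, 29), (138, 21), (309, 55), (93, 53), (193, 19), (237, 14), (235, 35), (261, 49), (154, 18), (279, 8), (219, 10), (128, 36), (293, 48), (212, 44), (222, 31)]⟩,
  ⟨[(0, 5), (1, 3), (2, 7), (4, 5), (5, 7), (6, 7)], 3, 1, [(216, 0), (209, 26), (168, 4), (206, 53), (142, 19), (116, 5), (300, 31), (132, 24), (133, 42), (166, 36), (49, 0), (111, 58), (82, 40), (83, 4), (229, 60)]⟩,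
  ⟨[(1, 3), (2, 3), (3, 4), (4, 5), (5, 6), (6, 7)], 3, 1, [(14, 0), (41, 0), (92, 0), (98, 0), (50, 18), (145, 0), (39, 0), (184, 0), (189, 0), (117, 3), (250, 0), (284, 0), (112, 0), (221, 43), (226, 6)]⟩]

/-- A certificate. -/
def cLiftCert0 : List Inst := cLiftCert00 ++ cLiftCert01 ++ cLiftCert02

/-- A part of a certificate. -/
def cLiftCert10 : List Inst := [
  ⟨[(0, 7), (1, 5), (2, 7), (3, 5), (4, 7), (6, 7)], 0, 1, [(133, 0), (164, 5), (301, 19)]⟩,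
  ⟨[(0, 4), (2, 3), (3, 5), (4, 6), (5, 7), (6, 7)], 1, 1, [(28, 0), (127, 18), (238, 40)]⟩,
  ⟨[(0, 5), (1, 2), (2, 7), (3, 5), (4, 7), (6, 7)], 1, 1, [(170, 0), (279, 9), (179, 54)]⟩,
  ⟨[(0, 3), (1, 3), (3, 4), (4, 5), (5, 6), (6, 7)], 0, 1, [(7, 0), (45, 15), (144, 16)]⟩,
  ⟨[(0, 4), (1, 6), (2, 7), (3, 6), (4, 7), (5, 6)], 1, 1, [(71, 0), (156, 60), (96, 35)]⟩,
  ⟨[(1, 3), (2, 4), (3, 5), (4, 6), (5, 7), (6, 7)], 0, 1, [(6, 0), (174, 36), (175, 23)]⟩,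
  ⟨[(1, 4), (2, 5), (3, 6), (4, 7), (5, 7), (6, 7)], 1, 1, [(13, 0), (58, 53), (251, 38)]⟩,
  ⟨[(0, 3), (1, 5), (2, 6), (3, 7), (4, 5), (5, 6)], 1, 1, [(42, 0), (101, 60), (138, 37)]⟩,
  ⟨[(2, 4), (3, 5), (4, 6), (5, 7)], 0, 1, [(21, 0), (293, 36), (205, 13)]⟩,
  ⟨[(0, 4), (1, 4), (2, 6), (3, 7), (5, 6), (6, 7)], 0, 1, [(40, 0), (150, 5), (177, 55)]⟩,
  ⟨[(0, 7), (1, 5), (2, 3), (4, 7), (5, 7), (6, 7)], 0, 1, [(263, 0), (284, 30), (280, 14)]⟩,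
  ⟨[(0, 2), (1, 3), (2, 5), (3, 6), (4, 7), (5, 6)], 1, 1, [(62, 0), (131, 17), (253, 38)]⟩,
  ⟨[(1, 3), (2, 4), (3, 5), (4, 6), (5, 7), (6, 7)], 1, 1, [(6, 0), (184, 18), (183, 38)]⟩,
  ⟨[(0, 5), (1, 3), (2, 3), (3, 6), (4, 7), (5, 6)], 1, 1, [(81, 0), (159, 17), (309, 52)]⟩,
  ⟨[(2, 4), (3, 5), (4, 6), (5, 7)], 1, 1, [(21, 0), (307, 0), (122, 38)]⟩,
  ⟨[(0, 6), (1, 4), (3, 7), (5, 7)], 0, 1, [(132, 0), (157, 30), (152, 44)]⟩,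
  ⟨[(0, 5), (1, 4), (2, 7), (3, 7), (4, 5), (6, 7)], 0, 1, [(226, 0), (311, 62), (273, 19)]⟩,
  ⟨[(0, 2), (1, 2), (2, 4), (3, 5), (4, 6), (5, 7)], 0, 1, [(11, 0), (237, 36), (140, 13)]⟩,
  ⟨[(0, 5), (1, 4), (2, 7), (3, 4), (4, 7), (6, 7)], 1, 1, [(163, 0), (262, 17), (272, 44)]⟩,
  ⟨[(0, 4), (1, 6), (2, 3), (3, 7), (4, 6), (5, 7)], 1, 1, [(146, 0), (149, 17), (161, 19)]⟩,
  ⟨[(0, 1), (1, 2), (2, 4), (3, 5), (4, 6), (5, 7)], 1, 1, [(37, 0), (255, 30), (185, 38)]⟩,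
  ⟨[(0, 3), (1, 2), (2, 5), (3, 6), (4, 7), (5, 6)], 0, 1, [(64, 0), (253, 7), (91, 19)]⟩,
  ⟨[(0, 4), (2, 6), (3, 7), (4, 6), (5, 6), (6, 7)], 0, 1, [(66, 0), (200, 52), (71, 55)]⟩,
  ⟨[(0, 2), (1, 2), (2, 4), (3, 5), (4, 6), (5, 7)], 1, 1, [(11, 0), (271, 0), (74, 38)]⟩,
  ⟨[(0, 5), (1, 2), (2, 7), (3, 5), (4, 7), (6, 7)], 0, 1, [(170, 0), (221, 32), (241, 30)]⟩,
  ⟨[(0, 5), (1, 5), (2, 7), (3, 7), (4, 7), (6, 7)], 0, 1, [(168, 0), (302, 52), (179, 55)]⟩,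
  ⟨[(0, 3), (2, 3), (3, 4), (4, 5), (5, 6), (6, 7)], 0, 1, [(14, 0), (75, 15), (207, 16)]⟩,
  ⟨[(0, 5), (1, 6), (2, 3), (3, 7), (4, 6), (5, 7)], 1, 1, [(59, 0), (136, 60), (72, 37)]⟩,
  ⟨[(0, 4), (1, 5), (2, 5), (3, 6), (4, 7), (6, 7)], 1, 1, [(35, 0), (134, 53), (191, 38)]⟩,
  ⟨[(0, 1), (2, 5), (3, 6), (4, 7)], 1, 1, [(63, 0), (236, 0), (254, 38)]⟩,
  ⟨[(0, 5), (2, 5), (3, 6), (4, 7)], 0, 1, [(129, 0), (287, 4), (236, 16)]⟩,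
  ⟨[(0, 1), (1, 2), (2, 6), (6, 7)], 1, 1, [(222, 0), (303, 60), (249, 37)]⟩,
  ⟨[(0, 3), (1, 2), (3, 4), (4, 5), (5, 6), (6, 7)], 1, 1, [(26, 0), (51, 12), (69, 40)]⟩,
  ⟨[(0, 1), (2, 5), (3, 6), (4, 7)], 0, 1, [(63, 0), (234, 12), (306, 13)]⟩,
  ⟨[(0, 4), (2, 6), (3, 7), (4, 6), (5, 6), (6, 7)], 1, 1, [(66, 0), (137, 55), (116, 52)]⟩,
  ⟨[(0, 6), (1, 3), (2, 3), (5, 6)], 1, 1, [(169, 0), (268, 55), (242, 52)]⟩,
  ⟨[(0, 3), (1, 7), (2, 5), (3, 7), (4, 5), (6, 7)], 0, 1, [(151, 0), (178, 28), (167, 44)]⟩,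
  ⟨[(0, 4), (3, 5), (4, 6), (5, 7)], 0, 1, [(79, 0), (93, 7), (255, 28)]⟩,
  ⟨[(0, 2), (1, 6), (2, 4), (3, 7), (4, 6), (5, 7)], 1, 1, [(95, 0), (181, 21), (157, 10)]⟩,
  ⟨[(0, 5), (2, 4), (3, 6), (4, 7), (5, 7), (6, 7)], 0, 1, [(50, 0), (191, 15), (100, 54)]⟩,
  ⟨[(0, 1), (1, 3), (3, 4), (4, 5), (5, 6), (6, 7)], 0, 1, [(16, 0), (73, 15), (51, 13)]⟩,
  ⟨[(0, 6), (1, 3), (2, 3), (5, 6)], 0, 1, [(169, 0), (303, 52), (180, 55)]⟩,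
  ⟨[(0, 1), (2, 3), (3, 4), (4, 5), (5, 6), (6, 7)], 1, 1, [(5, 0), (207, 0), (44, 38)]⟩,
  ⟨[(0, 2), (1, 4), (2, 3), (3, 5), (4, 6), (5, 7)], 0, 1, [(30, 0), (121, 15), (88, 13)]⟩,
  ⟨[(0, 6), (1, 6), (2, 6), (3, 6), (4, 6), (5, 6)], 0, 1, [(113, 0), (277, 5), (298, 55)]⟩,
  ⟨[(0, 4), (1, 4), (2, 4), (3, 5), (4, 6), (5, 7)], 1, 1, [(47, 0), (211, 8), (293, 40)]⟩,
  ⟨[(0, 5), (1, 3), (2, 5), (3, 6), (4, 7), (5, 6)], 0, 1, [(48, 0), (190, 15), (193, 19)]⟩,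
  ⟨[(1, 2), (2, 3), (3, 4), (4, 5), (5, 6), (6, 7)], 0, 1, [(2, 0), (114, 36), (203, 13)]⟩,
  ⟨[(1, 5), (2, 5), (3, 6), (4, 7)], 1, 1, [(92, 0), (306, 12), (287, 0)]⟩,
  ⟨[(0, 5), (2, 7), (3, 7), (4, 5), (5, 7), (6, 7)], 1, 1, [(112, 0), (219, 28), (118, 54)]⟩,
  ⟨[(0, 4), (1, 5), (3, 6), (4, 7)], 0, 1, [(34, 0), (85, 14), (192, 20)]⟩,
  ⟨[(1, 6), (2, 4), (3, 7), (4, 6), (5, 6), (6, 7)], 0, 1, [(56, 0), (188, 15), (160, 19)]⟩,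
  ⟨[(0, 5), (2, 4), (3, 6), (4, 7), (5, 7), (6, 7)], 1, 1, [(50, 0), (68, 53), (217, 23)]⟩,
  ⟨[(0, 3), (2, 5), (3, 6), (4, 7)], 0, 1, [(39, 0), (309, 28), (208, 19)]⟩,
  ⟨[(0, 7), (1, 5), (2, 3), (3, 5), (4, 5), (6, 7)], 0, 1, [(198, 0), (220, 30), (216, 44)]⟩,
  ⟨[(0, 3), (1, 4), (2, 4), (3, 5), (4, 6), (5, 7)], 1, 1, [(18, 0), (240, 6), (125, 38)]⟩,
  ⟨[(0, 6), (1, 6), (2, 6), (3, 6), (4, 6), (5, 6)], 1, 1, [(113, 0), (314, 54), (290, 41)]⟩,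
  ⟨[(0, 3), (2, 3), (3, 4), (4, 5), (5, 6), (6, 7)], 1, 1, [(14, 0), (141, 12), (173, 40)]⟩,
  ⟨[(0, 3), (1, 7), (2, 5), (3, 5), (4, 5), (6, 7)], 0, 1, [(214, 0), (244, 28), (230, 44)]⟩,
  ⟨[(1, 2), (2, 5), (3, 6), (4, 7)], 1, 1, [(38, 0), (312, 0), (186, 38)]⟩]

/-- A part of a certificate. -/
def cLiftCert11 : List Inst := [
  ⟨[(0, 4), (1, 5), (2, 7), (3, 5), (4, 7), (6, 7)], 0, 1, [(162, 0), (272, 5), (212, 19)]⟩,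
  ⟨[(0, 3), (1, 4), (2, 6), (3, 7), (5, 6), (6, 7)], 1, 1, [(105, 0), (197, 17), (261, 19)]⟩,
  ⟨[(0, 3), (1, 2), (2, 4), (3, 5), (4, 6), (5, 7)], 0, 1, [(20, 0), (115, 36), (204, 13)]⟩,
  ⟨[(0, 2), (1, 5), (3, 6), (4, 7)], 0, 1, [(54, 0), (186, 15), (274, 9)]⟩,
  ⟨[(0, 4), (1, 5), (2, 3), (3, 6), (4, 7), (6, 7)], 0, 1, [(57, 0), (89, 47), (78, 20)]⟩,
  ⟨[(0, 4), (1, 4), (2, 3), (3, 5), (4, 6), (5, 7)], 0, 1, [(15, 0), (76, 15), (184, 20)]⟩,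
  ⟨[(0, 5), (1, 2), (2, 3), (3, 6), (4, 7), (5, 6)], 0, 1, [(128, 0), (148, 7), (131, 19)]⟩,
  ⟨[(0, 1), (1, 5), (3, 6), (4, 7)], 1, 1, [(147, 0), (308, 51), (227, 28)]⟩,
  ⟨[(0, 4), (2, 6), (3, 6), (4, 6)], 1, 1, [(215, 0), (299, 48), (285, 10)]⟩,
  ⟨[(0, 1), (1, 2), (2, 4), (3, 5), (4, 6), (5, 7)], 0, 1, [(37, 0), (313, 36), (269, 13)]⟩,
  ⟨[(1, 6), (2, 4), (3, 7), (4, 6), (5, 6), (6, 7)], 1, 1, [(56, 0), (177, 32), (108, 19)]⟩,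
  ⟨[(0, 5), (1, 5), (2, 7), (3, 7), (4, 7), (6, 7)], 1, 1, [(168, 0), (267, 55), (241, 52)]⟩,
  ⟨[(0, 2), (2, 3), (3, 4), (4, 5), (5, 6), (6, 7)], 0, 1, [(10, 0), (69, 36), (139, 13)]⟩,
  ⟨[(0, 1), (1, 4), (2, 4), (3, 5), (4, 6), (5, 7)], 0, 1, [(31, 0), (122, 15), (211, 9)]⟩,
  ⟨[(1, 7), (2, 5), (3, 7), (4, 5), (5, 7), (6, 7)], 1, 1, [(97, 0), (243, 32), (164, 19)]⟩,
  ⟨[(0, 4), (1, 2), (2, 6), (3, 7), (4, 6), (5, 7)], 1, 1, [(65, 0), (152, 42), (117, 52)]⟩,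
  ⟨[(0, 4), (1, 3), (2, 5), (3, 6), (4, 7), (5, 6)], 1, 1, [(36, 0), (89, 53), (154, 61)]⟩,
  ⟨[(0, 1), (1, 4), (2, 4), (3, 5), (4, 6), (5, 7)], 1, 1, [(31, 0), (205, 12), (189, 38)]⟩,
  ⟨[(0, 5), (1, 3), (2, 7), (3, 7), (4, 5), (6, 7)], 1, 1, [(165, 0), (280, 56), (244, 52)]⟩,
  ⟨[(0, 2), (1, 2)], 0, 1, [(3, 0), (218, 3), (90, 16)]⟩,
  ⟨[(0, 1), (1, 3), (3, 4), (4, 5), (5, 6), (6, 7)], 1, 1, [(16, 0), (139, 12), (25, 38)]⟩,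
  ⟨[(0, 4), (1, 5), (2, 7), (3, 5), (4, 7), (6, 7)], 1, 1, [(162, 0), (233, 38), (297, 7)]⟩,
  ⟨[(0, 6), (1, 5), (2, 7), (3, 7), (4, 6), (5, 6)], 2, 1, [(14, 44), (86, 13), (44, 25), (248, 26), (135, 61), (310, 26), (12, 22), (170, 60), (69, 62), (16, 2), (168, 51), (257, 23), (125, 51), (127, 47), (186, 23)]⟩,
  ⟨[(1, 5), (2, 6), (3, 7), (4, 6), (5, 7), (6, 7)], 2, 1, [(73, 0), (26, 32), (139, 0), (8, 0), (274, 9), (241, 57), (250, 47), (207, 53), (312, 4), (270, 12), (173, 54), (279, 36), (28, 7), (240, 56), (302, 59)]⟩,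
  ⟨[(0, 4), (1, 6), (2, 7), (3, 6), (4, 7), (5, 7)], 3, 1, [(66, 2), (70, 14), (208, 60), (288, 36), (89, 53), (220, 59), (28, 19), (264, 47), (123, 47), (181, 21), (183, 44), (91, 0), (230, 25), (199, 30), (56, 41)]⟩,
  ⟨[(0, 1), (1, 5), (2, 6), (3, 7), (4, 6), (6, 7)], 2, 1, [(45, 0), (2, 32), (87, 0), (5, 0), (106, 19), (118, 14), (184, 47), (141, 44), (195, 41), (147, 17), (75, 44), (202, 14), (9, 43), (174, 56), (158, 35)]⟩,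
  ⟨[(0, 1), (1, 4), (2, 5), (3, 6), (4, 7), (6, 7)], 2, 1, [(24, 0), (35, 0), (50, 0), (1, 0), (224, 26), (116, 57), (120, 47), (90, 53), (297, 0), (272, 51), (99, 5), (156, 59), (7, 7), (203, 47), (200, 59)]⟩,
  ⟨[(0, 3), (2, 6), (3, 6), (4, 6)], 3, 1, [(242, 8), (137, 28), (190, 10), (261, 19), (310, 38), (152, 44), (234, 50), (99, 18), (212, 48), (311, 27), (314, 53), (256, 16), (260, 6), (227, 19), (309, 44)]⟩,
  ⟨[(0, 1), (1, 2)], 3, 1, [(3, 0), (12, 0), (31, 0), (33, 0), (15, 18), (53, 0), (11, 0), (73, 0), (75, 0), (42, 3), (120, 0), (157, 0), (40, 0), (102, 43), (107, 6)]⟩,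
  ⟨[(0, 5), (1, 5), (2, 4), (3, 6), (4, 7), (6, 7)], 3, 1, [(13, 0), (4, 5), (210, 0), (20, 32), (137, 18), (97, 0), (62, 14), (139, 47), (0, 0), (242, 3), (188, 0), (134, 61), (234, 0), (244, 16), (21, 19)]⟩,
  ⟨[(0, 3), (1, 5), (2, 6), (3, 7), (4, 5), (5, 6)], 3, 1, [(59, 0), (126, 0), (171, 22), (219, 0), (175, 6), (108, 26), (289, 0), (178, 57), (237, 39), (81, 53), (114, 44), (47, 0), (165, 39), (86, 30), (128, 55)]⟩,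
  ⟨[(0, 2), (1, 4), (2, 3), (3, 5), (4, 6), (5, 7)], 3, 1, [(33, 18), (75, 3), (211, 0), (218, 0), (138, 18), (181, 11), (107, 0), (282, 43), (148, 11), (243, 3), (89, 10), (230, 32), (235, 0), (277, 7), (287, 17)]⟩,
  ⟨[(0, 7), (2, 7), (3, 7), (4, 7), (5, 7), (6, 7)], 3, 1, [(61, 47), (63, 19), (289, 26), (26, 18), (7, 18), (257, 38), (5, 0), (126, 44), (68, 3), (23, 3), (155, 48), (258, 59), (22, 0), (59, 43), (64, 6)]⟩,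
  ⟨[(0, 5), (1, 2), (2, 7), (3, 7), (4, 7), (6, 7)], 3, 1, [(112, 22), (117, 57), (166, 28), (143, 53), (295, 23), (71, 5), (50, 30), (82, 24), (247, 21), (280, 47), (29, 0), (67, 58), (197, 40), (142, 23), (248, 21)]⟩,
  ⟨[(0, 5), (2, 3), (3, 5), (5, 6)], 3, 1, [(132, 32), (83, 3), (98, 6), (165, 41), (202, 55), (24, 3), (168, 46), (189, 29), (175, 33), (238, 33), (8, 32), (104, 28), (129, 26), (226, 11), (81, 39)]⟩,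
  ⟨[(1, 4), (2, 7), (3, 4), (4, 7), (5, 7), (6, 7)], 3, 1, [(148, 0), (218, 10), (191, 25), (10, 1), (41, 54), (7, 7), (287, 43), (101, 45), (78, 21), (39, 23), (22, 18), (23, 2), (14, 61), (274, 44), (106, 18)]⟩,
  ⟨[(0, 3), (1, 5), (2, 6), (3, 7), (4, 5), (5, 7)], 2, 1, [(72, 0), (103, 0), (138, 0), (7, 0), (159, 19), (198, 47), (74, 47), (203, 44), (259, 41), (208, 17), (120, 44), (109, 47), (27, 7), (140, 47), (151, 60)]⟩,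
  ⟨[(0, 3), (1, 2), (2, 4), (3, 5), (4, 6), (5, 7)], 3, 1, [(30, 0), (72, 0), (149, 0), (5, 53), (206, 0), (211, 0), (110, 6), (253, 0), (61, 10), (133, 1), (282, 43), (277, 18), (229, 52), (275, 59), (63, 34)]⟩,
  ⟨[(0, 2), (1, 2)], 3, 1, [(0, 0), (20, 18), (53, 0), (9, 0), (28, 18), (17, 0), (21, 0), (120, 0), (25, 0), (70, 3), (44, 0), (160, 36), (66, 0), (157, 43), (105, 0)]⟩,
  ⟨[(0, 4), (1, 5), (2, 7), (3, 5), (4, 7), (6, 7)], 3, 1, [(210, 0), (139, 47), (306, 20), (56, 53), (58, 54), (121, 26), (244, 16), (255, 60), (123, 21), (286, 11), (158, 10), (54, 2), (125, 45), (151, 44), (288, 34)]⟩,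
  ⟨[(1, 4), (2, 5), (3, 6), (4, 7)], 2, 1, [(41, 0), (58, 0), (83, 0), (3, 1), (268, 1), (177, 57), (69, 39), (143, 57), (303, 1), (171, 11), (155, 26), (160, 26), (16, 7), (135, 39), (260, 50)]⟩,
  ⟨[(0, 5), (1, 6), (2, 6), (3, 6)], 3, 1, [(308, 0), (271, 59), (211, 61), (151, 53), (101, 61), (251, 26), (214, 26), (282, 31), (255, 21), (191, 34), (285, 10), (146, 2), (274, 13), (277, 44), (306, 29)]⟩,
  ⟨[(1, 6), (6, 7)], 3, 1, [(224, 26), (76, 44), (237, 54), (36, 1), (115, 54), (29, 7), (34, 43), (219, 45), (2, 21), (109, 23), (67, 18), (71, 2), (48, 61), (128, 56), (38, 35)]⟩,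
  ⟨[(0, 5), (1, 4), (2, 6), (3, 7), (4, 6), (5, 7)], 2, 1, [(0, 44), (206, 4), (218, 23), (181, 26), (295, 23), (275, 26), (5, 22), (152, 51), (192, 23), (282, 2), (110, 51), (226, 26), (75, 51), (141, 51), (235, 4)]⟩,
  ⟨[(0, 6), (1, 5), (2, 7), (3, 7), (4, 7), (5, 7)], 2, 1, [(5, 44), (141, 13), (75, 25), (229, 21), (138, 58), (253, 8), (21, 22), (280, 42), (72, 59), (103, 57), (230, 51), (148, 23), (189, 51), (211, 50), (256, 23)]⟩,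
  ⟨[(1, 3), (2, 5), (3, 6), (4, 7)], 2, 1, [(104, 0), (145, 0), (193, 0), (70, 10), (215, 36), (185, 60), (73, 21), (136, 28), (278, 61), (281, 15), (101, 10), (79, 25), (26, 0), (139, 21), (269, 62)]⟩,
  ⟨[(0, 4), (1, 4), (2, 4), (3, 5), (4, 6), (5, 7)], 3, 1, [(21, 0), (0, 19), (71, 29), (26, 32), (144, 43), (150, 0), (20, 47), (29, 21), (68, 10), (263, 1), (254, 0), (262, 55), (249, 0), (67, 35), (64, 38)]⟩,
  ⟨[(0, 4), (1, 5), (2, 7), (3, 5), (4, 5), (6, 7)], 3, 1, [(272, 0), (207, 59), (147, 61), (95, 53), (282, 34), (183, 26), (281, 59), (252, 34), (186, 21), (277, 8), (220, 10), (91, 2), (211, 13), (213, 44), (303, 13)]⟩,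
  ⟨[(0, 5), (1, 7), (2, 7), (3, 7)], 3, 1, [(219, 0), (237, 39), (189, 47), (259, 56), (136, 60), (283, 37), (128, 55), (226, 30), (313, 40), (233, 34), (294, 44), (194, 0), (241, 5), (98, 1), (301, 55)]⟩,
  ⟨[(0, 7), (1, 6), (2, 6), (3, 6), (4, 6), (5, 6)], 3, 1, [(184, 18), (92, 17), (270, 12), (67, 53), (69, 32), (194, 33), (221, 37), (307, 5), (29, 22), (27, 1), (283, 14), (294, 30), (65, 52), (278, 23), (71, 41)]⟩,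
  ⟨[(0, 1), (1, 3), (3, 4), (4, 5), (5, 6), (6, 7)], 3, 1, [(26, 0), (68, 0), (147, 0), (154, 0), (85, 18), (208, 0), (64, 0), (252, 0), (93, 11), (177, 3), (199, 43), (264, 63), (170, 0), (213, 7), (222, 17)]⟩,
  ⟨[(0, 2), (1, 6), (2, 7), (3, 6), (4, 6), (5, 7)], 3, 1, [(6, 32), (1, 1), (100, 60), (286, 0), (282, 2), (163, 47), (37, 54), (180, 14), (58, 43), (211, 17), (124, 44), (57, 0), (277, 56), (88, 19), (125, 44)]⟩,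
  ⟨[(0, 6), (1, 5), (2, 7), (3, 5), (4, 5), (6, 7)], 2, 1, [(2, 44), (87, 13), (45, 25), (247, 26), (136, 61), (309, 26), (11, 22), (216, 51), (70, 62), (101, 60), (167, 51), (258, 23), (124, 51), (196, 60), (187, 23)]⟩,
  ⟨[], 3, 1, [(1, 0), (6, 0), (17, 0), (18, 0), (30, 0), (31, 0), (37, 0), (44, 0), (45, 0), (72, 0), (73, 0), (102, 0), (110, 0), (160, 0), (161, 0)]⟩,
  ⟨[(0, 4), (1, 7), (3, 4), (6, 7)], 3, 1, [(81, 32), (175, 10), (204, 46), (299, 40), (137, 55), (290, 47), (165, 38), (195, 18), (203, 25), (234, 10), (217, 32), (196, 18), (242, 49), (267, 30), (273, 41)]⟩,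
  ⟨[(1, 6), (2, 4), (3, 7), (4, 6), (5, 6), (6, 7)], 3, 1, [(82, 0), (142, 42), (72, 10), (183, 38), (145, 60), (298, 29), (166, 0), (30, 18), (91, 48), (284, 31), (96, 44), (187, 5), (250, 5), (110, 19), (220, 11)]⟩]

/-- A certificate. -/
def cLiftCert1 : List Inst := cLiftCert10 ++ cLiftCert11

/-- The lifted relation. -/
def cLift : List (ℕ × ℤ) := [
  (1, 1), (3, 1), (4, 1), (5, 1), (7, 1), (8, 1)]

/-- Invariance data. -/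
def cLiftFix : List (List (ℕ × ℕ) × List (ℕ × ℕ) × List Inst) := [
  ([(0, 1), (1, 2)], [(3, 0), (0, 0), (8, 0), (10, 0), (14, 0), (16, 0)], cLiftCert0),
  ([(0, 1), (1, 2), (2, 3), (3, 4)], [(73, 5), (69, 10), (5, 2), (59, 42), (8, 7), (101, 60)], cLiftCert1)]

theorem c_lift :
    fixOK cSpec 2 cSeeds cLift cLiftFix = true ∧
      cLiftFix.map Prod.fst = famA5n := by decide +kernel

/-- A part of a certificate. -/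
def cCert0 : List Inst := [
  ⟨[(0, 1), (1, 3), (3, 4), (4, 5), (5, 6), (6, 7)], 0, 1, [(16, 0), (73, 15), (51, 13)]⟩,
  ⟨[(0, 3), (1, 3), (2, 5), (3, 6), (4, 7), (5, 6)], 1, 1, [(22, 0), (193, 17), (123, 38)]⟩,
  ⟨[(0, 5), (1, 5), (3, 6), (4, 7)], 1, 1, [(80, 0), (274, 8), (310, 52)]⟩,
  ⟨[(0, 4), (1, 5), (2, 7), (3, 7), (5, 7), (6, 7)], 0, 1, [(225, 0), (232, 25), (275, 19)]⟩,
  ⟨[(0, 4), (1, 5), (3, 6), (4, 7)], 1, 1, [(34, 0), (295, 6), (43, 37)]⟩,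
  ⟨[(0, 7), (1, 5), (2, 3), (3, 5), (4, 5), (6, 7)], 0, 1, [(198, 0), (220, 30), (216, 44)]⟩,
  ⟨[(1, 3), (2, 4), (3, 5), (4, 6), (5, 7), (6, 7)], 1, 1, [(6, 0), (184, 18), (183, 38)]⟩,
  ⟨[(0, 6), (3, 6), (4, 6), (5, 6)], 0, 1, [(172, 0), (228, 19), (314, 55)]⟩,
  ⟨[(0, 5), (1, 2), (2, 7), (3, 7), (4, 7), (6, 7)], 1, 1, [(111, 0), (202, 55), (176, 52)]⟩,
  ⟨[(0, 6), (1, 7), (2, 4), (3, 7), (5, 7), (6, 7)], 1, 1, [(102, 0), (200, 60), (119, 37)]⟩,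
  ⟨[(0, 4), (3, 5), (4, 6), (5, 7)], 1, 1, [(79, 0), (130, 29), (313, 40)]⟩,
  ⟨[(0, 4), (1, 4), (2, 3), (3, 5), (4, 6), (5, 7)], 0, 1, [(15, 0), (76, 15), (184, 20)]⟩,
  ⟨[(0, 2), (1, 5), (3, 6), (4, 7)], 1, 1, [(54, 0), (270, 12), (257, 38)]⟩,
  ⟨[(0, 2), (1, 2), (2, 4), (3, 5), (4, 6), (5, 7)], 1, 1, [(11, 0), (271, 0), (74, 38)]⟩,
  ⟨[(0, 5), (1, 3), (2, 7), (4, 7), (5, 7), (6, 7)], 1, 1, [(109, 0), (216, 42), (178, 52)]⟩,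
  ⟨[(0, 6), (1, 4), (3, 7), (5, 7)], 0, 1, [(132, 0), (157, 30), (152, 44)]⟩,
  ⟨[(0, 3), (1, 5), (2, 6), (3, 7), (4, 6), (5, 7)], 1, 1, [(70, 0), (103, 57), (84, 51)]⟩,
  ⟨[(0, 5), (1, 5), (2, 7), (3, 5), (4, 7), (6, 7)], 1, 1, [(67, 0), (301, 17), (246, 54)]⟩,
  ⟨[(1, 3), (2, 3), (3, 4), (4, 5), (5, 6), (6, 7)], 1, 1, [(8, 0), (86, 12), (75, 38)]⟩,
  ⟨[(0, 4), (2, 6), (3, 7), (4, 6), (5, 6), (6, 7)], 1, 1, [(66, 0), (137, 55), (116, 52)]⟩,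
  ⟨[(0, 2), (2, 3), (3, 4), (4, 5), (5, 6), (6, 7)], 1, 1, [(10, 0), (135, 2), (73, 38)]⟩,
  ⟨[(0, 1), (1, 4), (2, 5), (3, 6), (4, 7), (6, 7)], 0, 1, [(24, 0), (217, 18), (134, 54)]⟩,
  ⟨[(0, 3), (1, 2), (3, 4), (4, 5), (5, 6), (6, 7)], 1, 1, [(26, 0), (51, 12), (69, 40)]⟩,
  ⟨[(0, 2), (2, 3), (3, 4), (4, 5), (5, 6), (6, 7)], 0, 1, [(10, 0), (69, 36), (139, 13)]⟩,
  ⟨[(0, 6), (1, 4), (2, 4), (3, 4)], 0, 1, [(166, 0), (278, 12), (299, 22)]⟩,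
  ⟨[(0, 6), (5, 6)], 0, 1, [(249, 0), (283, 10), (268, 54)]⟩,
  ⟨[(0, 1), (1, 2)], 0, 1, [(1, 0), (155, 4), (206, 4)]⟩,
  ⟨[(0, 4), (1, 5), (2, 4), (3, 6), (4, 7), (6, 7)], 0, 1, [(19, 0), (251, 15), (41, 54)]⟩,
  ⟨[(2, 6), (3, 6), (4, 6), (5, 6)], 1, 1, [(153, 0), (298, 32), (228, 19)]⟩,
  ⟨[(1, 5), (2, 5), (3, 6), (4, 7)], 0, 1, [(92, 0), (254, 15), (305, 18)]⟩,
  ⟨[(0, 2), (1, 3), (3, 4), (4, 5), (5, 6), (6, 7)], 1, 1, [(4, 0), (203, 12), (45, 38)]⟩,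
  ⟨[(0, 3), (1, 4), (2, 6), (3, 7), (4, 6), (5, 7)], 0, 1, [(161, 0), (197, 21), (194, 44)]⟩,
  ⟨[(1, 4), (2, 5), (3, 6), (4, 7), (5, 7), (6, 7)], 0, 1, [(13, 0), (239, 36), (83, 54)]⟩,
  ⟨[(0, 1), (1, 5), (2, 3), (3, 6), (4, 7), (5, 6)], 1, 1, [(55, 0), (208, 17), (258, 38)]⟩,
  ⟨[(0, 4), (1, 2), (2, 4), (3, 5), (4, 6), (5, 7)], 0, 1, [(27, 0), (124, 15), (271, 16)]⟩,
  ⟨[(0, 7), (1, 5), (2, 7), (3, 5), (4, 7), (6, 7)], 0, 1, [(133, 0), (164, 5), (301, 19)]⟩,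
  ⟨[(0, 4), (1, 5), (3, 6), (4, 7)], 0, 1, [(34, 0), (85, 14), (192, 20)]⟩,
  ⟨[(0, 6), (1, 2), (4, 6), (5, 6)], 1, 1, [(171, 0), (283, 28), (180, 54)]⟩,
  ⟨[(0, 3), (2, 5), (3, 6), (4, 7)], 0, 1, [(39, 0), (309, 28), (208, 19)]⟩,
  ⟨[(1, 5), (2, 3), (3, 6), (4, 7)], 1, 1, [(32, 0), (145, 17), (190, 38)]⟩,
  ⟨[(0, 7), (1, 5), (2, 3), (4, 7), (5, 7), (6, 7)], 0, 1, [(263, 0), (284, 30), (280, 14)]⟩,
  ⟨[(0, 2), (2, 5), (3, 6), (4, 7)], 0, 1, [(106, 0), (276, 28), (308, 50)]⟩,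
  ⟨[(0, 1), (2, 3), (3, 4), (4, 5), (5, 6), (6, 7)], 0, 1, [(5, 0), (173, 36), (86, 13)]⟩,
  ⟨[(0, 2), (1, 4), (2, 3), (3, 5), (4, 6), (5, 7)], 1, 1, [(30, 0), (204, 12), (46, 38)]⟩,
  ⟨[(0, 2), (1, 4), (2, 3), (3, 5), (4, 6), (5, 7)], 0, 1, [(30, 0), (121, 15), (88, 13)]⟩,
  ⟨[(0, 4), (1, 5), (2, 5), (3, 6), (4, 7), (6, 7)], 1, 1, [(35, 0), (134, 53), (191, 38)]⟩,
  ⟨[(0, 2), (1, 6), (2, 4), (3, 7), (4, 6), (5, 7)], 1, 1, [(95, 0), (181, 21), (157, 10)]⟩,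
  ⟨[(0, 4), (2, 6), (3, 6), (4, 6)], 1, 1, [(215, 0), (299, 48), (285, 10)]⟩,
  ⟨[(0, 5), (2, 7), (3, 7), (4, 5), (5, 7), (6, 7)], 1, 1, [(112, 0), (219, 28), (118, 54)]⟩,
  ⟨[(0, 1), (2, 5), (3, 6), (4, 7)], 1, 1, [(63, 0), (236, 0), (254, 38)]⟩,
  ⟨[(0, 3), (1, 7), (2, 5), (3, 5), (4, 5), (6, 7)], 0, 1, [(214, 0), (244, 28), (230, 44)]⟩,
  ⟨[(1, 6), (2, 4), (3, 7), (4, 6), (5, 6), (6, 7)], 1, 1, [(56, 0), (177, 32), (108, 19)]⟩,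
  ⟨[(0, 5), (1, 5), (2, 7), (3, 5), (4, 7), (6, 7)], 0, 1, [(67, 0), (213, 5), (243, 55)]⟩,
  ⟨[(0, 6), (1, 3), (2, 3), (5, 6)], 0, 1, [(169, 0), (303, 52), (180, 55)]⟩,
  ⟨[(0, 2), (2, 5), (3, 6), (4, 7)], 1, 1, [(106, 0), (292, 0), (291, 48)]⟩,
  ⟨[(0, 1), (1, 2), (2, 6), (6, 7)], 1, 1, [(222, 0), (303, 60), (249, 37)]⟩,
  ⟨[(0, 3), (1, 5), (2, 6), (3, 7), (4, 5), (5, 6)], 0, 1, [(42, 0), (103, 14), (136, 61)]⟩,
  ⟨[(0, 5), (1, 7), (2, 4), (3, 4), (4, 5), (6, 7)], 1, 1, [(273, 0), (275, 17), (286, 9)]⟩,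
  ⟨[(0, 1), (1, 2), (2, 4), (3, 5), (4, 6), (5, 7)], 1, 1, [(37, 0), (255, 30), (185, 38)]⟩,
  ⟨[(1, 4), (3, 5), (4, 6), (5, 7)], 1, 1, [(17, 0), (140, 12), (124, 38)]⟩]

/-- A part of a certificate. -/
def cCert1 : List Inst := [
  ⟨[(0, 2), (1, 2), (2, 4), (3, 5), (4, 6), (5, 7)], 0, 1, [(11, 0), (237, 36), (140, 13)]⟩,
  ⟨[(1, 7), (2, 5), (3, 7), (4, 5), (5, 7), (6, 7)], 1, 1, [(97, 0), (243, 32), (164, 19)]⟩,
  ⟨[(0, 3), (1, 4), (2, 6), (3, 7), (5, 6), (6, 7)], 1, 1, [(105, 0), (197, 17), (261, 19)]⟩,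
  ⟨[(0, 3), (1, 3), (3, 4), (4, 5), (5, 6), (6, 7)], 0, 1, [(7, 0), (45, 15), (144, 16)]⟩,
  ⟨[(0, 6), (1, 4), (2, 6), (3, 7), (5, 6), (6, 7)], 0, 1, [(82, 0), (108, 5), (260, 19)]⟩,
  ⟨[(0, 4), (3, 5), (4, 6), (5, 7)], 0, 1, [(79, 0), (93, 7), (255, 28)]⟩,
  ⟨[(0, 2), (1, 4), (2, 4), (3, 5), (4, 6), (5, 7)], 1, 1, [(53, 0), (269, 12), (93, 25)]⟩,
  ⟨[(0, 3), (1, 6), (3, 7), (4, 7), (5, 6), (6, 7)], 4, 1, [(211, 6), (21, 14), (24, 10), (185, 18), (191, 6), (269, 18)]⟩,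
  ⟨[(0, 6), (3, 4), (4, 6), (6, 7)], 4, 1, [(285, 0), (278, 56), (198, 32), (263, 39), (247, 57), (229, 28)]⟩,
  ⟨[(0, 2), (1, 3), (3, 4), (4, 7)], 4, 1, [(203, 46), (87, 46), (39, 58), (287, 1), (159, 51), (305, 2)]⟩,
  ⟨[(0, 7), (2, 3), (3, 4), (4, 6), (5, 7), (6, 7)], 4, 1, [(310, 30), (312, 20), (105, 31), (71, 48), (194, 38), (137, 33)]⟩,
  ⟨[(0, 7), (1, 4), (2, 3), (3, 4), (4, 6), (5, 6)], 4, 1, [(80, 62), (270, 49), (17, 51), (200, 27), (237, 48), (116, 34)]⟩,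
  ⟨[(0, 1), (1, 3), (2, 3), (4, 6), (5, 7), (6, 7)], 4, 1, [(1, 45), (0, 31), (172, 49), (171, 49), (113, 49), (169, 40)]⟩,
  ⟨[(0, 6), (1, 7), (2, 6), (3, 7), (4, 6), (6, 7)], 4, 1, [(204, 4), (121, 4), (314, 12), (15, 46), (298, 8), (175, 20)]⟩,
  ⟨[(0, 7), (1, 4), (4, 7), (5, 7)], 4, 1, [(305, 49), (63, 28), (100, 61), (291, 23), (217, 49), (308, 47)]⟩,
  ⟨[(0, 4), (1, 7), (2, 3), (3, 7), (5, 7), (6, 7)], 4, 1, [(274, 6), (38, 14), (44, 10), (253, 18), (173, 26), (94, 60)]⟩,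
  ⟨[(0, 1), (1, 4), (2, 6), (3, 6), (4, 7), (5, 7)], 4, 1, [(166, 23), (264, 23), (76, 8), (104, 26), (6, 60), (190, 2)]⟩,
  ⟨[(1, 6), (3, 6), (5, 7), (6, 7)], 4, 1, [(314, 16), (298, 34), (84, 52), (244, 35), (138, 41), (229, 57)]⟩,
  ⟨[(0, 7), (1, 6), (2, 6), (3, 7)], 4, 1, [(88, 13), (46, 25), (253, 15), (160, 34), (94, 21), (177, 38)]⟩,
  ⟨[(0, 6), (1, 7), (2, 5), (3, 6), (4, 6), (6, 7)], 4, 1, [(139, 22), (26, 5), (294, 46), (37, 21), (123, 59), (130, 11)]⟩,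
  ⟨[(0, 6), (1, 7), (3, 7), (4, 7)], 4, 1, [(175, 40), (183, 4), (283, 18), (27, 46), (242, 18), (140, 34)]⟩,
  ⟨[(0, 1), (1, 3), (2, 6), (3, 7), (5, 6), (6, 7)], 4, 1, [(74, 11), (140, 15), (66, 36), (257, 7), (119, 36), (38, 21)]⟩,
  ⟨[(0, 2), (1, 3), (2, 4), (3, 6), (4, 7), (6, 7)], 4, 1, [(246, 32), (243, 28), (132, 23), (31, 62), (95, 23), (307, 9)]⟩,
  ⟨[(0, 4), (1, 6), (3, 6), (4, 7), (5, 7), (6, 7)], 4, 1, [(215, 34), (264, 49), (294, 43), (71, 27), (193, 39), (102, 34)]⟩,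
  ⟨[(0, 6), (2, 3), (4, 6), (5, 7)], 4, 1, [(268, 40), (222, 48), (262, 10), (298, 20), (297, 9), (314, 31)]⟩,
  ⟨[(0, 7), (1, 4), (2, 3), (3, 7), (4, 7), (5, 6)], 4, 1, [(147, 61), (292, 27), (24, 62), (258, 33), (68, 46), (159, 55)]⟩,
  ⟨[(0, 3), (1, 3), (2, 6), (3, 6), (4, 7), (5, 7)], 4, 1, [(262, 57), (212, 50), (307, 11), (24, 39), (31, 35), (68, 39)]⟩,
  ⟨[(1, 6), (2, 4), (3, 5), (4, 5), (5, 6), (6, 7)], 4, 1, [(83, 25), (41, 9), (76, 59), (48, 22), (174, 59), (32, 11)]⟩,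
  ⟨[(3, 4), (5, 6)], 4, 1, [(84, 32), (136, 32), (7, 15), (5, 11), (4, 22), (14, 15)]⟩,
  ⟨[(1, 5), (2, 3), (3, 6), (5, 6)], 4, 1, [(48, 16), (22, 16), (176, 63), (251, 52), (118, 56), (239, 63)]⟩,
  ⟨[(0, 6), (1, 7), (2, 6), (3, 4)], 4, 1, [(82, 45), (56, 31), (219, 44), (107, 48), (111, 57), (197, 33)]⟩,
  ⟨[(0, 4), (1, 4), (2, 5), (3, 6), (4, 5), (5, 6)], 4, 1, [(29, 20), (19, 20), (43, 40), (178, 41), (85, 48), (247, 56)]⟩,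
  ⟨[(1, 6), (2, 3), (3, 6), (4, 6), (5, 7), (6, 7)], 4, 1, [(226, 62), (225, 52), (143, 46), (113, 16), (206, 55), (153, 16)]⟩,
  ⟨[(2, 3), (3, 4), (5, 7), (6, 7)], 4, 1, [(14, 23), (8, 23), (87, 59), (138, 55), (144, 39), (84, 62)]⟩,
  ⟨[(0, 7), (1, 7), (2, 4), (3, 4), (5, 6), (6, 7)], 4, 1, [(55, 37), (309, 56), (236, 45), (100, 52), (92, 52), (35, 41)]⟩,
  ⟨[(0, 3), (1, 7), (2, 3), (3, 4), (4, 7), (6, 7)], 4, 1, [(147, 5), (276, 28), (44, 39), (312, 11), (75, 47), (54, 35)]⟩,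
  ⟨[(0, 7), (1, 3), (2, 7), (3, 6), (5, 7), (6, 7)], 4, 1, [(53, 50), (313, 22), (260, 9), (197, 13), (160, 13), (107, 25)]⟩,
  ⟨[(0, 5), (1, 4), (2, 5), (3, 6), (4, 7), (5, 7)], 4, 1, [(13, 18), (29, 18), (135, 18), (3, 19), (16, 10), (155, 0)]⟩,
  ⟨[(0, 3), (1, 6), (2, 4), (3, 4), (4, 7), (5, 7)], 4, 1, [(97, 50), (213, 28), (305, 48), (189, 8), (287, 33), (21, 60)]⟩,
  ⟨[(0, 3), (1, 7), (2, 4), (3, 6), (5, 6), (6, 7)], 4, 1, [(261, 7), (161, 1), (133, 58), (211, 24), (243, 59), (189, 3)]⟩,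
  ⟨[(0, 3), (1, 3), (2, 3), (3, 6), (4, 6), (5, 7)], 4, 1, [(226, 41), (286, 33), (242, 9), (297, 13), (283, 13), (212, 39)]⟩,
  ⟨[(1, 4), (2, 5), (4, 6), (6, 7)], 4, 1, [(76, 39), (174, 39), (145, 6), (265, 55), (104, 6), (112, 41)]⟩,
  ⟨[(0, 4), (2, 6), (3, 4), (4, 6)], 4, 1, [(214, 59), (280, 28), (109, 26), (70, 50), (220, 19), (42, 35)]⟩,
  ⟨[(0, 6), (1, 5), (2, 7), (3, 4), (4, 7), (5, 6)], 4, 1, [(143, 40), (3, 26), (152, 7), (192, 59), (181, 0), (295, 59)]⟩,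
  ⟨[(0, 6), (1, 3), (2, 3), (3, 6), (5, 6), (6, 7)], 4, 1, [(232, 43), (273, 58), (230, 55), (265, 63), (284, 47), (202, 56)]⟩]

/-- A certificate. -/
def cCert : List Inst := cCert0 ++ cCert1

theorem c_final : finalOK cSpec 2 (cSeeds ++ [cLift]) cCert 1 = true := by decide +kernel

end Cfsg.Agent.Solv.AltSec.Two
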