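import Cfsg.Agent.Lib.Solv.AltSec.Engine

/-!
Certificate data for subgroups.
-/

set_option autoImplicit false

namespace Cfsg.Agent.Solv.AltSec.Two

/-- Generators of a nonsolvable subgroup. -/
def famA5n : List (List (ℕ × ℕ)) := [
  [(0, 1), (1, 2)], [(0, 1), (1, 2), (2, 3), (3, 4)]]

/-- The generators are commutators. -/
def famA5nComm : List (List ℕ × List ℕ × List ℕ × List ℕ) := [
  ([0, 0], [1, 1, 0, 0, 1, 0, 1], [0], [1, 1, 0, 0, 1, 0, 1]),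
  ([0], [0, 1, 0, 1], [0, 0], [1, 0, 1, 0, 0])]

/-- Generators of a nonsolvable subgroup. -/
def famA5t : List (List (ℕ × ℕ)) := [
  [(0, 1), (1, 2), (2, 3), (3, 4)], [(0, 5), (1, 4)]]

/-- The generators are commutators. -/
def famA5tComm : List (List ℕ × List ℕ × List ℕ × List ℕ) := [
  ([0, 0, 0], [1, 0, 0, 1, 0, 0, 0, 1], [0, 0], [1, 0, 0, 1, 0, 0, 0, 1]),
  ([0, 1, 0, 0, 0], [1, 0, 0, 0, 1, 0], [0, 0, 0, 1, 0, 1], [1, 0, 1, 0, 0, 0, 1])]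

/-- Generators of a nonsolvable subgroup. -/
def famL27x8 : List (List (ℕ × ℕ)) := [
  [(0, 1), (1, 2), (2, 3), (3, 4), (4, 5), (5, 6)], [(0, 7), (1, 6), (2, 3), (4, 5)]]

/-- The generators are commutators. -/
def famL27x8Comm : List (List ℕ × List ℕ × List ℕ × List ℕ) := [
  ([0, 0], [1, 0, 0, 0, 0, 1, 0, 0, 1], [0, 0, 0, 0, 0], [0, 1, 0, 0, 1, 0, 0, 0, 0, 1]),
  ([0, 0, 1, 0, 0, 0, 0], [0, 1, 0, 0, 0, 1, 0, 0], [0, 0, 0, 1, 0, 0, 0, 0, 0], [0, 1, 0, 0, 0, 1, 0, 0])]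

/-- Generators of a nonsolvable subgroup. -/
def famL28b : List (List (ℕ × ℕ)) := [
  [(0, 1), (2, 3), (4, 5), (6, 7)], [(0, 2), (2, 4), (3, 6), (4, 6), (5, 6), (6, 7)],
  [(1, 8), (2, 5), (3, 6), (4, 7)]]

/-- The generators are commutators. -/
def famL28bComm : List (List ℕ × List ℕ × List ℕ × List ℕ) := [
  ([1], [1, 0, 1, 0], [2, 1, 2], [1, 1, 0, 1, 1, 1]), ([2], [1, 1, 1], [2], [1, 1, 1, 1]),
  ([0, 1, 0], [0, 1, 1, 0, 2], [0, 2, 1, 2, 0], [1, 1, 1, 2, 0, 1])]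

end Cfsg.Agent.Solv.AltSec.Two
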