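import Cfsg.Agent.Lib.Solv.AltSec.Hyp
import Cfsg.Agent.Lib.Solv.AltSec.Two.DataA
import Cfsg.Agent.Lib.Solv.AltSec.Two.DataC

/-!
A nonzero module of the alternating group of degree nine in characteristic two contains a nonzero
vector fixed by a nonsolvable subgroup.
-/

set_option autoImplicit false
set_option linter.style.haveILetI false

namespace Cfsg.Agent.Solv.AltSec.Two

theorem comm_A5n : commOK 9 famA5n famA5nComm = true := by decide +kernel
theorem comm_A5t : commOK 9 famA5t famA5tComm = true := by decide +kernel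
theorem comm_L27 : commOK 9 famL27x8 famL27x8Comm = true := by decide +kernel
theorem comm_L28 : commOK 9 famL28b famL28bComm = true := by decide +kernel

theorem caseA {V : Type*} [AddCommGroup V] [inst : DistribMulAction (alternatingGroup (Fin 9)) V]
    (H : Hyp 9 V) (h2 : ∀ u : V, (2 : ℤ) • u = 0) (v : V)
    (hfix : ∀ g ∈ aGens, el 9 (wcode 9 g.1) • v = v) : v = 0 := by
  letI : DistribMulAction (alternatingGroup (Fin aSpec.n)) V := inst
  have hb : aSpec.Base v := base_of (S := aSpec) (by norm_num [aSpec]) v a_tbl aGens aSteps a_K a_gens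
    fun g hg => by
      have h1 : g.2 = 1 := by
        have : aGens.all (fun g => g.2 == 1) = true := by decide +kernel
        exact beq_iff_eq.1 (List.all_eq_true.1 this g hg)
      rw [h1, one_smul]
      exact hfix g hg
  have h0 : ∀ w ∈ aSeeds, aSpec.ev v w = 0 := by
    intro w hw
    obtain ⟨i, hi, rfl⟩ := List.mem_iff_getElem.1 hw
    rw [← List.getD_eq_getElem _ [] hi]
    change i < 7 at hi
    have z : ∀ w' ∈ ([] : List (List (ℕ × ℤ))), aSpec.ev v w' = 0 := fun w' h => absurd h List.not_mem_nil
    interval_cases i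
    · exact Hyp.seed (S := aSpec) H hb h2 z comm_A5t a_fix0
    · exact Hyp.seed (S := aSpec) H hb h2 z comm_A5t a_fix1
    · exact Hyp.seed (S := aSpec) H hb h2 z comm_A5t a_fix2
    · exact Hyp.seed (S := aSpec) H hb h2 z comm_L27 a_fix3
    · exact Hyp.seed (S := aSpec) H hb h2 z comm_L27 a_fix4
    · exact Hyp.seed (S := aSpec) H hb h2 z comm_L27 a_fix5
    · exact Hyp.seed (S := aSpec) H hb h2 z comm_L28 a_fix6
  simpa using final_zero (S := aSpec) hb h2 h0 a_final

/-- The transposition exchanging the two cases. -/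
def tauCode : ℕ := swapCode 9 4 5

theorem twist_ok : ((aGens.zip (cYbFix.map Prod.fst)).all fun q =>
    wordOK 9 q.1.1 && wordOK 9 q.2 &&
      Nat.beq (comp 9 tauCode (comp 9 (wcode 9 q.1.1) tauCode)) (wcode 9 q.2)) = true ∧
    aGens.length ≤ cYbFix.length ∧ aGens.map Prod.fst = cYaFix.map Prod.fst := by decide +kernel

/-- Conjugation by a transposition, as an automorphism of the alternating group. -/
noncomputable def twist : alternatingGroup (Fin 9) →* alternatingGroup (Fin 9) :=
  (MulAut.conjNormal (H := alternatingGroup (Fin 9)) (Equiv.swap (4 : Fin 9) 5)).toMonoidHom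

theorem el_twist {a b : List (ℕ × ℕ)} (ha : wordOK 9 a = true) (hb : wordOK 9 b = true)
    (h : comp 9 tauCode (comp 9 (wcode 9 a) tauCode) = wcode 9 b) :
    twist (el 9 (wcode 9 a)) = el 9 (wcode 9 b) := by
  obtain ⟨t1, t2⟩ := swapCode_spec (n := 9) (by norm_num) 4 5
  have hA := evn_wcode (n := 9) (by norm_num) ha
  obtain ⟨c1, c2⟩ := comp_spec (n := 9) (by norm_num) hA.1 t1
  obtain ⟨-, e2⟩ := comp_spec (n := 9) (by norm_num) t1 c1
  apply Subtype.ext
  rw [el_val (evn_wcode (by norm_num) hb)]
  show ((MulAut.conjNormal (Equiv.swap (4 : Fin 9) 5) (el 9 (wcode 9 a)) : alternatingGroup (Fin 9)) :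
    Equiv.Perm (Fin 9)) = _
  rw [MulAut.conjNormal_apply, el_val hA, Equiv.swap_inv, mul_assoc, ← t2, ← c2, ← e2, ← h]
  rfl

theorem caseB {V : Type*} [AddCommGroup V] [inst : DistribMulAction (alternatingGroup (Fin 9)) V]
    (H : Hyp 9 V) (h2 : ∀ u : V, (2 : ℤ) • u = 0) (v : V)
    (hfix : ∀ g ∈ cYbFix, el 9 (wcode 9 g.1) • v = v) : v = 0 := by
  have hfix' : ∀ g ∈ aGens, twist (el 9 (wcode 9 g.1)) • v = v := by
    intro g hg
    obtain ⟨k, hk, rfl⟩ := List.mem_iff_getElem.1 hg
    have hk2 : k < (cYbFix.map Prod.fst).length := by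
      rw [List.length_map]
      exact lt_of_lt_of_le hk twist_ok.2.1
    have hz : (aGens[k], (cYbFix.map Prod.fst)[k]) ∈ aGens.zip (cYbFix.map Prod.fst) :=
      List.mem_iff_getElem.2 ⟨k, by rw [List.length_zip]; exact lt_min hk hk2, List.getElem_zip⟩
    have h := List.all_eq_true.1 twist_ok.1 _ hz
    simp only [Bool.and_eq_true, Nat.beq_eq] at h
    have e := el_twist h.1.1 h.1.2 h.2
    obtain ⟨q, hq, hqe⟩ := List.mem_map.1 (List.getElem_mem hk2)
    rw [← hqe] at e
    have h3 := hfix q hq
    rw [← e] at h3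
    exact h3
  refine @caseA V _ (DistribMulAction.compHom V twist) ?_ h2 v hfix'
  intro R hR u hu
  refine H (R.map twist) (fun hs => hR ?_) u fun r hr => ?_
  · have hinj : Function.Injective twist := MulEquiv.injective _
    exact Group.isSolvable_of_isSolvable_injective (f := (R.equivMapOfInjective twist hinj).toMonoidHom)
      (R.equivMapOfInjective twist hinj).injective
  · obtain ⟨s, hs, rfl⟩ := Subgroup.mem_map.1 hr
    exact hu s hs

theorem caseC {V : Type*} [AddCommGroup V] [inst : DistribMulAction (alternatingGroup (Fin 9)) V]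
    (H : Hyp 9 V) (h2 : ∀ u : V, (2 : ℤ) • u = 0) (v : V)
    (hfix : ∀ g ∈ cGens, el 9 (wcode 9 g.1) • v = v) : v = 0 := by
  letI : DistribMulAction (alternatingGroup (Fin cSpec.n)) V := inst
  have hb : cSpec.Base v := base_of (S := cSpec) (by norm_num [cSpec]) v c_tbl cGens cSteps c_K c_gens
    fun g hg => by
      have h1 : g.2 = 1 := by
        have : cGens.all (fun g => g.2 == 1) = true := by decide +kernel
        exact beq_iff_eq.1 (List.all_eq_true.1 this g hg)
      rw [h1, one_smul]
      exact hfix g hg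
  have h0 : ∀ w ∈ cSeeds, cSpec.ev v w = 0 := by
    intro w hw
    obtain ⟨i, hi, rfl⟩ := List.mem_iff_getElem.1 hw
    rw [← List.getD_eq_getElem _ [] hi]
    change i < 4 at hi
    have z : ∀ w' ∈ ([] : List (List (ℕ × ℤ))), cSpec.ev v w' = 0 := fun w' h => absurd h List.not_mem_nil
    interval_cases i
    · refine caseA H h2 _ fun g hg => ?_
      have hm : g.1 ∈ cYaFix.map Prod.fst := twist_ok.2.2 ▸ List.mem_map_of_mem hg
      obtain ⟨q, hq, hqe⟩ := List.mem_map.1 hm
      rw [← hqe]
      exact ev_invariant (S := cSpec) hb h2 c_ya q hq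
    · exact caseB H h2 _ fun g hg => ev_invariant (S := cSpec) hb h2 c_yb g hg
    · exact Hyp.seed (S := cSpec) H hb h2 z comm_A5n c_fix2
    · exact Hyp.seed (S := cSpec) H hb h2 z comm_A5t c_fix3
  have h1 : ∀ w ∈ cSeeds ++ [cLift], cSpec.ev v w = 0 := by
    intro w hw
    rcases List.mem_append.1 hw with h | h
    · exact h0 w h
    · rw [List.mem_singleton] at h
      subst h
      exact Hyp.seed (S := cSpec) H hb h2 h0 comm_A5n c_lift
  simpa using final_zero (S := cSpec) hb h2 h1 c_final

/-- Generators of the Sylow subgroup in the order used to find a fixed vector. -/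
def sylList : List (List (ℕ × ℕ)) := cGens.map Prod.fst

theorem syl_ok : (List.range 6).all (fun i =>
    wordOK 9 (sylList.getD i []) &&
    Nat.beq (comp 9 (wcode 9 (sylList.getD i [])) (wcode 9 (sylList.getD i []))) (idCode 9) &&
    (List.range i).all fun j =>
      Nat.beq (comp 9 (wcode 9 (sylList.getD i [])) (comp 9 (wcode 9 (sylList.getD j [])) (wcode 9 (sylList.getD i []))))
        (evalW 9 (sylList.take i)
          (((([[], [[0]], [[0], [1]], [[0], [1], [2]], [[2], [3], [0], [1]],
            [[0], [0, 1], [2], [2, 3], [4]]] : List (List (List ℕ)))).getD i []).getD j []))) = true ∧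
    sylList.length = 6 := by decide +kernel

theorem fixed_vector {V : Type*} [AddCommGroup V] [DistribMulAction (alternatingGroup (Fin 9)) V]
    (h2 : ∀ u : V, u + u = 0) (x : V) (hx : x ≠ 0) :
    ∀ i ≤ 6, ∃ u : V, u ≠ 0 ∧ ∀ j < i, el 9 (wcode 9 (sylList.getD j [])) • u = u
  | 0, _ => ⟨x, hx, fun j hj => absurd hj (Nat.not_lt_zero j)⟩
  | i + 1, hi => by
    obtain ⟨u, hu, hfix⟩ := fixed_vector h2 x hx i (Nat.le_of_succ_le hi)
    have h := List.all_eq_true.1 syl_ok.1 i (List.mem_range.2 hi)
    simp only [Bool.and_eq_true, Nat.beq_eq, List.all_eq_true, List.mem_range] at h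
    obtain ⟨⟨hw, hsq⟩, hconj⟩ := h
    set T := el 9 (wcode 9 (sylList.getD i [])) with hT
    have hTe := evn_wcode (n := 9) (by norm_num) hw
    have hT2 : T * T = 1 := by
      rw [hT, ← (hTe.comp (by norm_num) hTe).2, hsq, (evn_id (by norm_num)).2]
    by_cases he : T • u = u
    · exact ⟨u, hu, fun j hj => (Nat.lt_succ_iff_lt_or_eq.1 hj).elim (hfix j) fun hji => hji ▸ he⟩
    refine ⟨u + T • u, fun h0 => he ?_, fun j hj => ?_⟩
    · calc T • u = (u + u) + T • u := by rw [h2 u, zero_add]
        _ = u + (u + T • u) := add_assoc _ _ _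
        _ = u := by rw [h0, add_zero]
    rcases Nat.lt_succ_iff_lt_or_eq.1 hj with hji | rfl
    · rw [smul_add, hfix j hji]
      congr 1
      have hwj : wordOK 9 (sylList.getD j []) = true := by
        have := List.all_eq_true.1 syl_ok.1 j (List.mem_range.2 (lt_of_lt_of_le hji (Nat.le_of_succ_le hi)))
        simp only [Bool.and_eq_true] at this
        exact this.1.1
      have hje := evn_wcode (n := 9) (by norm_num) hwj
      have hc := (hTe.comp (by norm_num) (hje.comp (by norm_num) hTe).1).2
      rw [hconj j hji, (hje.comp (by norm_num) hTe).2, ← hT] at hc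
      have hmem := (evalW_spec (n := 9) (by norm_num) (G := sylList.take i) (fun g hg => by
        obtain ⟨k, hk, rfl⟩ := List.mem_iff_getElem.1 hg
        have hk' := hk
        rw [List.length_take] at hk'
        have := List.all_eq_true.1 syl_ok.1 k (List.mem_range.2 (by omega))
        simp only [Bool.and_eq_true] at this
        rw [List.getElem_take, ← List.getD_eq_getElem _ [] (by omega)]
        exact this.1.1) (MulAction.stabilizer (alternatingGroup (Fin 9)) u) (fun g hg => by
        obtain ⟨k, hk, rfl⟩ := List.mem_iff_getElem.1 hg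
        have hk' := hk
        rw [List.length_take] at hk'
        rw [List.getElem_take, ← List.getD_eq_getElem _ [] (by omega)]
        exact hfix k (by omega)) (((([[], [[0]], [[0], [1]], [[0], [1], [2]], [[2], [3], [0], [1]],
            [[0], [0, 1], [2], [2, 3], [4]]] : List (List (List ℕ)))).getD i []).getD j [])).2
      rw [hc, MulAction.mem_stabilizer_iff, ← mul_smul] at *
      set J := el 9 (wcode 9 (sylList.getD j []))
      calc (J * T) • u = (T * T * J * T) • u := by rw [hT2, one_mul]
        _ = T • ((T * (J * T)) • u) := by rw [← mul_smul, mul_assoc, mul_assoc]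
        _ = T • u := by rw [hmem]
    · rw [smul_add, ← mul_smul, hT2, one_smul, add_comm]

theorem key_two {V : Type*} [AddCommGroup V] [DistribMulAction (alternatingGroup (Fin 9)) V]
    (h2 : ∀ u : V, u + u = 0) (H : Hyp 9 V) (x : V) : x = 0 := by
  by_contra hx
  obtain ⟨v, hv, hfix⟩ := fixed_vector h2 x hx 6 le_rfl
  refine hv (caseC H (fun u => by rw [two_smul]; exact h2 u) v fun g hg => ?_)
  obtain ⟨j, hj, hje⟩ := List.mem_iff_getElem.1 (show g.1 ∈ sylList from List.mem_map_of_mem hg)
  rw [← hje, ← List.getD_eq_getElem _ [] hj]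
  exact hfix j (syl_ok.2 ▸ hj)

end Cfsg.Agent.Solv.AltSec.Two
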